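import Cfsg.Agent.Lib.Sporadic.HNLower.Order

/-!
# The presented Harada–Norton group is simple (owner: helper25)
-/

set_option autoImplicit false
set_option maxRecDepth 20000

namespace CfsgLib.Sporadic.HNLower

open Cfsg CfsgLib.Sporadic CfsgLib.Sporadic.HNGroup CfsgLib.Sporadic.HNCoset
open scoped commutatorElement

theorem card_N0_le : Nat.card N0 ≤ 177408000 :=
  (Nat.card_le_card_of_surjective _ toHN.rangeRestrict_surjective).trans card_P0_le

theorem card_N0_and_index : Nat.card N0 = 177408000 ∧ N0.index = 1539000 := by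
  have h := N0.index_mul_card
  rw [card_eq] at h
  have h1 := card_N0_le
  have h2 := index_le
  have h3 : N0.index * Nat.card N0 ≤ N0.index * 177408000 := Nat.mul_le_mul_left _ h1
  have hi : N0.index = 1539000 := by omega
  rw [hi] at h
  exact ⟨by omega, hi⟩

theorem toHN_injective : Function.Injective toHN := by
  have : Finite P0 := finP0
  have : Fintype P0 := Fintype.ofFinite _
  have : Fintype N0 := Fintype.ofFinite _
  have hb : Function.Bijective toHN.rangeRestrict := by
    rw [Fintype.bijective_iff_surjective_and_card]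
    refine ⟨toHN.rangeRestrict_surjective, ?_⟩
    rw [← Nat.card_eq_fintype_card, ← Nat.card_eq_fintype_card]
    refine le_antisymm ?_ (Nat.card_le_card_of_surjective _ toHN.rangeRestrict_surjective)
    rw [card_N0_and_index.1]
    exact card_P0_le
  exact fun a b h => hb.1 (Subtype.ext h)

/-- A normal subgroup containing the two even generators is everything. -/
theorem eq_top_of_mem {M : Subgroup Spor.HN} (hM : M.Normal)
    (hx : (PresentedGroup.of Spor.HN.Gen.x : Spor.HN) ∈ M) (hy : (PresentedGroup.of Spor.HN.Gen.y : Spor.HN) ∈ M) :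
    M = ⊤ := by
  set π := QuotientGroup.mk' M with hπ
  have k : ∀ {g : Spor.HN}, g ∈ M → π g = 1 := fun h => (QuotientGroup.eq_one_iff _).2 h
  have hT : T ∈ M := by
    rw [← QuotientGroup.eq_one_iff]
    show π T = 1
    have h3 : π T ^ 3 = 1 := by
      have := congrArg π rel_t_x
      rw [map_mul, map_mul, map_mul, map_inv, k hx, map_pow, map_one, inv_one, one_mul, mul_one] at this
      rwa [pow_succ' _ 2]
    have h5 : π T ^ 5 = 1 := by rw [← map_pow, rel_t_five, map_one]
    calc π T = π T ^ 6 * (π T ^ 5)⁻¹ := by group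
      _ = 1 := by rw [show π T ^ 6 = (π T ^ 3) ^ 2 by rw [← pow_mul], h3, h5, one_pow, inv_one, mul_one]
  have hz : (PresentedGroup.of Spor.HN.Gen.z : Spor.HN) ∈ M := by
    rw [← QuotientGroup.eq_one_iff]
    show π _ = 1
    have h3 := congrArg π rel_z_t
    rw [map_pow, map_mul, k hT, mul_one, map_one] at h3
    have h2 : π (PresentedGroup.of Spor.HN.Gen.z) ^ 2 = 1 := by
      rw [← map_pow, pow_two, ← toHN_z, ← map_mul toHN, L_z_sq, map_one, map_one]
    calc π (PresentedGroup.of Spor.HN.Gen.z) = π (PresentedGroup.of Spor.HN.Gen.z) ^ 3 *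
          (π (PresentedGroup.of Spor.HN.Gen.z) ^ 2)⁻¹ := by group
      _ = 1 := by rw [h3, h2, inv_one, mul_one]
  rw [eq_top_iff, ← PresentedGroup.closure_range_of, Subgroup.closure_le]
  rintro _ ⟨i, rfl⟩
  cases i
  exacts [hx, hy, hz, hT]

/-- The group is perfect. -/
theorem perfect : commutator Spor.HN = ⊤ := by
  have hQ : ∀ q ∈ HNGroup.Q, toHN q ∈ commutator Spor.HN := fun q hq => by
    rw [HNGroup.Q, commutator_def] at hq
    rw [commutator_def]
    exact Subgroup.commutator_mono le_top le_top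
      ((Subgroup.map_commutator ⊤ ⊤ toHN) ▸ Subgroup.mem_map_of_mem toHN hq)
  refine eq_top_of_mem inferInstance ?_ ?_
  · rw [← toHN_x]; exact hQ _ L_mem_Q.1
  · rw [← toHN_y]; exact hQ _ L_mem_Q.2

/-- Only the centre lies under a proper normal subgroup of the perfect part. -/
theorem inter_Q {M : Subgroup Spor.HN} (hM : M.Normal) (hne : M ≠ ⊤) {q : P0} (hq : q ∈ HNGroup.Q)
    (hqM : toHN q ∈ M) : (⟨q, hq⟩ : ↥HNGroup.Q) ∈ Subgroup.center ↥HNGroup.Q := by
  set K : Subgroup ↥HNGroup.Q := M.comap (toHN.comp (HNGroup.Q).subtype) with hK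
  have : K.Normal := hM.comap _
  have hKn : (K.map toSimple).Normal := Subgroup.Normal.map inferInstance _ toSimple_surjective
  rw [center_Q, ← ker_toSimple]
  rcases hKn.eq_bot_or_eq_top with hb | ht
  · exact (Subgroup.map_eq_bot_iff K).1 hb (show (⟨q, hq⟩ : ↥HNGroup.Q) ∈ K from hqM)
  · exfalso
    refine hne (eq_top_of_mem hM ?_ ?_)
    all_goals
      have hall : K = ⊤ := by
        rw [eq_top_iff, ← perfect_Q, commutator_def, Subgroup.commutator_le]
        intro a _ b _
        have hdec : ∀ a : ↥HNGroup.Q, ∃ k ∈ K, k⁻¹ * a ∈ Subgroup.center ↥HNGroup.Q := fun a => by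
          obtain ⟨k, hk, e⟩ : toSimple a ∈ K.map toSimple := by rw [ht]; exact Subgroup.mem_top _
          refine ⟨k, hk, ?_⟩
          rw [center_Q, ← ker_toSimple, MonoidHom.mem_ker, map_mul, map_inv, e, inv_mul_cancel]
        obtain ⟨k, hk, hz⟩ := hdec a
        obtain ⟨k', hk', hz'⟩ := hdec b
        have e1 := Subgroup.mem_center_iff.1 hz
        have e2 := Subgroup.mem_center_iff.1 hz'
        have : ⁅a, b⁆ = ⁅k, k'⁆ := by
          have ha : a = k * (k⁻¹ * a) := by group
          have hb : b = k' * (k'⁻¹ * b) := by group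
          generalize k⁻¹ * a = z at e1 ha
          generalize k'⁻¹ * b = z' at e2 hb
          subst ha hb
          simp only [commutatorElement_def, mul_inv_rev]
          calc k * z * (k' * z') * (z⁻¹ * k⁻¹) * (z'⁻¹ * k'⁻¹)
              = k * (z * k') * z' * z⁻¹ * k⁻¹ * z'⁻¹ * k'⁻¹ := by group
            _ = k * (k' * z) * z' * z⁻¹ * k⁻¹ * z'⁻¹ * k'⁻¹ := by rw [← e1 k']
            _ = k * k' * (z * z') * z⁻¹ * k⁻¹ * z'⁻¹ * k'⁻¹ := by group
            _ = k * k' * (z' * z) * z⁻¹ * k⁻¹ * z'⁻¹ * k'⁻¹ := by rw [e2 z]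
            _ = k * k' * (z' * k⁻¹) * z'⁻¹ * k'⁻¹ := by group
            _ = k * k' * (k⁻¹ * z') * z'⁻¹ * k'⁻¹ := by rw [e2 k⁻¹]
            _ = _ := by group
        rw [this]
        exact mul_mem (mul_mem (mul_mem hk hk') (inv_mem hk)) (inv_mem hk')
    · rw [← toHN_x]
      exact show (⟨L 0, L_mem_Q.1⟩ : ↥HNGroup.Q) ∈ K from hall ▸ Subgroup.mem_top _
    · rw [← toHN_y]
      exact show (⟨L 2, L_mem_Q.2⟩ : ↥HNGroup.Q) ∈ K from hall ▸ Subgroup.mem_top _

theorem pi_center {q : ↥HNGroup.Q} (h : q ∈ Subgroup.center ↥HNGroup.Q) : pi (q : P0) = 1 := by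
  rw [center_Q, MonoidHom.mem_ker] at h
  exact h

/-- No element outside the perfect part centralises it modulo a proper normal subgroup. -/
theorem inter_N0 {M : Subgroup Spor.HN} (hM : M.Normal) (hne : M ≠ ⊤) {g : P0} (hg : toHN g ∈ M) :
    g ∈ HNGroup.Q := by
  rcases Q_cases g with h | h
  · exact h
  exfalso
  have hsign : Equiv.Perm.sign (pi g) = -1 := by
    have h1 := sign_Q h
    rw [map_mul, map_mul, sign_pi_z] at h1
    rcases Int.units_eq_one_or (Equiv.Perm.sign (pi g)) with e | e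
    · rw [e] at h1; exact absurd h1 (by decide)
    · exact e
  have hgg : pi g * pi g = 1 := by
    rw [← map_mul]
    have := inter_Q hM hne (sq_mem_Q g) (by rw [map_mul]; exact mul_mem hg hg)
    exact pi_center this
  have hcommQ : ∀ q ∈ HNGroup.Q, pi q * pi g = pi g * pi q := by
    intro q hq
    have hmem : ⁅g, q⁆ ∈ HNGroup.Q := Subgroup.commutator_mem_commutator (Subgroup.mem_top _) (Subgroup.mem_top _)
    have hM' : toHN ⁅g, q⁆ ∈ M := by
      rw [map_commutatorElement, commutatorElement_def, mul_assoc, mul_assoc]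
      exact mul_mem hg (by rw [← mul_assoc]; exact hM.conj_mem _ (inv_mem hg) _)
    have := pi_center (inter_Q hM hne hmem hM')
    rw [map_commutatorElement, commutatorElement_eq_one_iff_mul_comm] at this
    exact this.symm
  have hall : ∀ a : P0, pi a * pi g = pi g * pi a := by
    intro a
    rcases Q_cases a with ha | ha
    · exact hcommQ a ha
    · have hga : g * L 4 * (a * L 4)⁻¹ ∈ HNGroup.Q := mul_mem h (inv_mem ha)
      have e : g * L 4 * (a * L 4)⁻¹ = g * a⁻¹ := by group
      rw [e] at hga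
      have h2 := hcommQ _ hga
      rw [map_mul, map_inv] at h2
      have h3 : (pi a)⁻¹ * pi g = pi g * (pi a)⁻¹ := by
        calc (pi a)⁻¹ * pi g = (pi g)⁻¹ * (pi g * (pi a)⁻¹ * pi g) := by group
          _ = (pi g)⁻¹ * (pi g * (pi g * (pi a)⁻¹)) := by rw [h2]
          _ = pi g * (pi a)⁻¹ := by group
      calc pi a * pi g = pi a * (pi g * (pi a)⁻¹) * pi a := by group
        _ = pi a * ((pi a)⁻¹ * pi g) * pi a := by rw [h3]
        _ = pi g * pi a := by group
  have hnf : ∀ i : Fin 100, pi g i ≠ i := by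
    intro i hi
    have hone : pi g = 1 := by
      refine Equiv.ext fun j => ?_
      obtain ⟨a, ha⟩ := pi_transitive i
      obtain ⟨b, hb⟩ := pi_transitive j
      have hm : j = pi (b * a⁻¹) i := by
        rw [← ha, ← Equiv.Perm.mul_apply, ← map_mul, inv_mul_cancel_right, hb]
      rw [hm, ← Equiv.Perm.mul_apply, ← hall, Equiv.Perm.mul_apply, hi, Equiv.Perm.one_apply]
    rw [hone, map_one] at hsign
    exact absurd hsign (by decide)
  have hsupp : (pi g).support = Finset.univ :=
    Finset.eq_univ_of_forall fun i => Equiv.Perm.mem_support.2 (hnf i)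
  have hcyc : ∀ n ∈ (pi g).cycleType, n = 2 := by
    intro n hn
    have h2 : orderOf (pi g) ∣ 2 := orderOf_dvd_of_pow_eq_one (by rw [pow_two, hgg])
    have h3 : n ∣ 2 := (Equiv.Perm.dvd_of_mem_cycleType hn).trans h2
    have h4 := Equiv.Perm.two_le_of_mem_cycleType hn
    have := Nat.le_of_dvd two_pos h3
    omega
  have hsum : (pi g).cycleType.sum = 100 := by
    rw [Equiv.Perm.sum_cycleType, hsupp, Finset.card_univ, Fintype.card_fin]
  have hrep := Multiset.eq_replicate_card.2 hcyc
  have hcard : (pi g).cycleType.card = 50 := by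
    have := hsum
    rw [hrep, Multiset.sum_replicate, smul_eq_mul] at this
    omega
  rw [Equiv.Perm.sign_of_cycleType, hsum, hcard] at hsign
  exact absurd hsign (by decide)

/-- The sizes of the orbits of the double cover on its cosets. -/
def orbitSizes : Fin 9 → ℕ := fun k => 177408000 / stabOrders.getD k 0

theorem no_block : ∀ S : Finset (Fin 9), (0 : Fin 9) ∈ S → (∑ k ∈ S, orbitSizes k) ∣ 1539000 →
    S = {0} ∨ S = Finset.univ := by decide +kernel

theorem toPt_bijective : Function.Bijective (fun x : Σ k : Fin 9, P0 ⧸ stabP k => toPt x.1 x.2) ∧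
    ∀ k : Fin 9, (stabP k).index = orbitSizes k := by
  classical
  have hsum : ∑ k : Fin 9, orbitSizes k = 1539000 := by decide +kernel
  have hle : ∀ k : Fin 9, (stabP k).index ≤ orbitSizes k := fun k => stabP_index k.isLt
  have hcard : Nat.card (Σ k : Fin 9, P0 ⧸ stabP k) = ∑ k : Fin 9, (stabP k).index := by
    rw [Nat.card_sigma]; rfl
  have hge : 1539000 ≤ ∑ k : Fin 9, (stabP k).index := by
    rw [← card_N0_and_index.2, ← hcard]
    exact Nat.card_le_card_of_surjective _ toPt_surjective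
  have heq : ∀ k : Fin 9, (stabP k).index = orbitSizes k := fun k => by
    by_contra hne
    have : ∑ j : Fin 9, (stabP j).index < ∑ j : Fin 9, orbitSizes j :=
      Finset.sum_lt_sum (fun j _ => hle j) ⟨k, Finset.mem_univ _, lt_of_le_of_ne (hle k) hne⟩
    omega
  refine ⟨?_, heq⟩
  have : Finite P0 := finP0
  have : Fintype (Σ k : Fin 9, P0 ⧸ stabP k) := Fintype.ofFinite _
  have : Fintype (Spor.HN ⧸ N0) := Fintype.ofFinite _
  rw [Fintype.bijective_iff_surjective_and_card]
  refine ⟨toPt_surjective, ?_⟩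
  rw [← Nat.card_eq_fintype_card, ← Nat.card_eq_fintype_card, hcard, Finset.sum_congr rfl fun k _ => heq k, hsum]
  exact card_N0_and_index.2.symm

theorem toPt_mk (k : ℕ) (p : P0) : toPt k (p : P0 ⧸ stabP k) = ((toHN p * (ev (W k))⁻¹ : Spor.HN) : Spor.HN ⧸ N0) := rfl

/-- The double cover is maximal. -/
theorem maximal (U : Subgroup Spor.HN) (hU : N0 ≤ U) : U = N0 ∨ U = ⊤ := by
  classical
  set S : Finset (Fin 9) := Finset.univ.filter fun k : Fin 9 => ev (W k) ∈ U with hS
  set e := Equiv.ofBijective _ toPt_bijective.1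
  set A : Set (Spor.HN ⧸ N0) := QuotientGroup.mk '' (U : Set Spor.HN) with hA
  have hpre : QuotientGroup.mk ⁻¹' A = (U : Set Spor.HN) := by
    ext g
    refine ⟨?_, fun h => ⟨g, h, rfl⟩⟩
    rintro ⟨u, hu, he⟩
    have h' := mul_mem hu (hU (QuotientGroup.eq.1 he))
    rwa [mul_inv_cancel_left] at h'
  have hmem : ∀ x : Σ k : Fin 9, P0 ⧸ stabP k, e x ∈ A ↔ x.1 ∈ S := by
    rintro ⟨k, q⟩
    obtain ⟨p, rfl⟩ := QuotientGroup.mk_surjective q
    show toPt k (p : P0 ⧸ stabP k) ∈ A ↔ _
    rw [toPt_mk, ← Set.mem_preimage, hpre, SetLike.mem_coe, hS, Finset.mem_filter]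
    simp only [Finset.mem_univ, true_and]
    constructor
    · intro h
      have h' := mul_mem (inv_mem (hU (⟨p, rfl⟩ : toHN p ∈ N0))) h
      rw [inv_mul_cancel_left] at h'
      exact inv_mem_iff.1 h'
    · exact fun h => mul_mem (hU ⟨p, rfl⟩) (inv_mem h)
  have hcardA : Nat.card A = ∑ k ∈ S, orbitSizes k := by
    have : Finite P0 := finP0
    rw [Nat.card_congr (e.subtypeEquiv (p := fun x => x.1 ∈ S) (q := fun q => q ∈ A) fun x => (hmem x).symm).symm,
      Nat.card_congr (Equiv.subtypeSigmaEquiv (fun k : Fin 9 => P0 ⧸ stabP k) (fun k => k ∈ S)), Nat.card_sigma]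
    rw [← Finset.sum_coe_sort S]
    exact Finset.sum_congr rfl fun k _ => toPt_bijective.2 k
  have hcardU : Nat.card U = Nat.card N0 * Nat.card A := by
    rw [← Nat.card_prod, ← Nat.card_congr (QuotientGroup.preimageMkEquivSubgroupProdSet N0 A), hpre]
    rfl
  have hdvd : (∑ k ∈ S, orbitSizes k) ∣ 1539000 := by
    have h1 := Subgroup.card_subgroup_dvd_card U
    rw [hcardU, hcardA, card_eq, card_N0_and_index.1] at h1
    exact Nat.dvd_of_mul_dvd_mul_left (by norm_num : 0 < 177408000) (by norm_num; exact h1)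
  have h0 : (0 : Fin 9) ∈ S := by
    rw [hS, Finset.mem_filter]
    exact ⟨Finset.mem_univ _, by rw [Fin.val_zero, W_zero, ev_nil]; exact one_mem U⟩
  rcases no_block S h0 hdvd with hS0 | hS1
  · left
    symm
    refine Subgroup.eq_of_le_of_card_ge hU ?_
    rw [hcardU, hcardA, hS0, Finset.sum_singleton, show orbitSizes 0 = 1 by decide +kernel, mul_one]
  · right
    refine Subgroup.eq_top_of_le_card U ?_
    rw [hcardU, hcardA, hS1, show ∑ k : Fin 9, orbitSizes k = 1539000 by decide +kernel, card_eq,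
      card_N0_and_index.1]

theorem T_ne_one : T ≠ 1 := by
  intro hT
  have hle : (⊤ : Subgroup Spor.HN) ≤ N0 := by
    rw [← PresentedGroup.closure_range_of, Subgroup.closure_le]
    rintro _ ⟨i, rfl⟩
    cases i
    · exact ⟨L 0, toHN_x⟩
    · exact ⟨L 2, toHN_y⟩
    · exact ⟨L 4, toHN_z⟩
    · show T ∈ N0
      rw [hT]; exact one_mem _
  have := card_N0_and_index
  rw [top_le_iff.1 hle, Subgroup.index_top] at this
  omega

theorem c_not_central {M : Subgroup Spor.HN} (hM : M.Normal) (hsmall : ∀ g ∈ M, g = 1 ∨ g = toHN c) :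
    M = ⊥ := by
  rw [Subgroup.eq_bot_iff_forall]
  intro g hg
  rcases hsmall g hg with h | h
  · exact h
  exfalso
  have hc : toHN c ∈ M := h ▸ hg
  have hne : toHN c ≠ 1 := toHN_c_ne
  have hconj : T * toHN c * T⁻¹ = toHN c := by
    rcases hsmall _ (hM.conj_mem _ hc T) with h' | h'
    · exact absurd (conj_eq_one_iff.1 h') hne
    · exact h'
  have hc4 : toHN c * T = T ^ 4 * toHN c := by
    have h := ev_mul_T (b := [0, 0]) rfl 1
    rw [pow_one, show 1 * expWord [0, 0] = 4 from rfl] at h
    have he : ev [0, 0] = toHN c := by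
      rw [ev_of_isN rfl]
      exact congrArg toHN (by simp [c])
    rwa [he] at h
  have h3 : T ^ 3 = 1 := by
    have h1 : T * toHN c = toHN c * T := by
      calc T * toHN c = T * toHN c * T⁻¹ * T := by group
        _ = toHN c * T := by rw [hconj]
    rw [hc4] at h1
    have h4 : T ^ 4 = T := (mul_right_cancel h1).symm
    calc T ^ 3 = T ^ 4 * T⁻¹ := by group
      _ = 1 := by rw [h4, mul_inv_cancel]
  refine T_ne_one ?_
  calc T = (T ^ 3) ^ 2 * (T ^ 5)⁻¹ := by group
    _ = 1 := by rw [h3, rel_t_five, one_pow, inv_one, mul_one]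

theorem not_subsingleton : Nontrivial Spor.HN := ⟨⟨T, 1, T_ne_one⟩⟩

theorem simple : IsSimpleGroup Spor.HN := by
  classical
  have := not_subsingleton
  refine ⟨fun M hM => ?_⟩
  by_cases hne : M = ⊤
  · exact Or.inr hne
  left
  have hN : ∀ g ∈ N0, g ∈ M → g = 1 ∨ g = toHN c := by
    rintro g ⟨p, rfl⟩ hg
    have hpQ := inter_N0 hM hne hg
    have hz := inter_Q hM hne hpQ hg
    rw [center_Q] at hz
    by_cases h1 : p = 1
    · exact Or.inl (by rw [h1, map_one])
    refine Or.inr (congrArg toHN ?_)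
    by_contra hpc
    let c' : tauQ.ker := ⟨⟨c, c_mem_Q⟩, by simp [tauQ, pi_c]⟩
    let p' : tauQ.ker := ⟨⟨p, hpQ⟩, hz⟩
    have : Fintype tauQ.ker := Fintype.ofFinite _
    have hc1 : c' ≠ 1 := fun e => c_ne_one (congrArg (fun t : tauQ.ker => ((t : ↥HNGroup.Q) : P0)) e)
    have hpc' : p' ≠ c' := fun e => hpc (congrArg (fun t : tauQ.ker => ((t : ↥HNGroup.Q) : P0)) e)
    have hp1 : p' ≠ 1 := fun e => h1 (congrArg (fun t : tauQ.ker => ((t : ↥HNGroup.Q) : P0)) e)
    have hle : ({1, c', p'} : Finset tauQ.ker).card ≤ Fintype.card tauQ.ker := Finset.card_le_univ _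
    rw [← Nat.card_eq_fintype_card, card_ker_two, Finset.card_insert_of_notMem (by simp [hc1.symm, hp1.symm]),
      Finset.card_pair hpc'.symm] at hle
    omega
  rcases maximal (M ⊔ N0) le_sup_right with hU | hU
  · refine c_not_central hM fun g hg => hN g ?_ hg
    rw [← hU]; exact Subgroup.mem_sup_left hg
  · exfalso
    -- the quotient by `M` is an image of the double cover, which is not perfect
    have hdec : ∀ g : Spor.HN, ∃ p : P0, g * (toHN p)⁻¹ ∈ M := by
      intro g
      have hg : g ∈ M ⊔ N0 := hU ▸ Subgroup.mem_top g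
      obtain ⟨m, hm, n, ⟨p, rfl⟩, rfl⟩ := Subgroup.mem_sup_of_normal_left.1 hg
      exact ⟨p, by rwa [mul_inv_cancel_right]⟩
    have hwd : ∀ p p' : P0, (toHN p)⁻¹ * toHN p' ∈ M → p⁻¹ * p' ∈ HNGroup.Q := fun p p' h =>
      inter_N0 hM hne (by rwa [map_mul, map_inv])
    choose f hf using hdec
    let φ : Spor.HN →* P0 ⧸ HNGroup.Q := MonoidHom.mk' (fun g => (f g : P0 ⧸ HNGroup.Q)) fun a b => by
      rw [← QuotientGroup.mk_mul, QuotientGroup.eq]
      refine hwd _ _ ?_
      rw [map_mul]
      have h1 := hf (a * b)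
      have h2 : toHN (f a) * toHN (f b) * (a * b)⁻¹ ∈ M := by
        have hb := inv_mem (hf b)
        have ha := inv_mem (hf a)
        rw [mul_inv_rev, inv_inv] at ha hb
        have := mul_mem (hM.conj_mem _ hb (toHN (f a))) ha
        convert this using 1
        group
      have h3 := hM.conj_mem _ (mul_mem h2 h1) (toHN (f (a * b)))⁻¹
      rw [inv_inv] at h3
      convert h3 using 1
      group
    have hker : commutator Spor.HN ≤ φ.ker := by
      rw [commutator_def, Subgroup.commutator_le]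
      intro a _ b _
      rw [MonoidHom.mem_ker, map_commutatorElement, commutatorElement_eq_one_iff_mul_comm]
      obtain ⟨u, hu⟩ := QuotientGroup.mk_surjective (φ a)
      obtain ⟨v, hv⟩ := QuotientGroup.mk_surjective (φ b)
      rw [← hu, ← hv, ← QuotientGroup.mk_mul, ← QuotientGroup.mk_mul, QuotientGroup.eq]
      rw [show (u * v)⁻¹ * (v * u) = ⁅v⁻¹, u⁻¹⁆ by rw [commutatorElement_def]; group]
      exact Subgroup.commutator_mem_commutator (Subgroup.mem_top _) (Subgroup.mem_top _)
    have h1 : φ (toHN (L 4)) = 1 := MonoidHom.mem_ker.1 (hker (perfect ▸ Subgroup.mem_top _))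
    have h2 : f (toHN (L 4)) ∈ HNGroup.Q := (QuotientGroup.eq_one_iff _).1 h1
    have h3 := hf (toHN (L 4))
    rw [← map_inv, ← map_mul] at h3
    have h4 := inter_N0 hM hne h3
    exact z_not_mem_Q (by have := mul_mem h4 h2; rwa [inv_mul_cancel_right] at this)

end CfsgLib.Sporadic.HNLower
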