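import Cfsg.Agent.Lib.Sporadic.HNCoset.Count

/-!
# Relations by tracing words through the double cosets (owner: helper25)
-/

set_option autoImplicit false
set_option maxRecDepth 20000

namespace CfsgLib.Sporadic.HNLower

open Cfsg CfsgLib.Sporadic CfsgLib.Sporadic.HNGroup CfsgLib.Sporadic.HNCoset

/-- Tracing the letters of a word. -/
noncomputable def walkW (F : List Edge) : List ℕ → List Use → ℕ × List ℕ × List ℕ → Option (ℕ × List ℕ × List ℕ)
  | [], [], s => some s
  | [], _ :: _, _ => none
  | x :: w, us, (i, a, n) =>
    match Nat.blt x 6, us with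
    | true, _ => walkW F w us (i, a ++ [x], n)
    | false, [] => none
    | false, u :: us' =>
      match useRes F F.length i a (cond (Nat.beq x 6) 1 4) u with
      | none => none
      | some (k, m, n') => walkW F w us' (k, m, n ++ n')

/-- The word is trivial. -/
noncomputable def isOneOK (F : List Edge) (w : List ℕ) (us : List Use) : Bool :=
  w.all (fun x => Nat.blt x 8) && match walkW F w us (0, [], []) with
  | some (k, m, n) => Nat.beq k 0 && eqW (n ++ m) []
  | none => false

theorem gl_seven : gl 7 = T ^ 4 := by
  rw [gl, if_neg (by norm_num), if_pos rfl]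
  exact (eq_inv_of_mul_eq_one_left (by rw [← pow_succ]; exact rel_t_five)).symm

theorem walkW_sound : ∀ {w : List ℕ} {us : List Use} {s r : ℕ × List ℕ × List ℕ}, (∀ x ∈ w, x < 8) →
    isN s.2.1 = true → isN s.2.2 = true → walkW facts w us s = some r →
    isN r.2.1 = true ∧ isN r.2.2 = true ∧
      ev s.2.2 * ev (W s.1) * ev s.2.1 * ev w = ev r.2.2 * ev (W r.1) * ev r.2.1
  | [], [], s, r, _, ha, hn, h => by
    obtain rfl : s = r := by simpa [walkW] using h
    exact ⟨ha, hn, by simp⟩
  | [], _ :: _, s, r, _, _, _, h => by simp [walkW] at h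
  | x :: w, us, (i, a, n), r, hlt, ha, hn, h => by
    have hlt' : ∀ y ∈ w, y < 8 := fun y hy => hlt y (List.mem_cons_of_mem _ hy)
    simp only [walkW] at h
    cases hx : Nat.blt x 6 with
    | true =>
      rw [hx] at h
      obtain ⟨h1, h2, h3⟩ := walkW_sound (s := (i, a ++ [x], n)) hlt'
        (by rw [isN_append]; exact Bool.and_eq_true_iff.2 ⟨ha, by simpa [isN] using hx⟩) hn h
      refine ⟨h1, h2, ?_⟩
      rw [← h3]
      simp [mul_assoc]
    | false =>
      rw [hx] at h
      cases us with
      | nil => simp at h
      | cons u us =>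
        dsimp only at h
        cases hu : useRes facts facts.length i a (cond (Nat.beq x 6) 1 4) u with
        | none => rw [hu] at h; simp at h
        | some q =>
          obtain ⟨k, m, n'⟩ := q
          rw [hu] at h
          dsimp only at h
          obtain ⟨hm', hn', heq⟩ := useRes_sound holds_all hu
          obtain ⟨h1, h2, h3⟩ := walkW_sound (s := (k, m, n ++ n')) hlt' hm'
            (by rw [isN_append]; exact Bool.and_eq_true_iff.2 ⟨hn, hn'⟩) h
          refine ⟨h1, h2, ?_⟩
          rw [← h3]
          have hgl : gl x = T ^ (cond (Nat.beq x 6) 1 4) := by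
            have h8 := hlt x List.mem_cons_self
            have h6 : ¬ x < 6 := fun hc => Bool.false_ne_true (hx.symm.trans (Nat.blt_eq.mpr hc))
            obtain rfl | rfl : x = 6 ∨ x = 7 := by omega
            · rw [show Nat.beq 6 6 = true from rfl, cond_true, gl_six, pow_one]
            · exact gl_seven
          dsimp only at heq ⊢
          rw [ev_cons, hgl, ev_append]
          calc ev n * ev (W i) * ev a * (T ^ (cond (Nat.beq x 6) 1 4) * ev w)
              = ev n * (ev (W i) * ev a * T ^ (cond (Nat.beq x 6) 1 4)) * ev w := by group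
            _ = _ := by rw [heq]; group

theorem isOneOK_sound {w : List ℕ} {us : List Use} (h : isOneOK facts w us = true) : ev w = 1 := by
  simp only [isOneOK, Bool.and_eq_true, List.all_eq_true, Nat.blt_eq] at h
  obtain ⟨hlt, h⟩ := h
  cases hw : walkW facts w us (0, [], []) with
  | none => rw [hw] at h; simp at h
  | some r =>
    obtain ⟨k, m, n⟩ := r
    rw [hw] at h
    simp only [Bool.and_eq_true, Nat.beq_eq] at h
    obtain ⟨rfl, heq⟩ := h
    obtain ⟨-, -, h3⟩ := walkW_sound (s := (0, [], [])) hlt rfl rfl hw
    obtain ⟨-, -, he⟩ := eqW_sound heq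
    simp only [W_zero, ev_nil, one_mul, mul_one] at h3
    rw [h3, ← ev_append, he, ev_nil]

end CfsgLib.Sporadic.HNLower
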