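import Cfsg.Agent.Lib.Sporadic.HNLower.Vec
import Cfsg.Agent.Lib.Sporadic.HNLower.Walk
import Cfsg.Agent.Lib.Sporadic.HNCoset.Bound

/-!
# Subgroups of prime power order from traced relations and moved vectors (owner: helper25)
-/

set_option autoImplicit false
set_option maxRecDepth 20000

namespace CfsgLib.Sporadic.HNLower

open Cfsg CfsgLib.Sporadic CfsgLib.Sporadic.HNGroup CfsgLib.Sporadic.HNCoset
open CfsgLib.Sporadic.HNRep (rho unit mat code rho_of unit_inv unit_val xor_one_lt)
open scoped Matrix

theorem rho_gl : ∀ {x : ℕ}, x < 8 → rho (gl x) = unit x := by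
  intro x hx
  interval_cases x
  · rw [gl_small (by norm_num), toHN_x, rho_of]; rfl
  · rw [gl_small (by norm_num), L_one, map_inv, toHN_x, map_inv, rho_of]; exact unit_inv (by decide)
  · rw [gl_small (by norm_num), toHN_y, rho_of]; rfl
  · rw [gl_small (by norm_num), L_three, map_inv, toHN_y, map_inv, rho_of]; exact unit_inv (by decide)
  · rw [gl_small (by norm_num), toHN_z, rho_of]; rfl
  · rw [gl_small (by norm_num), L_five, map_inv, toHN_z, map_inv, rho_of]; exact unit_inv (by decide)
  · rw [gl_six, rho_of]; rfl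
  · rw [show gl 7 = (T)⁻¹ from rfl, map_inv, rho_of]; exact unit_inv (by decide)

theorem gl_xor {x : ℕ} (hx : x < 8) : gl (x ^^^ 1) = (gl x)⁻¹ := by
  rcases Nat.lt_or_ge x 6 with h | h
  · rw [gl_small h, gl_small (xor_one_lt_six h), ← flp_eq, L_flp, map_inv]
  · interval_cases x
    · rfl
    · rw [show gl (7 ^^^ 1) = T from rfl, show gl 7 = (T)⁻¹ from rfl, inv_inv]

theorem ev_winv_all : ∀ {w : List ℕ}, (∀ x ∈ w, x < 8) → ev (winv w) = (ev w)⁻¹
  | [], _ => by simp [winv]
  | x :: w, h => by
    have : winv (x :: w) = winv w ++ [x ^^^ 1] := by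
      simp [winv, List.map_append]
    rw [this, ev_append, ev_winv_all fun y hy => h y (List.mem_cons_of_mem _ hy), ev_cons, ev_cons, ev_nil, mul_one,
      gl_xor (h x List.mem_cons_self), mul_inv_rev]

/-- The action of an element on vectors. -/
noncomputable def actV (g : Spor.HN) (v : Fin 133 → ZMod 29) : Fin 133 → ZMod 29 := v ᵥ* (rho g : HNRep.Mat 133)

theorem actV_mul (g h : Spor.HN) (v : Fin 133 → ZMod 29) : actV (g * h) v = actV h (actV g v) := by
  simp [actV, Matrix.vecMul_vecMul]

theorem actV_word {v : List ℕ} (hv : vOK v = true) {w : List ℕ} (hw : ∀ x ∈ w, x < 8) :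
    toRow (vword v w) = actV (ev w) (toRow v) := by
  rw [(vword_eq hv hw).2, actV, ev, map_list_prod, List.map_map]
  congr 1
  rw [← Units.coeHom_apply, map_list_prod, List.map_map]
  refine congrArg List.prod (List.map_congr_left fun x hx => ?_)
  simp only [Function.comp_apply, Units.coeHom_apply, rho_gl (hw x hx), unit_val (hw x hx)]

/-- The product of powers of the generators. -/
noncomputable def powWord (G : List (List ℕ)) (e : List ℕ) : List ℕ :=
  (List.range e.length).flatMap fun q => (List.replicate (e.getD q 0) (G.getD q [])).flatten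

/-- The checks for adjoining a generator. -/
noncomputable def stepOK (p : ℕ) (G : List (List ℕ)) (i : ℕ) (rels : List (List ℕ × List Use)) (v : List ℕ)
    (O : List (List ℕ)) : Bool :=
  let g := G.getD i []
  (g.all fun x => Nat.blt x 8) && ((List.range i).all (fun j => (G.getD j []).all fun x => Nat.blt x 8) &&
  (Nat.beq rels.length (i + 1) && ((rels.all fun r => Nat.ble r.1.length i) &&
  ((List.range (i + 1)).all (fun j =>
    let r := rels.getD j ([], [])
    let l := cond (Nat.beq j i) ((List.replicate p g).flatten) (winv g ++ G.getD j [] ++ g)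
    isOneOK facts (l ++ winv (powWord G r.1)) r.2) &&
  (O.all vOK && (O.contains v && (O.all (fun y => (List.range i).all fun j => O.contains (vword y (G.getD j []))) &&
    !(O.contains (vword v g)))))))))

/-- The side conditions of a step. -/
noncomputable def baseOK (G : List (List ℕ)) (i : ℕ) (rels : List (List ℕ × List Use)) (v : List ℕ)
    (O : List (List ℕ)) : Bool :=
  let g := G.getD i []
  (g.all fun x => Nat.blt x 8) && ((List.range i).all (fun j => (G.getD j []).all fun x => Nat.blt x 8) &&
  (Nat.beq rels.length (i + 1) && ((rels.all fun r => Nat.ble r.1.length i) &&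
  (O.all vOK && (O.contains v && !(O.contains (vword v g)))))))

/-- One relation of a step. -/
noncomputable def relOK (p : ℕ) (G : List (List ℕ)) (i : ℕ) (rels : List (List ℕ × List Use)) (j : ℕ) : Bool :=
  let g := G.getD i []
  let r := rels.getD j ([], [])
  let l := cond (Nat.beq j i) ((List.replicate p g).flatten) (winv g ++ G.getD j [] ++ g)
  isOneOK facts (l ++ winv (powWord G r.1)) r.2

/-- Relations `lo, …, lo + len - 1` of a step. -/
noncomputable def relsPart (p : ℕ) (G : List (List ℕ)) (i : ℕ) (rels : List (List ℕ × List Use)) (lo len : ℕ) : Bool :=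
  (List.range' lo len).all (relOK p G i rels)

/-- Closedness under generators `lo, …, lo + len - 1`. -/
noncomputable def closedPart (G : List (List ℕ)) (O : List (List ℕ)) (lo len : ℕ) : Bool :=
  (List.range' lo len).all fun j => O.all fun y => O.contains (vword y (G.getD j []))

theorem all_range'_cat {f : ℕ → Bool} {a m n : ℕ} (h1 : (List.range' a m).all f = true)
    (h2 : (List.range' (a + m) n).all f = true) : (List.range' a (m + n)).all f = true := by
  rw [← List.range'_append_1, List.all_append, h1, h2]; rfl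

theorem relsPart_cat {p : ℕ} {G : List (List ℕ)} {i : ℕ} {rels : List (List ℕ × List Use)} {a m b n l : ℕ}
    (h1 : relsPart p G i rels a m = true) (h2 : relsPart p G i rels b n = true) (hb : a + m = b) (hl : m + n = l) :
    relsPart p G i rels a l = true := by
  subst hb hl; exact all_range'_cat h1 h2

theorem closedPart_cat {G O : List (List ℕ)} {a m b n l : ℕ}
    (h1 : closedPart G O a m = true) (h2 : closedPart G O b n = true) (hb : a + m = b) (hl : m + n = l) :
    closedPart G O a l = true := by
  subst hb hl; exact all_range'_cat h1 h2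

theorem stepOK_intro {p : ℕ} {G : List (List ℕ)} {i : ℕ} {rels : List (List ℕ × List Use)} {v : List ℕ}
    {O : List (List ℕ)} (hb : baseOK G i rels v O = true) (hr : relsPart p G i rels 0 (i + 1) = true)
    (hc : closedPart G O 0 i = true) : stepOK p G i rels v O = true := by
  simp only [baseOK, Bool.and_eq_true] at hb
  obtain ⟨h1, h2, h3, h4, h5, h6, h7⟩ := hb
  simp only [stepOK, Bool.and_eq_true]
  refine ⟨h1, h2, h3, h4, ?_, h5, h6, ?_, h7⟩
  · rw [List.all_eq_true] at ⊢
    intro j hj
    exact List.all_eq_true.1 hr j (by rwa [List.range_eq_range'] at hj)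
  · rw [List.all_eq_true]
    intro y hy
    rw [List.all_eq_true]
    intro j hj
    exact List.all_eq_true.1 (List.all_eq_true.1 hc j (by rwa [List.range_eq_range'] at hj)) y hy

/-- The subgroup of the first generators. -/
noncomputable def spanG (G : List (List ℕ)) (i : ℕ) : Subgroup Spor.HN :=
  Subgroup.closure {g | ∃ j < i, g = ev (G.getD j [])}

theorem powWord_spec {G : List (List ℕ)} {i : ℕ} {e : List ℕ} (he : e.length ≤ i)
    (hG : ∀ j < i, ∀ x ∈ G.getD j [], x < 8) :
    (∀ x ∈ powWord G e, x < 8) ∧ ev (powWord G e) ∈ spanG G i := by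
  constructor
  · intro x hx
    simp only [powWord, List.mem_flatMap, List.mem_range, List.mem_flatten, List.mem_replicate] at hx
    obtain ⟨q, hq, l, ⟨-, rfl⟩, hx⟩ := hx
    exact hG q (by omega) x hx
  · unfold powWord
    have : ∀ q ∈ List.range e.length, q < i := fun q hq => by rw [List.mem_range] at hq; omega
    revert this
    generalize List.range e.length = qs
    intro hqs
    induction qs with
    | nil => simpa using one_mem _
    | cons q qs ih =>
      rw [List.flatMap_cons, ev_append]
      refine mul_mem ?_ (ih fun q' hq' => hqs q' (List.mem_cons_of_mem _ hq'))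
      induction e.getD q 0 with
      | zero => simpa using one_mem _
      | succ n ihn =>
        rw [List.replicate_succ, List.flatten_cons, ev_append]
        exact mul_mem (Subgroup.subset_closure ⟨q, hqs q List.mem_cons_self, rfl⟩) ihn

theorem step_card {p : ℕ} (hp : p.Prime) {G : List (List ℕ)} {i : ℕ} {rels : List (List ℕ × List Use)} {v : List ℕ}
    {O : List (List ℕ)} (h : stepOK p G i rels v O = true) :
    Nat.card (spanG G (i + 1)) = p * Nat.card (spanG G i) := by
  classical
  simp only [stepOK, Bool.and_eq_true, List.all_eq_true, Nat.blt_eq, List.mem_range, Nat.beq_eq, Nat.ble_eq,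
    Bool.not_eq_true'] at h
  obtain ⟨hg, hG, hlen, hlens, hrel, hO, hvO, hclosed, hout⟩ := h
  set g := G.getD i [] with hgdef
  set H := spanG G i with hH
  set a := ev g with ha
  have hw : ∀ j, j < i + 1 → ∀ x ∈ powWord G (rels.getD j ([], [])).1, x < 8 := fun j hj =>
    (powWord_spec (hlens _ (by
      rw [List.getD_eq_getElem _ _ (by omega)]; exact List.getElem_mem _)) hG).1
  have hmem : ∀ j, j < i + 1 → ev (powWord G (rels.getD j ([], [])).1) ∈ H := fun j hj =>
    (powWord_spec (hlens _ (by
      rw [List.getD_eq_getElem _ _ (by omega)]; exact List.getElem_mem _)) hG).2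
  -- relations
  have hconj : ∀ j < i, a⁻¹ * ev (G.getD j []) * a ∈ H := by
    intro j hj
    have h' := isOneOK_sound (hrel j (by omega))
    rw [show Nat.beq j i = false from by
      cases hb : Nat.beq j i with
      | false => rfl
      | true => exact absurd (Nat.eq_of_beq_eq_true hb) (by omega), cond_false, ev_append, ev_append, ev_append,
      ev_winv_all hg, ev_winv_all (hw j (by omega)), mul_inv_eq_one] at h'
    rw [h']; exact hmem j (by omega)
  have hpow : a ^ p ∈ H := by
    have h' := isOneOK_sound (hrel i (by omega))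
    rw [show Nat.beq i i = true by simp, cond_true, ev_append, ev_winv_all (hw i (by omega)), mul_inv_eq_one] at h'
    have : ∀ n, ev (List.replicate n g).flatten = a ^ n := fun n => by
      induction n with
      | zero => simp
      | succ n ih => rw [List.replicate_succ, List.flatten_cons, ev_append, ih, pow_succ']
    rw [← this, h']; exact hmem i (by omega)
  have hnotin : a ∉ H := by
    intro hin
    have key : ∀ b ∈ H, ∀ y ∈ O, ∃ y' ∈ O, toRow y' = actV b (toRow y) := by
      intro b hb
      refine Subgroup.closure_induction (p := fun b _ => ∀ y ∈ O, ∃ y' ∈ O, toRow y' = actV b (toRow y))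
        ?_ ?_ ?_ ?_ hb
      · rintro _ ⟨j, hj, rfl⟩ y hy
        exact ⟨_, List.contains_iff_mem.1 (hclosed y hy j hj), actV_word (hO y hy) (hG j hj)⟩
      · exact fun y hy => ⟨y, hy, by simp [actV]⟩
      · intro b c _ _ hb hc y hy
        obtain ⟨y', hy', e⟩ := hb y hy
        obtain ⟨y'', hy'', e'⟩ := hc y' hy'
        exact ⟨y'', hy'', by rw [e', e, actV_mul]⟩
      · intro b _ hb y hy
        have hinv : b⁻¹ = b ^ (orderOf b - 1) :=
          inv_eq_of_mul_eq_one_right (by
            rw [← pow_succ', Nat.sub_add_cancel (orderOf_pos b), pow_orderOf_eq_one])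
        rw [hinv]
        generalize orderOf b - 1 = n
        induction n with
        | zero => exact ⟨y, hy, by simp [actV]⟩
        | succ n ih =>
          obtain ⟨y', hy', e⟩ := ih
          obtain ⟨y'', hy'', e'⟩ := hb y' hy'
          exact ⟨y'', hy'', by rw [e', e, pow_succ, actV_mul]⟩
    have hv : v ∈ O := List.contains_iff_mem.1 hvO
    obtain ⟨y', hy', e⟩ := key a hin v hv
    rw [← actV_word (hO v hv) hg] at e
    have := toRow_inj (hO y' hy') (vword_eq (hO v hv) hg).1 e
    rw [this] at hy'
    rw [List.contains_iff_mem.2 hy'] at hout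
    exact absurd hout (by simp)
  -- every element is an element of the old subgroup times a power
  have hconj' : ∀ b ∈ H, a⁻¹ * b * a ∈ H := by
    intro b hb
    have hle : H ≤ H.comap (MulAut.conj a⁻¹).toMonoidHom := by
      rw [hH, spanG, Subgroup.closure_le]
      rintro _ ⟨j, hj, rfl⟩
      have := hconj j hj
      simpa [MulAut.conj_apply, hH, spanG] using this
    simpa [MulAut.conj_apply] using hle hb
  have hshift : ∀ k : ℕ, ∀ b ∈ H, a ^ k * b * (a ^ k)⁻¹ ∈ H := by
    have h1 : ∀ k : ℕ, ∀ b ∈ H, (a ^ k)⁻¹ * b * a ^ k ∈ H := by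
      intro k
      induction k with
      | zero => simpa using fun b hb => hb
      | succ k ih =>
        intro b hb
        have := hconj' _ (ih b hb)
        convert this using 1
        rw [pow_succ]
        group
    intro k b hb
    obtain ⟨m, hm⟩ : ∃ m : ℕ, a ^ k = (a ^ m)⁻¹ := by
      refine ⟨orderOf a * k - k, eq_inv_of_mul_eq_one_left ?_⟩
      rw [← pow_add, Nat.add_sub_cancel' (Nat.le_mul_of_pos_left k (orderOf_pos a)), pow_mul, pow_orderOf_eq_one,
        one_pow]
    rw [hm, inv_inv]
    exact h1 m b hb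
  have hmod : ∀ k : ℕ, ∃ c ∈ H, a ^ k = c * a ^ (k % p) := fun k => by
    refine ⟨(a ^ p) ^ (k / p), pow_mem hpow _, ?_⟩
    rw [← pow_mul, ← pow_add, Nat.div_add_mod]
  have hsucc : spanG G (i + 1) = H ⊔ Subgroup.zpowers a := by
    refine le_antisymm ?_ (sup_le (Subgroup.closure_mono ?_) ?_)
    · rw [spanG, Subgroup.closure_le]
      rintro _ ⟨j, hj, rfl⟩
      rcases Nat.lt_or_ge j i with hji | hji
      · exact Subgroup.mem_sup_left (Subgroup.subset_closure ⟨j, hji, rfl⟩)
      · obtain rfl : j = i := by omega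
        exact Subgroup.mem_sup_right (Subgroup.mem_zpowers _)
    · rintro _ ⟨j, hj, rfl⟩; exact ⟨j, by omega, rfl⟩
    · exact Subgroup.zpowers_le.2 (Subgroup.subset_closure ⟨i, by omega, rfl⟩)
  let f : H × Fin p → ↥(spanG G (i + 1)) := fun x => ⟨x.1 * a ^ (x.2 : ℕ), by
    rw [hsucc]; exact mul_mem (Subgroup.mem_sup_left x.1.2) (Subgroup.mem_sup_right
      (Subgroup.npow_mem_zpowers a _))⟩
  have hinj : Function.Injective f := by
    rintro ⟨b, k⟩ ⟨b', k'⟩ he
    have he' : (b : Spor.HN) * a ^ (k : ℕ) = b' * a ^ (k' : ℕ) := congrArg Subtype.val he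
    have hk : ∀ {c c' : H} {m m' : Fin p}, (c : Spor.HN) * a ^ (m : ℕ) = c' * a ^ (m' : ℕ) → (m : ℕ) ≤ m' → m = m' := by
      intro c c' m m' hcc hle
      by_contra hne
      have hd : a ^ ((m' : ℕ) - m) ∈ H := by
        have hh : a ^ ((m' : ℕ) - m) = (c' : Spor.HN)⁻¹ * c := by
          rw [eq_inv_mul_iff_mul_eq]
          apply mul_right_cancel (b := a ^ (m : ℕ))
          rw [mul_assoc, ← pow_add, Nat.sub_add_cancel hle, hcc]
        rw [hh]; exact mul_mem (inv_mem c'.2) c.2
      have hcop : Nat.Coprime ((m' : ℕ) - m) p := by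
        refine (Nat.coprime_comm.1 ((Nat.Prime.coprime_iff_not_dvd hp).2 fun hdvd => ?_))
        have hm' := m'.2
        rcases Nat.eq_zero_or_pos ((m' : ℕ) - m) with h0 | h0
        · exact hne (Fin.ext (by omega))
        · have := Nat.le_of_dvd h0 hdvd; omega
      refine hnotin ?_
      have hb := Int.gcd_eq_gcd_ab (((m' : ℕ) - m : ℕ) : ℤ) (p : ℤ)
      rw [Int.gcd_natCast_natCast, hcop] at hb
      have : a = (a ^ ((m' : ℕ) - m)) ^ (Int.gcdA (((m' : ℕ) - m : ℕ) : ℤ) p) *
          (a ^ p) ^ (Int.gcdB (((m' : ℕ) - m : ℕ) : ℤ) p) := by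
        rw [← zpow_natCast, ← zpow_natCast a p, ← zpow_mul, ← zpow_mul, ← zpow_add, ← hb, Nat.cast_one, zpow_one]
      rw [this]; exact mul_mem (zpow_mem hd _) (zpow_mem hpow _)
    have hkk : k = k' := by
      rcases Nat.le_total (k : ℕ) k' with hl | hl
      · exact hk he' hl
      · exact (hk he'.symm hl).symm
    subst hkk
    exact Prod.ext (Subtype.ext (mul_right_cancel he')) rfl
  have hdec : ∀ z ∈ H ⊔ Subgroup.zpowers a, ∃ c ∈ H, ∃ k : ℕ, z = c * a ^ k := by
    intro z hz
    rw [Subgroup.sup_eq_closure] at hz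
    induction hz using Subgroup.closure_induction with
    | mem x hx =>
      rcases hx with hx | hx
      · exact ⟨x, hx, 0, by simp⟩
      · obtain ⟨k, rfl⟩ := (mem_powers_iff_mem_zpowers.2 hx : x ∈ Submonoid.powers a)
        exact ⟨1, one_mem H, k, by simp⟩
    | one => exact ⟨1, one_mem H, 0, by simp⟩
    | mul x y _ _ hx hy =>
      obtain ⟨c, hc, k, rfl⟩ := hx
      obtain ⟨c', hc', k', rfl⟩ := hy
      refine ⟨c * (a ^ k * c' * (a ^ k)⁻¹), mul_mem hc (hshift k c' hc'), k + k', ?_⟩
      rw [pow_add]; group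
    | inv x _ hx =>
      obtain ⟨c, hc, k, rfl⟩ := hx
      obtain ⟨m, hm⟩ : ∃ m : ℕ, (a ^ k)⁻¹ = a ^ m :=
        (mem_powers_iff_mem_zpowers.2 (inv_mem (Subgroup.npow_mem_zpowers a k))).imp fun m h => h.symm
      refine ⟨a ^ m * c⁻¹ * (a ^ m)⁻¹, hshift m _ (inv_mem hc), m, ?_⟩
      rw [mul_inv_rev, hm]; group
  have hsurj : Function.Surjective f := by
    rintro ⟨z, hz⟩
    have this := hdec z (hsucc ▸ hz)
    obtain ⟨c, hc, k, rfl⟩ := this
    obtain ⟨c', hc', hk⟩ := hmod k
    exact ⟨(⟨c * c', mul_mem hc hc'⟩, ⟨k % p, Nat.mod_lt _ hp.pos⟩), Subtype.ext (by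
      show c * c' * a ^ (k % p) = c * a ^ k
      rw [hk, mul_assoc])⟩
  rw [← Nat.card_congr (Equiv.ofBijective f ⟨hinj, hsurj⟩), Nat.card_prod, Nat.card_fin, mul_comm]

theorem card_span_zero (G : List (List ℕ)) : Nat.card (spanG G 0) = 1 := by
  have : spanG G 0 = ⊥ := by rw [spanG, Subgroup.closure_eq_bot_iff]; rintro _ ⟨j, hj, rfl⟩; omega
  rw [this, Subgroup.card_bot]

theorem pow_dvd_card {p : ℕ} (hp : p.Prime) {G : List (List ℕ)} {d : List (List (List ℕ × List Use) × List ℕ × List (List ℕ))}
    (h : ∀ i < d.length, stepOK p G i (d.getD i ([], [], [])).1 (d.getD i ([], [], [])).2.1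
      (d.getD i ([], [], [])).2.2 = true) : p ^ d.length ∣ Nat.card Spor.HN := by
  have hk : ∀ i ≤ d.length, Nat.card (spanG G i) = p ^ i := by
    intro i hi
    induction i with
    | zero => rw [card_span_zero, pow_zero]
    | succ i ih => rw [step_card hp (h i (by omega)), ih (by omega), pow_succ']
  rw [← hk _ le_rfl]
  exact Subgroup.card_subgroup_dvd_card _

/-- A nontrivial word whose prime power is trivial. -/
noncomputable def primeOK (p : ℕ) (g : List ℕ) (us : List Use) (v : List ℕ) : Bool :=
  (g.all fun x => Nat.blt x 8) && (vOK v && (decide (vword v g ≠ v) && isOneOK facts (List.replicate p g).flatten us))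

theorem prime_dvd_card {p : ℕ} (hp : p.Prime) {g : List ℕ} {us : List Use} {v : List ℕ} (h : primeOK p g us v = true) :
    p ∣ Nat.card Spor.HN := by
  simp only [primeOK, Bool.and_eq_true, List.all_eq_true, Nat.blt_eq, decide_eq_true_eq] at h
  obtain ⟨hg, hv, hne, hone⟩ := h
  have hpow : ∀ n, ev (List.replicate n g).flatten = ev g ^ n := fun n => by
    induction n with
    | zero => simp
    | succ n ih => rw [List.replicate_succ, List.flatten_cons, ev_append, ih, pow_succ']
  have h1 : ev g ≠ 1 := fun e => hne (toRow_inj (vword_eq hv hg).1 hv (by rw [actV_word hv hg, e]; simp [actV]))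
  have := Fact.mk hp
  have hord := orderOf_eq_prime (by rw [← hpow]; exact isOneOK_sound hone) h1
  exact hord ▸ orderOf_dvd_natCard _

end CfsgLib.Sporadic.HNLower
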