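import Cfsg.Agent.Lib.Sporadic.HNCoset.Check

set_option autoImplicit false
set_option maxRecDepth 20000
set_option Elab.async false

/-! Generators and relations for the prime 5 (owner: helper25). -/

namespace CfsgLib.Sporadic.HNLower

open CfsgLib.Sporadic.HNCoset (Use)

/-- generators -/
def gens5 : List (List ℕ) := [
  [1,3,3,4,3,4,3,4,0,2,0,2,0,2,2,0,3,3,0,2,0,3,3,0,3,1,3,6,4,3,4,3,4,6,3,3,4,1,3,1,3,3,4,2,0,3,3,0,2,2,1],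
  [4,2,4,3,0,2,2,2,0,3,0,3,3,0,3,0,3,0,2,6,4,3,4,3,4,6,3,4,2,4,0,2,0,2,0,2,2,2,0,3,0,3,0,3,3],
  [4,2,1,3,4,3,4,2,2,2,0,2,0,2,0,2,2,6,4,3,4,3,4,6,4,1,3,1,3,1,3,3,4,2,2,2,0,3,3,0,3,3,0,3,0,2,2,0,3,0,2,2,2,0,3],
  [1,3,3,3,4,3,4,3,0,3,3,0,2,0,2,2,0,2,2,2,0,3,3,1,3,6,4,3,4,3,4,6,4,3,3,4,1,3,4,3,3,4,0,2,2,0,3,0,3,1,3],
  [4,2,2,4,3,3,4,2,0,2,0,2,2,2,0,2,2,0,3,0,3,6,4,3,4,3,4,6,4,3,4,0,2,2,0,2,2,2,0,2,2,2,0,3,0],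
  [2,4,1,2,4,2,4,0,2,0,3,3,0,2,0,2,0,3,0,3,0,3,3,0,3,0,2,2,6,4,3,4,3,4,6,4,2,1,3,3,3,4,0,2,2,0,2,2,0,2,2,0,3,0,3,0,2,0,3]]

/-- relations of step 0 -/
def rels5_0 : List (List ℕ × List Use) := [
  ([], [⟨[(9,true),(10,false),(9,false),(10,false),(8,true),(9,false),(9,false),(10,false)],0,false,[0,2,2,0,3,0,2,2,2,0,2,0,3,0,3,0,3,0,3,3]⟩,
    ⟨[(42,false),(48,true),(42,false),(48,false),(48,false)],4,false,[0,2,0,3,3,0,3,0,3,0,2,0,2,2,2,0,3,3,0,2]⟩,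
    ⟨[(366,false),(358,true)],150,false,[0,3,0,2,2,2,0,2,0,2,0,2,2,2,1]⟩,
    ⟨[(126,false),(99,true)],210,true,[0,3,3,0,2,0,2,2,0,3,0,2,2,0,3,0,3,3,0,3,3,0,2]⟩,
    ⟨[],345,true,[3,0,2,0,2,2,0,2,0,2,2,0,3,3,0,2,2,0,2,1]⟩,
    ⟨[(369,false)],346,false,[3,3,0,3,0,2,0,2,0,2,2,0,2,1,2,2]⟩,
    ⟨[(333,false)],210,false,[3,3,0,2,2,2,0,3,0,3,3,0,2,0,2,2,0,2,0,2]⟩,
    ⟨[(368,true),(359,false)],150,false,[3,3,0,2,2,0,2,0,3,0,2,2,0,2,0,3,0,3,0]⟩,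
    ⟨[],174,false,[0,3,3,0,3,0,2,2,0,2,0,2,0,3,0,2,2,0,3,3,0,3,3,1]⟩,
    ⟨[],0,true,[3,0,2,2,0,3,0,3,3,0,3,0,2,0,2,0,2,2,1,2,2,2]⟩])]

/-- vectors of step 0 -/
def orb5_0 : List (List ℕ) := [
  [0,16,14,3,16,27,28,1,24,16,6,24,21,1,2,17,22,3,1,8,23,21,2,11,23,25,18,27,2,15,3,17,2,8,2,27,28,13,8,2,27,3,26,15,13,28,13,8,3,22,22,1,14,15,11,19,23,1,25,20,25,22,10,0,16,17,21,27,7,8,0,10,10,1,27,26,6,28,8,1,19,22,25,23,17,6,13,27,1,28,10,10,6,9,25,11,5,28,18,21,15,13,19,21,19,19,18,27,18,10,4,8,1,28,10,10,9,20,23,5,8,19,7,27,21,16,21,8,25,2,7,25,1]]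

/-- relations of step 1 -/
def rels5_1 : List (List ℕ × List Use) := [
  ([1], [⟨[(10,false),(9,true),(9,true),(10,false)],0,false,[0,2,0,2,0,3,3,0,3,3,0,3,3,0,2,0,3,3,1,3,3]⟩,
    ⟨[(48,true),(42,true),(48,true),(42,false),(42,false)],174,true,[2,0,2,0,2,0,3,3,0,3,0,2,0,2,0,3,0,3,3,0,2,1,2]⟩,
    ⟨[(368,false),(356,false)],198,false,[0,3,0,2,2,2,0,2,2,0,2,0,2,1]⟩,
    ⟨[(342,false),(344,false),(333,true)],187,false,[0,3,0,3,0,3,3,0,3,3,0,2,1,2,2,2]⟩,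
    ⟨[(342,true),(333,false)],334,false,[0,2,0,2,2,0,3,0,3,3,0,3,0,2,2,0,3,0,2,2,2]⟩,
    ⟨[(344,false)],264,false,[0,2,0,2,2,2,0,2,2,0,2,0,2,0,2,2,0,3,3,0,2,2,0,2,1,3]⟩,
    ⟨[],174,false,[0,2,0,2,0,2,2,0,2,0,2,2,0,3,3,0,2,1,3]⟩,
    ⟨[],0,true,[3,3,0,2,0,3,3,0,3,0,2,0,2,0,2,2,0,3,0,3,3]⟩]),
  ([0], [⟨[(10,false),(9,false),(10,false),(8,false),(8,false)],0,false,[3,0,2,2,2,0,3,0,3,3,0,3,0,3,1,2]⟩,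
    ⟨[(42,false),(48,true),(42,false),(48,false)],4,false,[3,0,2,2,0,2,0,2,2,0,3,3,0,3,0,2,2,0,2,2,0,3,3]⟩,
    ⟨[(99,true),(184,true)],153,true,[3,0,2,2,0,2,2,2,0,2,0,2,2,0,3,0,3,3,0,2,2,1,3,3]⟩,
    ⟨[(132,true),(118,false)],186,true,[2,0,2,0,2,2,0,2,0,3,3,0,3,3,0,3,0,3,1,2]⟩,
    ⟨[(339,false)],307,true,[0,3,0,3,0,2,2,0,3,0,3,3,0,3,0,2,2,0,3,0,2,2,2,0,2]⟩,
    ⟨[(333,true)],197,false,[0,3,0,3,3,0,2,0,2,0,2,0,3,0,2,2,2,0,2,1]⟩,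
    ⟨[(339,false),(343,true)],189,false,[0,3,3,0,3,0,3,3,0,2,2,0,3,3,0,3,0,2,2,0,2]⟩,
    ⟨[(184,false),(357,true),(99,true)],150,false,[0,2,2,2,0,3,3,0,2,0,2,2,2,0,3,1,3]⟩,
    ⟨[],4,true,[3,0,2,2,0,2,0,3,0,2,2,0,2,0,2,2]⟩,
    ⟨[],0,true,[3,0,2,0,2,0,2,0,2,2,0,2,2,2,0,2]⟩])]

/-- vectors of step 1 -/
def orb5_1 : List (List ℕ) := [
  [0,19,27,8,12,14,25,26,28,4,24,1,24,2,5,16,2,24,16,11,5,26,22,11,19,16,10,22,0,18,27,0,23,20,13,8,15,23,28,16,19,12,6,15,3,21,4,5,25,5,27,5,11,9,22,3,15,9,1,9,12,14,28,16,16,25,19,0,17,2,9,5,12,5,12,16,16,11,7,13,24,7,13,15,23,26,24,19,17,26,23,24,21,14,23,20,27,8,2,11,1,28,25,9,17,17,13,12,22,19,23,15,19,26,14,6,24,27,13,22,20,7,25,1,8,0,16,24,4,12,18,14,2]]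

/-- relations of step 2 -/
def rels5_2 : List (List ℕ × List Use) := [
  ([1,0], [⟨[(10,false),(9,false),(8,false),(9,true),(8,false),(9,false),(9,false),(9,false),(10,false)],0,false,[0,2,0,2,0,3,3,0,3,0,3,0,2,0,2,0,2,2,0,2,2,0]⟩,
    ⟨[(42,false),(42,false),(48,true),(42,true),(42,true),(42,true)],174,true,[0,3,0,2,0,2,0,2,0,2,2,0,3,3,0,2,2,0,2,0,3,1,3]⟩,
    ⟨[(358,true),(126,true)],155,true,[2,0,3,0,3,3,0,2,2,0,3,3,0,2,2,0,2,1,3]⟩,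
    ⟨[(343,true),(339,false)],147,true,[2,0,3,0,3,0,2,2,2,0,2,2,2,0,2,2,0]⟩,
    ⟨[(151,false),(343,false)],142,false,[3,3,0,2,2,2,0,2,0,3,3,0,3,0,3,0,2,0,3,3,0,3,3]⟩,
    ⟨[(151,false),(343,true)],190,false,[3,3,0,3,3,0,2,0,2,2,0,3,3,0,2,2,1,2,2]⟩,
    ⟨[],4,true,[3,0,3,3,0,3,0,2,2,0,2,2,0,2,2,0,2,0,2,0,3]⟩,
    ⟨[],0,true,[0,2,0,3,0,3,0,2,2,2,0,2,0,3,3,0,2,0,3,3]⟩]),
  ([0,1], [⟨[(10,false),(9,false),(8,false),(9,true),(8,false),(9,false),(9,false),(9,false),(10,false)],0,false,[0,2,0,2,0,3,3,0,3,0,3,0,2,0,2,0,2,2,0,2,2,0]⟩,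
    ⟨[(42,false),(42,false),(48,true),(42,true),(42,true),(42,true)],174,true,[0,3,0,2,0,2,0,2,0,2,2,0,3,3,0,2,2,0,2,0,3,1,3]⟩,
    ⟨[(365,true),(126,true)],150,false,[2,0,2,2,2,0,2,0,2,2,0,3,0,3,3,0,3,0,2,0]⟩,
    ⟨[(365,false)],175,false,[0,2,2,0,2,2,0,2,2,0,3,0,3,0,3,0,2,0,3,3,0,2,1]⟩,
    ⟨[(122,false),(125,true)],171,false,[3,0,3,3,0,3,3,0,2,2,0,2,0,2,0,3,0,3,0]⟩,
    ⟨[(125,false),(122,false),(102,false)],159,true,[3,0,3,0,2,0,3,3,0,3,0,2,2,2,0,3]⟩,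
    ⟨[],4,true,[2,0,2,0,3,0,2,2,0,3,0,3,3,0,3,0,3,0]⟩,
    ⟨[],0,true,[3,0,3,0,2,0,3,3,0,2,0,2,2,0,2,0,2,0]⟩]),
  ([0,0], [⟨[(10,false),(9,true),(8,false),(9,false),(10,false),(9,false),(10,false),(8,false)],0,false,[3,0,2,0,3,3,0,2,0,3,3,0,3,1,2]⟩,
    ⟨[(42,false),(48,false),(42,false),(48,true),(42,false),(42,false)],4,false,[0,3,0,2,2,0,2,0,2,0,2,2,0,3,3,0,2,0,2]⟩,
    ⟨[(365,false)],320,true,[2,0,2,2,0,2,2,2,0,2,0,2,0,2,2,0,2]⟩,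
    ⟨[(333,false),(344,false),(333,false),(344,false)],177,true,[3,3,0,2,2,0,2,0,2,0,3,0,2,2,0,3,3,0,3,3,1,2,2,2]⟩,
    ⟨[(342,false),(344,false),(342,false)],243,false,[2,2,0,3,0,2,2,2,0,2,0,3,0,3,0,3,3,0,3,0,2,2,2]⟩,
    ⟨[(343,false),(339,true)],180,false,[3,3,0,3,0,2,0,2,2,0,2,2,2,0,2,0,3,0,3,3,0]⟩,
    ⟨[],335,false,[0,2,2,0,2,0,2,2,0,2,0,3,3,0,3,0,2,2,0,3]⟩,
    ⟨[(333,true),(344,false)],240,false,[0,2,0,2,0,2,2,0,3,0,2,2,0,2,2,0,3,0,2,2,2]⟩,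
    ⟨[],4,true,[0,2,2,0,2,2,0,2,0,2,2,2,0,3,0,2]⟩,
    ⟨[],0,true,[0,2,2,0,3,0,2,2,0,3,0,3,3,0,3,3,0,2,2,2,1]⟩])]

/-- vectors of step 2 -/
def orb5_2 : List (List ℕ) := [
  [27,24,24,2,19,18,12,11,10,25,8,9,17,14,15,22,25,16,23,28,23,13,26,20,24,0,23,19,22,6,22,26,22,25,26,15,28,12,22,17,13,6,6,8,24,21,11,20,12,26,2,24,21,19,18,17,11,5,14,26,25,5,27,20,0,20,15,19,18,28,7,4,25,6,10,18,26,27,15,26,16,22,4,26,21,23,10,13,18,26,23,17,22,16,6,21,19,2,2,21,5,20,24,0,21,1,13,27,7,2,6,16,2,11,5,12,19,1,27,22,2,8,7,5,24,24,8,24,28,22,20,11,18]]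

/-- relations of step 3 -/
def rels5_3 : List (List ℕ × List Use) := [
  ([1,2,4], [⟨[(9,true),(8,true),(9,true),(10,false),(9,true),(10,false)],0,false,[3,3,0,2,2,2,0,2,0,2,2,2,1,3,3]⟩,
    ⟨[(42,true),(48,false),(42,true),(48,false),(42,true),(48,false)],4,false,[3,3,0,2,0,3,3,0,2,0,2,2,0,3,3,0,3,0,2,1]⟩,
    ⟨[(359,true)],264,true,[3,3,0,2,2,0,2,0,2,2,0,2,0,3,3,0,3,3,0,3,1]⟩,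
    ⟨[(333,true)],211,false,[3,0,2,2,2,0,3,0,2,2,0,3,0,2,2,1,2]⟩,
    ⟨[(368,false),(99,false)],163,false,[3,0,3,0,2,0,3,3,0,2,2,2,0,3,0,3,3,0,2,1]⟩,
    ⟨[(99,false)],253,true,[0,2,2,2,0,2,0,3,0,3,0,2,0,3,3]⟩,
    ⟨[(344,false)],197,false,[2,0,3,3,0,2,2,0,2,0,2,2,0,3,3,0,2,1,3]⟩,
    ⟨[(151,false),(343,true),(343,true)],147,true,[0,3,0,3,3,0,3,3,0,3,0,2,2,0,2,0,2,0]⟩,
    ⟨[(343,false),(343,false),(151,false)],229,false,[2,2,0,2,2,0,2,0,3,1,2,2,2]⟩,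
    ⟨[(333,true),(342,false)],271,true,[2,0,2,2,2,0,2,0,3,0,3,0,3,0,2,0,2,0,2,2,2]⟩,
    ⟨[(342,false)],328,true,[3,0,3,0,3,0,2,2,0,2,2,0,3,1,3]⟩,
    ⟨[(344,false)],197,false,[3,0,3,0,2,0,2,0,3,0,3,3,0,2,2,0,2,0,2,0,3,3]⟩,
    ⟨[(339,true)],146,false,[2,0,2,2,2,0,3,3,0,3,3,0,2,0,2,2,0,3,3,0,2,1]⟩,
    ⟨[(339,true),(151,false)],293,true,[3,0,3,3,0,3,3,0,3,3,0,2,0,2,2,0,3,1,2]⟩,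
    ⟨[(333,false)],274,false,[2,2,0,2,0,2,2,0,3,3,0,2,2,0,2,0,2,0,2,2,1,2,2]⟩,
    ⟨[(368,true),(99,false)],210,true,[0,2,2,0,3,3,0,2,2,0,2,0,2,0,2,2,0,2,0,3,1]⟩,
    ⟨[(342,false),(333,false)],253,false,[0,3,0,2,2,2,0,2,0,3,0,3,0,2,0,2,0,2,0,3,0,3]⟩,
    ⟨[(366,true),(356,true),(99,false)],150,false,[2,0,2,2,0,3,3,0,3,3,0,2,0,2,0,2,0,3,1,2,2]⟩,
    ⟨[],4,true,[2,0,3,0,3,0,2,0,3,3,0,3,3,0,2,0,2,2,0,2]⟩,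
    ⟨[],0,true,[2,0,3,0,3,3,0,2,2,0,3,0,2,2,1]⟩]),
  ([0,2,2], [⟨[(9,true),(8,true),(9,true),(10,false),(9,true),(10,false)],0,false,[3,3,0,2,2,2,0,2,0,2,2,2,1,3,3]⟩,
    ⟨[(42,true),(48,false),(42,true),(48,false),(42,true),(48,false)],4,false,[3,3,0,2,0,3,3,0,2,0,2,2,0,3,3,0,3,0,2,1]⟩,
    ⟨[(368,false),(126,true),(99,false)],150,false,[0,2,2,0,2,0,3,0,3,0,2,2,0,2,0,3,0,3,0,2,1]⟩,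
    ⟨[(356,true)],49,false,[3,0,2,2,0,2,0,3,3,0,2,0,2,2,2,1,3,3]⟩,
    ⟨[(132,false)],156,false,[2,0,2,2,0,2,0,3,3,0,2,0,2,2,0,3,1,2]⟩,
    ⟨[(166,true),(140,false)],156,true,[3,0,2,2,0,2,2,0,2,0,3,0,2,2,0,2,2,0,3,3]⟩,
    ⟨[(118,false),(166,true),(118,false)],153,false,[0,2,0,2,0,3,3,0,2,0,2,2,2,0,2,2,0,2,1]⟩,
    ⟨[(368,false),(356,true)],134,false,[3,3,0,2,0,2,0,3,0,2,2,0,3,0,3,3]⟩,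
    ⟨[(339,false),(151,false),(339,false)],197,true,[2,0,3,0,3,0,2,2,0,2,0,3,0,3,0,2,0,2,2,1,2]⟩,
    ⟨[(342,false)],207,false,[2,2,2,0,2,0,2,2,0,3,0,3,3,0,3,0,2,0,2,2,1]⟩,
    ⟨[(343,false),(151,false),(339,true)],6,true,[0,2,0,2,0,3,3,0,2,0,2,2,0,2,0,2,2,0,3]⟩,
    ⟨[(166,false),(118,true),(118,true)],153,false,[0,3,0,3,0,2,2,0,2,0,3,0,3,0,2,0,2,0,2,2,0,2,2]⟩,
    ⟨[],174,false,[0,2,2,0,2,2,0,3,3,0,2,0,2,2,0,2,0,2,2,2,1]⟩,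
    ⟨[],0,true,[0,3,0,2,2,0,3,0,2,2,0,3,0,3,3,0,3,3,0,3]⟩]),
  ([0,2,0], [⟨[(9,true),(8,true),(9,true),(10,false),(9,true),(10,false)],0,false,[3,3,0,2,2,2,0,2,0,2,2,2,1,3,3]⟩,
    ⟨[(42,true),(48,false),(42,true),(48,false),(42,true),(48,false)],4,false,[3,3,0,2,0,3,3,0,2,0,2,2,0,3,3,0,3,0,2,1]⟩,
    ⟨[(358,false),(365,true)],155,true,[3,0,2,0,3,3,0,3,3,0,3,3,0,2,2,0,3,1,2]⟩,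
    ⟨[(343,true),(339,true),(343,false)],180,false,[2,0,2,0,3,3,0,2,0,2,2,0,2,1]⟩,
    ⟨[(344,false),(333,true)],315,false,[2,0,2,2,0,3,0,2,2,0,3,3,0,3,1,2,2]⟩,
    ⟨[(140,false),(132,true)],6,false,[0,2,2,0,3,3,0,3,3,0,2,2,0,2,1,2]⟩,
    ⟨[(339,false)],162,false,[2,2,2,0,2,2,0,2,2,0,2,2,0,2,0,2,0,2]⟩,
    ⟨[(140,true),(140,true),(132,true)],153,false,[0,2,0,3,0,3,0,2,0,2,2,2,0,3,3,0,3,3,1,2,2]⟩,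
    ⟨[],174,false,[3,0,2,0,3,3,0,2,2,0,2,0,3,0,3,0,2,0,2,2,0,2,0,3]⟩,
    ⟨[],0,true,[0,2,0,2,0,2,2,0,3,0,2,2,2,0,2,0,3,0,3,0,3,3,1,2,2]⟩]),
  ([0,0,0], [⟨[(9,true),(10,false),(9,false),(8,false),(9,false),(9,false),(10,false)],0,false,[0,3,3,0,3,3,0,2,2,2,0,2,0,3,0,3,0,2,0,2,2]⟩,
    ⟨[(48,true),(42,true),(48,true),(42,true),(42,true)],174,true,[0,2,0,2,0,2,2,2,0,3,0,3,3,0,3,0,2,1,2]⟩,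
    ⟨[(126,false),(99,true)],210,true,[0,3,0,3,3,0,3,0,2,0,2,0,3,3,0,3,0,3,0,2,2]⟩,
    ⟨[],247,false,[2,0,2,0,3,0,3,0,3,3,0,2,2,0,2,2,0,3,0,3,0,3,1]⟩,
    ⟨[(125,true),(122,true),(102,false)],181,false,[0,2,2,2,0,2,0,3,3,0,3,0,3,3,0,2,2,0,2,1,2]⟩,
    ⟨[(125,false),(178,false)],171,false,[0,2,2,2,0,2,2,0,2,2,0,3,0,3,3,1,3,3]⟩,
    ⟨[(102,false)],108,true,[3,3,0,2,0,3,3,0,3,0,2,0,2,0,3,0,2,2,1]⟩,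
    ⟨[(140,false)],54,false,[3,0,3,0,2,2,0,2,2,2,0,2,0,2,2,0,2,0,2,0,3,3]⟩,
    ⟨[],174,false,[3,3,0,2,0,2,0,3,0,3,0,3,0,2,0,2,2,0]⟩,
    ⟨[],0,true,[0,2,0,2,0,2,0,2,2,2,0,3,0,2,2,2,0,2,2,1]⟩])]

/-- vectors of step 3 -/
def orb5_3 : List (List ℕ) := [
  [15,3,12,17,27,23,20,23,2,16,11,3,1,1,12,10,28,27,11,25,4,4,3,28,26,14,4,3,23,28,14,17,5,10,0,12,5,3,19,8,25,7,8,16,1,26,18,19,27,15,22,14,17,25,13,12,2,3,28,13,19,2,13,26,27,3,11,18,17,19,21,12,3,16,19,16,28,2,8,20,8,23,26,20,11,19,21,9,19,21,19,22,10,8,10,3,24,19,1,24,6,16,20,7,28,23,23,23,4,11,13,22,21,4,23,6,2,20,25,17,26,10,7,8,22,22,22,6,11,22,15,13,23]]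

/-- relations of step 4 -/
def rels5_4 : List (List ℕ × List Use) := [
  ([3,4,2,1], [⟨[(9,true),(9,true),(10,false),(9,false),(10,false),(8,false)],0,false,[0,2,0,2,0,3,0,2,2,2,0,2,2,0,3,3]⟩,
    ⟨[(48,true),(48,true),(42,false),(48,true),(48,true)],4,false,[2,0,3,0,3,0,2,0,2,2,2,0,2,2,0,3,0,3,3,1,3]⟩,
    ⟨[(356,true)],155,true,[2,0,2,0,3,0,2,2,2,0,3,3,0,3,0,3,1,3,3]⟩,
    ⟨[(343,false)],255,false,[2,0,2,2,0,2,0,3,0,3,0,3,0,2,2,0,3,0,2,2]⟩,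
    ⟨[(359,true),(358,false)],150,false,[2,0,3,0,2,2,0,2,0,3,0,3,0,2,0,3,3,0,2,0,2,1]⟩,
    ⟨[],68,true,[3,0,3,3,0,3,0,3,0,2,0,2,2,2,0,3,0,2,2,1,2]⟩,
    ⟨[(140,true)],186,true,[2,0,3,3,0,2,0,2,2,0,3,0,3,0,3,0,2,0,3,3]⟩,
    ⟨[(343,true),(339,true),(151,false)],231,false,[0,2,0,2,0,2,2,0,2,0,2,0,3,0,3,1]⟩,
    ⟨[(357,true)],155,true,[3,0,2,2,0,3,0,2,2,0,2,0,3,3,0,2,0,2]⟩,
    ⟨[],205,false,[2,2,0,2,0,2,2,0,2,2,0,2,0,2,0,3,0,3,1]⟩,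
    ⟨[(140,true),(118,false)],269,true,[2,0,2,0,3,3,0,3,3,0,3,0,3,0,3,3,0,3,3,0]⟩,
    ⟨[(333,true),(344,false)],188,false,[2,0,2,0,2,0,3,0,2,2,0,2,0,3,0,2,2,0,3,1,2,2]⟩,
    ⟨[],217,false,[3,3,0,2,2,0,3,3,0,3,0,2,2,2,0,2,0,3]⟩,
    ⟨[(126,false)],245,true,[2,0,2,2,0,3,3,0,3,0,2,2,0,3,0,3,3,0,3,0,2,2]⟩,
    ⟨[(344,false),(333,false),(344,false)],177,true,[0,3,3,0,2,2,0,2,0,2,2,0,2,0,3,3,0,2,2,2,0,3]⟩,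
    ⟨[(344,false)],338,false,[2,0,3,0,3,3,0,3,3,0,3,3,0,3,3,0,2,0,2,1]⟩,
    ⟨[(368,false),(126,true)],155,true,[0,2,0,2,2,0,3,0,3,3,0,2,2,0,3,0,3,3,0,3,1,2,2]⟩,
    ⟨[(339,true),(343,true),(339,true)],134,true,[0,2,0,3,0,3,3,0,3,0,2,2,0,3,0,3,3,0,2,2,0,3,1]⟩,
    ⟨[(368,false)],154,false,[0,3,3,0,3,3,0,2,2,0,2,0,2,0,2,2,0,2,2,2,1,2]⟩,
    ⟨[(366,false),(184,true)],222,true,[0,2,0,2,0,3,0,3,3,0,2,2,0,3,3,0,2,2,0,2,2]⟩,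
    ⟨[],347,true,[2,2,0,3,0,2,2,0,2,0,3,3,0,2,0,3,3,0,2,1]⟩,
    ⟨[(364,true),(369,false)],7,true,[2,2,0,2,2,2,0,2,0,3,3,0,2,0,2,2,0,3,3,0,3,0,2]⟩,
    ⟨[(342,true),(333,true)],300,false,[3,3,0,2,2,0,2,0,2,2,0,2,0,3,3,0,3,3,0,3,0,3,3]⟩,
    ⟨[(366,true),(126,false)],150,false,[3,3,0,3,0,2,2,2,0,2,0,2,2,0,3,3,0,3]⟩,
    ⟨[],174,false,[3,0,3,3,0,3,0,2,2,0,2,0,3,0,3,0,2,2,1,3]⟩,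
    ⟨[],0,true,[2,2,0,2,0,3,3,0,2,0,2,2,2,0,3,1,2,2]⟩]),
  ([1,1,2,3], [⟨[(9,true),(9,true),(10,false),(9,false),(10,false),(8,false)],0,false,[0,2,0,2,0,3,0,2,2,2,0,2,2,0,3,3]⟩,
    ⟨[(48,true),(48,true),(42,false),(48,true),(48,true)],4,false,[2,0,3,0,3,0,2,0,2,2,2,0,2,2,0,3,0,3,3,1,3]⟩,
    ⟨[(358,true)],134,false,[0,3,0,3,0,2,0,2,0,2,2,0,2,0,3,0,3,0,3,1]⟩,
    ⟨[(339,true),(343,true)],321,false,[2,0,2,2,2,0,3,3,0,3,3,0,2,0,3,3,1]⟩,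
    ⟨[(333,false),(344,false),(333,false)],197,false,[0,2,2,0,3,3,0,3,0,2,0,2,0,3,0]⟩,
    ⟨[(339,false),(343,true),(343,true)],135,true,[2,0,3,0,3,3,0,3,3,0,2,2,0,2,0,3,3]⟩,
    ⟨[(344,false),(342,false)],331,false,[2,0,3,0,3,0,3,3,0,2,0,2,2,0,2,0,3,1,2]⟩,
    ⟨[(342,false)],192,false,[2,2,0,2,0,3,0,3,3,0,3,0,3,3,0,2]⟩,
    ⟨[(102,false),(122,false),(125,true)],192,true,[2,2,0,2,0,3,0,2,2,0,2,2,2,0,2,1]⟩,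
    ⟨[(344,false),(342,true)],307,false,[0,3,0,2,0,2,2,0,3,0,3,3,0,3,0,3,0,2,0,2,2,0,2]⟩,
    ⟨[(343,false)],220,false,[2,2,0,3,0,3,0,3,3,0,2,2,0,3,3,0,3,3,0,2,1,2]⟩,
    ⟨[(333,true)],322,false,[3,0,2,0,2,2,0,3,0,3,3,0,3,3,0,3,0,3,0]⟩,
    ⟨[(118,false),(140,true)],158,true,[2,0,3,3,0,2,2,0,2,2,0,3,0,3,3,0,2,2,0,3,0,2]⟩,
    ⟨[(151,false),(343,false)],147,true,[2,2,0,2,2,0,3,3,0,2,0,2,2,0,3,1,2,2,2]⟩,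
    ⟨[(343,false),(151,false),(343,true)],197,true,[0,2,2,2,0,2,2,0,3,3,0,2,2,0,2,0,3,3,0,3,0,2,2,1,3]⟩,
    ⟨[],311,false,[2,0,3,0,2,2,0,3,3,0,3,0,3,0,3,3,0,3,3,1]⟩,
    ⟨[(333,false)],222,false,[0,3,0,2,2,0,2,0,2,0,3,0,2,2,0,2,0,2,2,0,2,2,0,3]⟩,
    ⟨[(126,false),(358,true)],150,false,[0,3,3,0,3,3,0,2,0,2,2,0,2,0,3,3,0,2,1,2,2]⟩,
    ⟨[],4,true,[3,0,2,0,2,2,0,3,0,2,2,0,2,2,2,0,2,0,3,3,0,2]⟩,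
    ⟨[],0,true,[2,0,3,3,0,2,0,2,2,2,0,2,2,0,3,0,2,2,0,2,0,3]⟩]),
  ([2,4,3,1], [⟨[(9,true),(9,true),(10,false),(9,false),(10,false),(8,false)],0,false,[0,2,0,2,0,3,0,2,2,2,0,2,2,0,3,3]⟩,
    ⟨[(48,true),(48,true),(42,false),(48,true),(48,true)],4,false,[2,0,3,0,3,0,2,0,2,2,2,0,2,2,0,3,0,3,3,1,3]⟩,
    ⟨[(126,true),(99,false)],159,false,[2,0,3,0,2,2,0,2,0,3,0,2,2,0,2,2,0,2,2,0,3]⟩,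
    ⟨[(178,false),(125,false),(102,false)],159,true,[3,0,3,3,0,3,3,0,2,2,0,3,3,0,3,0,2,0,2,1]⟩,
    ⟨[(184,true),(366,false)],198,false,[2,0,2,2,0,3,0,3,0,3,3,0,2,1,2]⟩,
    ⟨[(342,true),(333,true)],306,false,[0,3,0,3,0,2,2,0,2,0,2,0,3,0,2,2,2,0,3,0,3,3,1,3]⟩,
    ⟨[(357,false)],320,true,[0,3,0,3,3,0,2,2,0,2,2,0,3,0,2,2,0,3,0,3]⟩,
    ⟨[(342,false)],243,false,[0,3,0,2,0,3,3,0,3,0,3,3,0,2,2,0,2,0,3,3,0,3,3,0]⟩,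
    ⟨[(339,true),(343,false)],161,false,[0,2,0,3,0,2,2,2,0,2,2,0,3,3,0,3,0,3,1]⟩,
    ⟨[(126,true)],175,false,[3,0,2,0,2,0,3,0,2,2,0,2,0,3,3]⟩,
    ⟨[(178,false),(102,false),(122,true),(125,false)],159,true,[0,3,3,0,2,0,2,0,3,0,3,0,3,0,2,2,0,2,0,2,1]⟩,
    ⟨[(356,true),(358,false)],134,false,[3,0,2,0,2,0,2,0,2,2,0,2,0,3,3]⟩,
    ⟨[(343,false),(343,false)],213,false,[3,0,3,0,2,2,0,2,0,3,3,0,3,3,0,3,0,2,2,1]⟩,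
    ⟨[(365,true),(356,false)],150,false,[0,2,0,2,2,0,3,0,2,2,0,3,0,3,3,0,3,3,1,3,3]⟩,
    ⟨[(357,false),(358,true)],150,false,[0,3,0,2,2,0,2,2,0,2,2,0,2,0,3,3,0,2,1]⟩,
    ⟨[(356,false),(358,true),(99,false)],150,false,[2,0,3,0,3,0,3,3,0,2,2,0,2,0,2,2,0,3,1,2]⟩,
    ⟨[(356,false),(126,true),(99,false)],150,false,[2,0,2,2,2,0,2,2,0,2,0,2,2,0,3,0,3]⟩,
    ⟨[],210,true,[0,3,0,3,0,2,0,2,0,2,0,3,0,3,0,2,2,1,3]⟩,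
    ⟨[(342,true),(344,false)],293,false,[0,3,3,0,2,0,3,3,0,3,0,2,0,2,0,2,2,0,2,1]⟩,
    ⟨[(339,false),(343,true),(343,true)],321,false,[2,2,2,0,2,0,2,0,3,0,2,2,2,0,3,0,2,2]⟩,
    ⟨[(344,false),(333,true)],227,true,[3,0,2,0,3,3,0,2,0,2,2,0,3,3,0,3,0,3,0,2,0,2,2,1]⟩,
    ⟨[(339,true),(339,true)],207,true,[3,3,0,3,3,0,3,3,0,3,3,0,2,2,0,3,3,1,2]⟩,
    ⟨[],210,false,[0,3,0,2,2,2,0,2,0,3,0,3,0,3,3,0,3,3,0,3,0,3]⟩,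
    ⟨[(365,false),(126,false)],150,false,[2,2,0,2,0,3,3,0,3,0,2,0,2,2,0,3,3]⟩,
    ⟨[],174,false,[0,2,0,3,0,3,0,2,0,3,3,0,3,0,2,2,0,2,2,0,2,0,2,2]⟩,
    ⟨[],0,true,[2,2,0,2,2,2,0,3,3,0,2,0,2,2,0,2,0,3,3,0,2,0]⟩]),
  ([0,2,3,0], [⟨[(9,true),(9,true),(10,false),(9,false),(10,false),(8,false)],0,false,[0,2,0,2,0,3,0,2,2,2,0,2,2,0,3,3]⟩,
    ⟨[(48,true),(48,true),(42,false),(48,true),(48,true)],4,false,[2,0,3,0,3,0,2,0,2,2,2,0,2,2,0,3,0,3,3,1,3]⟩,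
    ⟨[(366,false),(126,false)],210,true,[2,0,3,3,0,2,2,2,0,3,0,3,0,3,3,0,2,2,0,2,0,2,2,0]⟩,
    ⟨[(333,false),(344,false)],152,false,[2,0,2,0,2,0,3,3,0,3,0,2,2,0,2,2,0,2,0,3,3]⟩,
    ⟨[(343,true),(151,false),(339,false)],227,false,[2,0,2,2,0,2,2,2,0,2,0,2,2,0,3,0,3,3,0,3,0,2]⟩,
    ⟨[(342,false)],268,true,[2,2,0,2,0,3,0,3,0,3,0,2,2,0,2,0,3,1,2,2]⟩,
    ⟨[(342,true)],287,false,[2,0,2,0,2,0,3,3,0,3,0,3,0,2,0,2,2,1,3]⟩,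
    ⟨[],169,false,[0,3,0,3,0,3,0,3,3,0,3,0,2,2,2,0,3,1]⟩,
    ⟨[(118,false),(140,false),(118,true)],153,false,[3,3,0,2,0,2,2,0,3,3,0,2,2,0,2,0,2,2,0,3,1]⟩,
    ⟨[(99,false)],190,true,[2,0,2,0,2,0,3,0,3,0,2,2,2,0,2,0,3,0]⟩,
    ⟨[(339,false),(151,false),(339,false)],197,true,[2,2,2,0,3,3,0,3,3,0,3,0,3,0,2,0,2,0,3]⟩,
    ⟨[],164,false,[0,2,0,2,2,0,3,3,0,3,0,3,3,0,2]⟩,
    ⟨[(343,false),(151,false)],158,false,[3,0,3,0,2,2,2,0,2,0,3,3,0,3,0,3,0,2,2,1]⟩,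
    ⟨[(140,false),(140,false),(132,true)],153,false,[0,3,3,0,3,3,0,3,3,0,3,0,2,2,0,2,2,0,2,1,2,2]⟩,
    ⟨[],174,false,[2,2,0,2,0,2,2,2,0,3,0,2,2,0,3,0,3,3,0,2,1]⟩,
    ⟨[],0,true,[0,2,2,0,3,0,2,2,0,3,0,3,3,0,2,2,0,3,3,0,2,2]⟩]),
  ([0,0,0,0], [⟨[(10,false),(9,true),(9,true),(10,false),(9,false),(9,false),(10,false),(8,false)],0,false,[3,0,3,0,2,2,0,2,0,3,0,2,2,0,2,2,0,2,2,0,3]⟩,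
    ⟨[(42,true),(42,true),(48,true),(48,true),(42,false)],4,false,[3,3,0,2,2,2,0,3,0,3,0,2,0,2,1]⟩,
    ⟨[(368,false),(358,true),(99,true)],150,false,[3,3,0,3,0,3,3,0,2,0,2,2,0,3,3,0,2,0,2,2,0]⟩,
    ⟨[(126,false),(99,true)],210,true,[2,0,2,2,0,3,1,2,2]⟩,
    ⟨[],345,true,[2,0,2,0,3,3,0,3,0,2,0,2,0,3,0,3,0,3,0,2,0,3,3]⟩,
    ⟨[(369,false)],346,false,[0,2,0,3,3,0,3,0,2,0,2,0,2,0,3,0,2,2,0,2,2,1,3]⟩,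
    ⟨[(333,false)],210,false,[2,2,2,0,3,3,0,3,0,3,3,0,2,2,0,3,3,0,2,2,0]⟩,
    ⟨[(368,true),(359,false)],150,false,[0,2,0,2,0,3,0,3,0,3,0,3,3,0,3,3,0,2,2,2]⟩,
    ⟨[],174,false,[0,2,0,3,3,0,2,0,2,2,0,2,0,2,2,0,3,3,0,3]⟩,
    ⟨[],0,true,[2,0,2,2,2,0,2,2,2,0,2,0,2,0,3,3,0,3]⟩])]

/-- vectors of step 4 -/
def orb5_4 : List (List ℕ) := [
  [15,3,12,17,27,23,20,23,2,16,11,3,1,1,12,10,28,27,11,25,4,4,3,28,26,14,4,3,23,28,14,17,5,10,0,12,5,3,19,8,25,7,8,16,1,26,18,19,27,15,22,14,17,25,13,12,2,3,28,13,19,2,13,26,27,3,11,18,17,19,21,12,3,16,19,16,28,2,8,20,8,23,26,20,11,19,21,9,19,21,19,22,10,8,10,3,24,19,1,24,6,16,20,7,28,23,23,23,4,11,13,22,21,4,23,6,2,20,25,17,26,10,7,8,22,22,22,6,11,22,15,13,23],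
  [16,2,20,9,4,27,23,19,19,11,27,1,9,22,15,12,4,19,1,13,8,23,22,11,18,19,6,3,26,4,13,18,22,11,12,8,19,18,27,9,0,18,9,28,22,22,8,19,21,25,2,10,1,17,5,20,21,12,10,5,19,28,7,1,5,21,7,11,11,21,12,20,15,14,23,25,27,1,18,23,16,18,0,16,23,20,19,5,9,11,7,13,3,11,23,8,17,8,23,6,24,27,2,19,4,3,27,20,15,14,6,10,15,8,21,26,6,25,20,12,12,16,11,4,13,27,13,16,0,13,4,27,18],
  [12,17,11,18,11,16,20,22,17,10,15,27,0,17,12,20,1,19,12,27,24,5,1,13,14,15,24,17,25,1,10,4,14,25,14,17,5,1,18,6,23,13,2,5,1,12,15,13,11,17,14,27,26,10,4,22,7,24,14,2,10,18,17,21,27,12,20,15,19,20,2,24,27,19,24,27,3,12,3,11,11,4,17,9,13,19,1,7,23,0,25,28,10,19,24,16,21,6,26,18,22,14,15,13,3,15,7,5,19,22,10,28,8,17,22,3,11,12,6,12,21,12,20,16,19,0,19,9,15,19,5,15,3],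
  [6,15,28,1,21,20,6,8,12,21,13,18,17,26,27,28,14,27,14,13,11,7,21,18,17,5,1,20,28,14,0,0,16,27,19,25,17,1,6,23,26,3,14,15,19,18,12,20,19,26,20,16,8,2,18,2,14,1,8,28,6,23,21,13,4,19,4,27,6,24,13,21,1,20,14,6,3,5,25,22,4,6,28,26,3,24,24,28,7,18,16,5,4,26,5,21,4,0,15,22,16,23,13,8,4,21,7,11,13,0,22,19,27,17,18,5,6,27,8,17,10,1,20,6,21,12,21,12,23,21,10,15,11],
  [17,12,22,7,12,7,6,2,15,14,8,17,11,6,27,1,26,8,20,25,15,13,9,15,3,11,5,17,11,26,5,9,12,1,16,26,17,18,0,11,14,10,7,7,19,21,23,13,10,9,1,7,4,28,22,4,15,11,11,20,10,3,16,12,4,15,0,9,18,1,15,6,0,9,15,14,27,7,24,26,22,8,3,18,15,24,20,16,2,8,23,12,4,5,2,12,15,9,20,15,25,11,12,15,28,2,27,19,16,8,4,26,7,8,12,16,2,8,10,16,9,13,11,25,3,25,3,1,18,3,8,27,7]]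

/-- relations of step 5 -/
def rels5_5 : List (List ℕ × List Use) := [
  ([1,0,2,4,1], [⟨[(9,true),(8,false),(9,false),(10,false),(8,false),(9,false),(9,false),(9,false),(10,false)],0,false,[0,2,0,3,0,3,0,3,0,2,0,2,2,2,0,3,0,3,0,3,0]⟩,
    ⟨[(48,false),(42,true),(48,true),(42,false),(42,false)],4,false,[3,0,2,2,0,3,3,0,2,2,0,2,0,2,0,2,2,0,3,3,1]⟩,
    ⟨[(359,false)],198,false,[2,2,2,0,3,0,3,0,3,3,0,2,2,0,3,0,3,3,0,2,2,0,3,3]⟩,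
    ⟨[(342,true),(333,true),(342,false)],208,false,[2,2,0,2,2,0,2,0,3,3,0,3,0,3,0,3,3,0,3,3,0,3]⟩,
    ⟨[(366,false)],242,true,[2,0,3,0,3,0,2,0,3,3,0,3,0,2,0,2,0,3,0,2,2,2,0]⟩,
    ⟨[(333,false),(344,false),(333,false)],180,true,[2,0,2,2,0,3,0,2,2,0,3,3,0,3,0,2,2,0,2,1]⟩,
    ⟨[(339,true),(339,true),(343,true)],296,true,[0,2,0,2,0,2,0,3,0,3,3,0,2,2,0,3,0,2]⟩,
    ⟨[(333,false)],202,true,[0,2,0,3,3,0,2,0,2,2,2,0,2,2,0,3,0,2,2,0,3]⟩,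
    ⟨[],278,false,[0,2,0,2,0,3,0,3,0,2,2,0,2,2,0,3,3,1,2]⟩,
    ⟨[(343,false),(151,false),(343,true)],197,true,[0,2,0,2,0,2,2,0,3,3,0,3,3,0,2,0,2,2,0,2,1]⟩,
    ⟨[(342,false),(333,true),(344,false)],177,true,[2,0,3,3,0,3,0,2,2,0,2,0,3,0,3,0,2,0,3,3,0,2,1,3]⟩,
    ⟨[(344,false),(333,false)],207,false,[2,0,3,3,0,3,0,3,3,0,3,0,2,2,0,3]⟩,
    ⟨[(339,false),(343,false),(151,false)],284,true,[3,0,3,0,3,0,2,0,2,0,2,0,3,0,3,3,0,3,3]⟩,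
    ⟨[(333,true)],304,false,[3,0,2,2,0,2,0,3,0,2,2,2,0,3,0]⟩,
    ⟨[(132,false),(140,false)],196,true,[0,2,0,2,0,3,0,3,0,2,2,0,2,0,2,0,3,0,2,2,0,2,0,3,0,3]⟩,
    ⟨[(333,true),(342,false)],328,true,[2,0,2,0,3,0,2,2,0,3,3,0,3,1,3]⟩,
    ⟨[(342,false)],225,false,[2,2,2,0,2,0,2,0,2,2,0,2,2,0,3,0,2]⟩,
    ⟨[(333,true),(344,false)],331,false,[0,3,0,3,3,0,2,2,0,2,0,3,3,0,2,0,3,3,1]⟩,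
    ⟨[(333,false),(344,false)],241,true,[0,2,0,2,0,3,0,2,2,2,0,2,0,3,3,0,2,0,3]⟩,
    ⟨[(342,false)],210,false,[2,0,3,0,3,0,2,0,2,2,2,0,2,0,3,0,3,0,3,3,0,2,2]⟩,
    ⟨[],4,true,[2,2,0,2,0,3,3,0,3,0,2,2,0,3,0,2,2,2,0,2,2,2,0]⟩,
    ⟨[],0,true,[0,2,2,0,2,2,0,2,2,0,3,3,0,3,0,3,0,2,0,2,2]⟩]),
  ([0,4,0,0,3], [⟨[(9,true),(8,false),(9,false),(10,false),(8,false),(9,false),(9,false),(9,false),(10,false)],0,false,[0,2,0,3,0,3,0,3,0,2,0,2,2,2,0,3,0,3,0,3,0]⟩,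
    ⟨[(48,false),(42,true),(48,true),(42,false),(42,false)],4,false,[3,0,2,2,0,3,3,0,2,2,0,2,0,2,0,2,2,0,3,3,1]⟩,
    ⟨[(357,true),(358,false)],189,true,[0,2,0,2,2,2,0,3,0,2,2,0,2,0,2,2,0,2,2,1]⟩,
    ⟨[(151,false),(343,true),(339,true)],135,true,[0,3,3,0,2,2,0,2,0,2,0,3,0,3,0,2,2,1,2]⟩,
    ⟨[(344,false),(342,false)],327,false,[0,2,2,0,3,3,0,2,2,0,2,0,2,0,3,0,3,0,2,2,0,2,0,3]⟩,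
    ⟨[(365,true)],266,true,[0,2,0,3,3,0,2,2,2,0,3,0,3,0,3,3,0,3,1,2]⟩,
    ⟨[(333,false),(344,false)],188,false,[0,2,0,3,3,0,3,0,3,0,2,0,3,3,0,2,2,0,2,2,0,2,2,0,3,0]⟩,
    ⟨[(344,false)],262,true,[2,0,2,0,3,0,3,3,0,2,2,0,3,3,0,3,0,3,0,2,2,2]⟩,
    ⟨[],267,false,[3,0,2,0,2,2,0,2,0,3,0,3,0,3,0,2,0,2,0,3,3,0,3]⟩,
    ⟨[(333,false),(344,false),(342,true)],246,false,[3,0,2,2,2,0,3,3,0,3,0,2,0,2,0,3,0,3,1,3,3]⟩,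
    ⟨[(333,false),(344,false),(333,true)],177,false,[0,2,0,2,0,3,0,2,2,2,0,3,3,0,3,0,3,3,0,3,0,2,0]⟩,
    ⟨[(333,false),(342,true)],277,false,[3,3,0,2,2,0,2,0,3,3,0,3,0,2,2,2,0,3,3,0,3,1,3]⟩,
    ⟨[(359,true),(358,true)],150,false,[3,0,3,3,0,3,3,0,2,2,0,2,0,2,0,2,2,2,0,3,1]⟩,
    ⟨[(365,true),(184,true)],134,false,[3,0,3,3,0,2,0,2,2,0,3,3,0,2,2,0,2,0,3,3,1]⟩,
    ⟨[(339,false),(343,false),(151,false)],229,false,[0,3,3,0,3,0,3,0,3,3,0,2,2,0,3,0,2,2,2,1]⟩,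
    ⟨[(344,false),(333,true)],227,true,[0,2,0,3,0,3,0,3,3,0,3,0,2,0,2,0,2,0,3,0,3,0,2,0,2]⟩,
    ⟨[(343,true),(339,true),(151,false)],162,false,[3,0,2,2,2,0,3,3,0,3,0,2,0,2,0,3,3]⟩,
    ⟨[(132,true),(166,false),(132,false)],153,false,[0,2,0,3,0,3,0,2,0,2,2,2,0,3,3,0,3,3,1,2,2]⟩,
    ⟨[],174,false,[3,0,2,0,3,3,0,2,2,0,2,0,3,0,3,0,2,0,2,2,0,2,0,3]⟩,
    ⟨[],0,true,[0,2,0,2,0,2,2,0,3,0,2,2,2,0,2,0,3,0,3,0,3,3,1,2,2]⟩]),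
  ([4,4,2,4,1], [⟨[(9,true),(8,false),(9,false),(10,false),(8,false),(9,false),(9,false),(9,false),(10,false)],0,false,[0,2,0,3,0,3,0,3,0,2,0,2,2,2,0,3,0,3,0,3,0]⟩,
    ⟨[(48,false),(42,true),(48,true),(42,false),(42,false)],4,false,[3,0,2,2,0,3,3,0,2,2,0,2,0,2,0,2,2,0,3,3,1]⟩,
    ⟨[(365,false),(99,true)],208,true,[0,2,2,0,2,0,2,2,0,3,3,0,2,2,0,2,2,0,3,1,3,3]⟩,
    ⟨[(333,true)],265,false,[0,3,0,3,0,3,0,2,0,2,0,3,0,3,0,2]⟩,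
    ⟨[(342,true),(333,false)],312,true,[0,3,0,2,2,2,0,3,0,3,0,2,0,2,0,2,1,3,3]⟩,
    ⟨[(344,false)],265,false,[0,3,0,3,3,0,3,3,0,3,3,0,3,1]⟩,
    ⟨[(333,false),(342,true),(333,false)],282,false,[3,3,0,3,0,3,0,2,0,2,0,2,2,2,0,3,3]⟩,
    ⟨[(344,false),(342,false)],327,false,[3,3,0,3,0,2,2,0,3,0,3,3,0,3,3,0,2,2,0,3,3,0]⟩,
    ⟨[],65,false,[0,2,2,0,2,0,2,0,3,0,3,0,3,3,0,2,0,2,2,0,2,0]⟩,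
    ⟨[(140,false),(166,false)],153,false,[0,2,2,2,0,3,0,3,0,2,0,3,3,0,3]⟩,
    ⟨[(184,false)],60,false,[2,2,0,3,3,0,3,3,0,3,3,0,3,0,2,0,2,0,2,0]⟩,
    ⟨[(358,true),(99,true)],198,false,[2,2,2,0,2,2,0,2,0,2,2,2,0,3,0,2,2,0,2,2]⟩,
    ⟨[(342,false),(333,true)],250,false,[0,2,0,3,0,3,0,2,0,2,2,0,3,0,3,0,3,3,0,2,0]⟩,
    ⟨[(342,true)],236,false,[3,0,3,3,0,2,2,0,2,0,3,0,3,0,3,3]⟩,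
    ⟨[(122,false),(125,true),(102,false)],175,true,[2,0,2,2,0,2,2,0,2,0,2,2,0,3,3,0,3,0,2,2,0,3]⟩,
    ⟨[(368,false),(99,true)],150,false,[0,3,3,0,3,0,3,1,2,2]⟩,
    ⟨[(184,false)],51,true,[0,3,0,2,0,3,3,0,2,0,2,2,0,2,0,3,0,3,3]⟩,
    ⟨[(140,false),(166,true),(118,true)],153,false,[0,2,2,2,0,3,0,2,2,2,0,3,3,0,3,0,3,3]⟩,
    ⟨[(184,true),(126,true)],210,true,[0,3,0,2,0,2,2,0,3,0,3,0,3,3,0,2,2,2]⟩,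
    ⟨[(342,false),(333,true)],271,true,[0,3,0,3,0,3,3,0,2,2,0,2,2,0,3,3,0,3,0,3,0,3,3,1]⟩,
    ⟨[(342,true)],194,false,[3,3,0,2,0,2,2,0,3,3,0,3,0,3,3,0,2,2,0,2,1,3]⟩,
    ⟨[(178,true),(102,false),(125,true)],236,true,[3,0,2,2,0,2,0,2,2,0,2,2,2,0,2,0,2,2,0,3,0,2,2,2]⟩,
    ⟨[(333,true),(344,false)],193,true,[0,2,2,2,0,2,0,2,2,0,2,0,3,3,0,3,3,0,3,1]⟩,
    ⟨[(359,true),(357,false)],150,false,[0,3,0,3,0,2,2,0,3,0,3,3,0,2,0,2,2,1,3,3]⟩,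
    ⟨[(126,false),(99,true)],154,false,[0,2,2,2,0,3,3,0,3,3,0,3,0,3,0,2,0,2,1,3]⟩,
    ⟨[(368,true)],336,true,[0,3,3,0,3,3,0,3,0,2,0,2,0,2,2,0,2,2,2,0]⟩,
    ⟨[(344,false),(342,false)],227,true,[3,0,2,0,2,2,0,2,0,2,2]⟩,
    ⟨[(343,true),(339,true)],189,false,[2,0,2,0,3,0,2,2,0,2,2,0,2,2,0,2,2,2]⟩,
    ⟨[(357,true),(126,false)],150,false,[0,2,0,3,3,0,3,3,0,3,0,2,0,2,0,2,2,1,2,2]⟩,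
    ⟨[(126,false),(99,true)],210,true,[3,0,3,0,2,2,2,0,2,2,0,2,2,0,2,0,2,0]⟩,
    ⟨[],345,true,[2,0,3,0,3,0,3,3,0,3,3,0,3,0,2,2,0,3,0]⟩,
    ⟨[(369,false)],346,false,[3,0,3,0,2,0,2,2,1,2]⟩,
    ⟨[(333,false)],210,false,[2,0,3,0,3,0,2,0,2,0,2,0,3,3,0,3,0,2,0,2]⟩,
    ⟨[(368,true),(359,false)],150,false,[3,3,0,3,0,2,2,2,0,2,0,2,2,0,3,3,0,3]⟩,
    ⟨[],174,false,[3,0,3,3,0,3,0,2,2,0,2,0,3,0,3,0,2,2,1,3]⟩,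
    ⟨[],0,true,[2,2,0,2,0,3,3,0,2,0,2,2,2,0,3,1,2,2]⟩]),
  ([1,3,4,3,4], [⟨[(9,true),(8,false),(9,false),(10,false),(8,false),(9,false),(9,false),(9,false),(10,false)],0,false,[0,2,0,3,0,3,0,3,0,2,0,2,2,2,0,3,0,3,0,3,0]⟩,
    ⟨[(48,false),(42,true),(48,true),(42,false),(42,false)],4,false,[3,0,2,2,0,3,3,0,2,2,0,2,0,2,0,2,2,0,3,3,1]⟩,
    ⟨[(184,false)],222,true,[0,2,0,2,0,3,3,0,2,0,3,3,0,3,3,0,2,0,2,0,2,0]⟩,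
    ⟨[(333,false),(342,true)],193,true,[3,0,3,0,3,3,0,3,0,2,2,0,3,0,3,3,0,2,0,2,0,2,1]⟩,
    ⟨[(368,true),(357,true)],208,true,[2,0,2,0,2,0,2,2,0,3,3,0,3,3,0,3,0,3,1,3,3]⟩,
    ⟨[(342,false)],211,false,[2,2,0,3,3,0,2,0,2,2,0,3,0,3,3,0,2,2,0,3,0]⟩,
    ⟨[(126,false)],154,false,[0,2,2,0,2,2,0,2,2,0,2,0,3,3,0,2,0,2,2,2,1,3]⟩,
    ⟨[(184,false),(99,false)],159,false,[0,3,3,0,2,2,0,2,2,0,3,3,0,3,0,3,0,3,3,1,3,3]⟩,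
    ⟨[(125,false),(102,false)],171,true,[0,3,3,0,3,0,3,3,0,3,3,0,3,3,0,2,0,2,0]⟩,
    ⟨[(122,true),(178,true),(178,true)],159,true,[0,3,3,0,3,0,2,2,0,2,0,3,3,0,2,0,3,3,0,3,0,2,1,2]⟩,
    ⟨[(184,true)],154,false,[2,0,2,0,3,0,3,3,0,2,0,2,0,2,2,0,2,1,3]⟩,
    ⟨[(356,true),(358,false)],134,false,[3,0,3,0,2,0,2,0,3,0,2,2,0,2]⟩,
    ⟨[(343,false),(339,false)],160,false,[3,3,0,2,0,2,0,3,0,2,2,0,2,2,2,0,2,0,2,2,1,2]⟩,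
    ⟨[(118,true)],156,false,[0,2,0,3,0,3,3,0,3,3,0,3,0,2,0]⟩,
    ⟨[(118,true)],212,true,[0,3,0,3,0,2,0,2,2,0,3,0,3,0,2,0,3,3,0,3,1,2,2]⟩,
    ⟨[(342,true)],261,false,[0,2,2,0,2,0,2,0,3,3,0,2,0,2,2,0,2,2,0,3,1,2]⟩,
    ⟨[(126,true),(366,false)],150,false,[0,3,0,2,0,2,2,0,3,0,3,3,0,2,0,2,2,0,2,0,3,3,0,2]⟩,
    ⟨[(358,true)],163,false,[2,2,0,2,0,2,2,0,3,3,0,3,0,2,0,2,0,2,0,3]⟩,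
    ⟨[(184,false)],49,false,[0,2,0,2,0,2,0,3,0,3,3,0,3,0,3,0,2,0,2,0,3]⟩,
    ⟨[(140,false)],219,false,[0,2,0,3,3,0,2,0,2,2,0,2,0,2,2,2,0,3,3,0,3]⟩,
    ⟨[(140,false),(166,true)],176,false,[0,2,0,2,0,3,0,3,3,0,2,2,0,3,3,0,3,1,3,3]⟩,
    ⟨[(342,false),(342,false),(344,false)],218,true,[0,2,0,3,0,2,2,0,2,0,3,0,2,2,0,2,2,0,3,0,3,3,1,3]⟩,
    ⟨[(344,false)],315,false,[3,3,0,3,0,3,0,2,2,2,0,2,0,3,0,3]⟩,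
    ⟨[(118,false),(140,false)],176,false,[2,2,2,0,2,0,2,0,3,0,2,2,2,0,2,2,0,3,0,3,3,1]⟩,
    ⟨[(342,false)],210,false,[0,2,0,2,0,2,2,2,0,3,3,0,3,0,2,2,0,3,0,3,3,0,2]⟩,
    ⟨[(126,false)],161,true,[3,0,3,0,3,3,0,3,0,2,2,0,3,1,2]⟩,
    ⟨[(339,false),(343,false)],149,false,[3,0,3,0,2,2,0,2,2,0,2,2,0,2,2,0,3,0,3,1,2]⟩,
    ⟨[(343,true)],255,false,[2,0,2,2,0,3,3,0,2,2,2,0,2,0,3,0,3]⟩,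
    ⟨[],266,true,[2,2,2,0,2,2,0,2,2,0,2,2,0,2,2,2]⟩,
    ⟨[(333,true)],187,true,[0,2,2,0,2,2,0,2,0,2,0,2,2,0,2,2,2,0,2,0,2,2]⟩,
    ⟨[(333,false),(344,false)],222,false,[2,2,2,0,2,0,2,2,0,2,0,2,2,2,0,3,3,0,3]⟩,
    ⟨[(184,true)],327,true,[0,2,0,3,3,0,2,2,0,2,0,3,0,3,3,0,3,1,3,3]⟩,
    ⟨[(344,false)],222,false,[3,0,3,0,2,2,0,3,0,3,3,0,2,2,0,2,2]⟩,
    ⟨[(358,false),(366,true)],150,false,[0,3,3,0,3,3,0,2,0,2,2,0,2,0,3,3,0,2,1,2,2]⟩,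
    ⟨[],4,true,[3,0,2,0,2,2,0,3,0,2,2,0,2,2,2,0,2,0,3,3,0,2]⟩,
    ⟨[],0,true,[2,0,3,3,0,2,0,2,2,2,0,2,2,0,3,0,2,2,0,2,0,3]⟩]),
  ([0,0,3,2,3], [⟨[(9,true),(8,false),(9,false),(10,false),(8,false),(9,false),(9,false),(9,false),(10,false)],0,false,[0,2,0,3,0,3,0,3,0,2,0,2,2,2,0,3,0,3,0,3,0]⟩,
    ⟨[(48,false),(42,true),(48,true),(42,false),(42,false)],4,false,[3,0,2,2,0,3,3,0,2,2,0,2,0,2,0,2,2,0,3,3,1]⟩,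
    ⟨[(359,false),(356,false)],150,false,[2,2,0,3,0,3,0,2,0,2,2,0,3,0,3,3,0,3,0,3,0,2,1]⟩,
    ⟨[(365,false),(184,false)],198,false,[0,2,2,0,3,3,0,2,0,2,2,0,3,3,0,3,0,2,2,2,0,2]⟩,
    ⟨[(342,false),(344,false)],246,true,[3,0,2,0,2,2,0,2,0,2,0,2,2,0,3,3,0,3,1,2]⟩,
    ⟨[(342,true),(333,true)],230,false,[2,2,0,3,0,3,0,2,2,2,0,2,0,3,0,3,0,3,3,0,3,3]⟩,
    ⟨[(339,false),(339,false)],307,true,[2,2,0,3,0,2,2,0,2,0,3,3,0,3,3,0,3,3,0,2,0,2]⟩,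
    ⟨[(342,false)],277,false,[0,3,0,2,0,2,2,0,2,2,0,3,0,3,3,0,2,2,1,2]⟩,
    ⟨[(99,false)],213,true,[0,2,0,2,0,2,2,0,3,0,3,3,0,2,2,0,3,0,2]⟩,
    ⟨[(339,true),(343,true),(343,true)],142,true,[0,3,0,3,0,2,2,0,3,0,2,2,0,2,2,2,0,2,0,2]⟩,
    ⟨[(339,true),(151,false)],195,false,[3,0,3,0,2,2,2,0,2,0,3,3,0,2,0,2,2,0,3,1]⟩,
    ⟨[(358,true)],261,true,[0,2,0,2,0,3,3,0,3,0,3,0,2,0,3,3,0,2,2,0,2,2]⟩,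
    ⟨[(342,false)],257,false,[0,3,0,3,0,3,0,2,0,2,2,0,3,0,3,3,0,3,0,3,0,2]⟩,
    ⟨[(344,false),(342,true),(333,false)],187,false,[3,0,2,0,2,0,2,0,3,3,0,3,3,0,2,0,2,2,2,1,2,2]⟩,
    ⟨[(342,true)],298,true,[3,0,2,2,0,2,0,3,0,3,0,2,0,2,0,2,0,2,2]⟩,
    ⟨[],334,false,[3,3,0,2,0,2,0,2,2,0,3,0,3,3,0,2,2,0,2,1]⟩,
    ⟨[(342,false)],180,true,[0,3,3,0,2,2,0,2,0,3,0,2,2,0,2,2,0,2,2,0,2]⟩,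
    ⟨[(343,true),(151,false),(339,false)],243,true,[2,0,2,0,2,0,3,0,3,3,0,2,2,2,1]⟩,
    ⟨[(344,false)],246,true,[0,2,0,3,0,3,0,2,0,2,0,3,0,2,2,2,0,3,0,3,1]⟩,
    ⟨[(344,false)],234,false,[2,2,0,2,0,2,0,3,0,3,3,0,3,0,2,2,0,2,1,3]⟩,
    ⟨[],174,false,[0,2,2,0,3,0,3,0,3,3,0,3,0,3,0,2,1,2,2]⟩,
    ⟨[],0,true,[2,2,0,2,2,0,2,2,0,2,2,0,3,0,2,2,2,1,3,3]⟩]),
  ([1,1,1,0,0], [⟨[(9,false),(10,false),(8,true),(9,false),(10,false),(9,false),(10,false),(8,false)],0,false,[2,0,3,3,0,2,0,2,0,3,0,3,0,3,3,0,3,0,2,2]⟩,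
    ⟨[(42,true),(48,false)],4,false,[0,3,3,0,3,0,3,3,0,2,2,0,3,3,0,3,3,0,2,0]⟩,
    ⟨[(358,false)],154,false,[2,2,0,2,0,2,2,2,0,3,3,0,3,0,3,1,3,3]⟩,
    ⟨[(368,false),(184,true)],150,false,[0,3,0,3,3,0,3,0]⟩,
    ⟨[(366,true)],253,true,[2,2,0,3,0,3,3,0,2,0,2,2,0,2,0,2,0,3,1,3,3]⟩,
    ⟨[],330,true,[2,0,3,0,2,2,0,2,0,2,2,0,3,3,0,2,2,0,2,1,3]⟩,
    ⟨[(344,false),(342,false)],135,false,[0,2,0,2,0,2,0,2,2,2,0,3,0,2,2,0,3,0,3,3,0,2,1,3]⟩,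
    ⟨[(339,true),(343,true)],231,false,[3,0,3,0,2,2,0,3,0,2,2,0,2,0,3,3,0,2,0]⟩,
    ⟨[(365,true)],306,true,[3,3,0,3,0,3,3,0,3,3,0,3,0,2,2,0,2,2]⟩,
    ⟨[(342,true)],307,false,[0,3,0,2,2,0,2,0,3,0,3,0,2,0,2,0,3]⟩,
    ⟨[(151,false),(343,true)],224,true,[0,2,0,2,0,2,2,0,2,0,3,0,2,2,0,2,2,0,3]⟩,
    ⟨[],288,true,[3,3,0,2,2,0,3,3,0,3,0,2,2,0,2,2,0,3,1]⟩,
    ⟨[(342,true),(333,true)],316,false,[2,2,0,3,3,0,2,2,0,2,0,2,0,2,2,2,0,2,0,3,3,1]⟩,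
    ⟨[(356,false),(126,true)],150,false,[2,0,2,2,0,3,3,0,3,3,0,2,0,2,0,2,0,3,1,2,2]⟩,
    ⟨[],4,true,[2,0,3,0,3,0,2,0,3,3,0,3,3,0,2,0,2,2,0,2]⟩,
    ⟨[],0,true,[2,0,3,0,3,3,0,2,2,0,3,0,2,2,1]⟩])]

/-- vectors of step 5 -/
def orb5_5 : List (List ℕ) := [
  [11,13,1,28,27,1,27,22,6,12,22,11,16,12,1,7,17,7,0,22,20,28,19,19,13,1,26,10,14,17,7,8,26,22,15,5,25,2,2,24,5,23,26,7,20,2,3,14,5,25,5,22,19,4,20,10,5,23,7,21,1,22,22,17,16,2,7,23,7,19,25,9,27,13,11,5,5,19,13,17,15,5,22,10,6,8,19,6,10,0,15,23,10,26,1,10,28,7,19,19,1,20,20,20,16,1,20,13,16,14,14,3,13,9,16,19,19,25,26,22,13,28,26,5,13,24,13,17,16,13,7,21,20]]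

end CfsgLib.Sporadic.HNLower
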