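import Cfsg.Agent.Lib.Sporadic.HNCoset.Check

set_option autoImplicit false
set_option maxRecDepth 20000
set_option Elab.async false

/-! Generators and relations for the prime 3 (owner: helper25). -/

namespace CfsgLib.Sporadic.HNLower

open CfsgLib.Sporadic.HNCoset (Use)

/-- generators -/
def gens3 : List (List ℕ) := [
  [2,1,2,4,2,4,3,0,3,0,2,2,0,2,0,2,0,3,0,3,0,3,3,1,6,4,3,4,3,4,6,3,4,3,4,1,3,3,4,0,2,2,0,2,2,2,0,2,2,2,0,3,1,3],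
  [4,2,4,2,4,2,0,2,0,3,0,2,2,0,3,1,3,3,6,4,3,4,3,4,6,2,4,1,2,4,0,2,2,2,0,2,0,3,3,0,2,0,2,2,0,2,0,2,2,0,3,3,1,3],
  [4,2,4,1,3,3,4,3,0,3,0,2,0,3,3,0,2,2,2,0,2,2,0,6,4,3,4,3,4,6,2,4,1,2,4,2,0,3,0,3,0,2,2,0,2,2,0,3,0,2,2,2],
  [4,2,4,2,4,2,0,2,2,2,0,2,0,2,0,3,0,2,2,0,3,0,6,4,3,4,3,4,6,3,0,2,2,0,3,0,3,3,0,3,0,3,3,0,2,2,0,3,1,3],
  [1,3,4,2,2,4,2,0,3,3,0,3,0,2,0,2,0,3,3,0,3,0,2,2,0,3,6,4,3,4,3,4,6,4,3,4,3,4,3,0,3,3,0,2,0,2,2,0,2,0,3,3,0,3,1,2],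
  [2,2,4,2,4,0,2,0,2,0,3,0,3,0,2,2,2,0,2,0,2,1,6,4,3,4,3,4,6,3,4,3,3,4,3,4,0,2,2,2,0,3,0,3,0,2,1,2]]

/-- relations of step 0 -/
def rels3_0 : List (List ℕ × List Use) := [
  ([], [⟨[(9,false),(8,false),(9,false),(10,false),(9,false),(10,false)],0,false,[3,0,3,0,2,2,0,2,0,2,0,3,0,3,0,3,3,0]⟩,
    ⟨[(48,false),(48,false),(48,false),(42,false),(48,true),(48,true)],4,false,[2,0,2,0,3,0,3,0,2,2,0,2,0,3,3,0,3,0,2]⟩,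
    ⟨[(358,true),(359,false)],150,false,[2,0,2,0,3,0,3,0,2,0,3,3,0,3,3,0,2,2,0,3]⟩,
    ⟨[(126,true),(184,true),(99,false)],150,false,[0,3,0,3,0,2,2,0,3,0,2,2,0,3,0,3,0,3,0,2,1,3,3]⟩,
    ⟨[],174,false,[0,2,0,3,0,2,2,0,2,2,0,3,3,0,2,2,0,2,0]⟩,
    ⟨[],0,true,[3,0,2,0,3,3,0,3,0,2,2,0,2,0,3,0,3,0,2,0,2,0,2]⟩])]

/-- vectors of step 0 -/
def orb3_0 : List (List ℕ) := [
  [0,16,14,3,16,27,28,1,24,16,6,24,21,1,2,17,22,3,1,8,23,21,2,11,23,25,18,27,2,15,3,17,2,8,2,27,28,13,8,2,27,3,26,15,13,28,13,8,3,22,22,1,14,15,11,19,23,1,25,20,25,22,10,0,16,17,21,27,7,8,0,10,10,1,27,26,6,28,8,1,19,22,25,23,17,6,13,27,1,28,10,10,6,9,25,11,5,28,18,21,15,13,19,21,19,19,18,27,18,10,4,8,1,28,10,10,9,20,23,5,8,19,7,27,21,16,21,8,25,2,7,25,1]]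

/-- relations of step 1 -/
def rels3_1 : List (List ℕ × List Use) := [
  ([1], [⟨[(9,false),(10,false),(8,false),(9,false),(9,false),(9,false),(10,false),(8,false)],0,false,[3,3,0,2,0,2,0,3,0,2,2,0,2,0,3,0,3,3,1,3]⟩,
    ⟨[(48,true),(42,true),(48,true),(42,false)],4,false,[0,3,3,0,2,2,0,2,0,3,0,2,2,0,2,2,0,2,2,2,1]⟩,
    ⟨[(99,true),(99,true)],193,false,[2,0,3,0,2,2,0,3,3,0,3,0,2,2,0,2,2,0,3,1,2]⟩,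
    ⟨[(333,false)],346,true,[0,2,2,0,2,0,2,2,0,2,0,3,0,3,0,3,0,2,0,2,0,3,3]⟩,
    ⟨[(350,false),(361,false)],348,false,[0,2,0,2,2,2,0,2,2,0,3,0,3,3,1]⟩,
    ⟨[(344,false)],338,false,[2,0,3,0,2,2,0,2,2,0,2,0,3,3,0,2,0,2,0]⟩,
    ⟨[],174,false,[2,0,2,0,3,3,0,2,0,2,2,0,2,0,2,0,3,0,2,2,2,0,2,0]⟩,
    ⟨[],0,true,[0,2,0,2,0,2,2,0,2,0,3,0,3,0,2,0,3,3,0,2,0,2,0,3,0]⟩]),
  ([0], [⟨[(10,false),(9,false),(10,false),(9,false),(10,false),(8,true)],0,false,[0,2,0,2,0,3,0,2,2,0,3,1,3,3]⟩,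
    ⟨[(42,true),(48,true),(48,true),(42,true)],4,false,[2,2,0,2,0,3,3,0,3,3,0,2,2,2,0,2,1,3]⟩,
    ⟨[(368,false)],175,false,[0,2,0,3,0,3,0,3,0,2,0,3,3,0,2,0]⟩,
    ⟨[(102,false),(178,true),(122,true),(125,false)],159,true,[0,3,0,2,2,2,0,3,0,3,3,0,2,0]⟩,
    ⟨[],174,false,[0,2,0,2,2,0,2,2,0,3,0,3,3,0,3,3,0,3,0,3,0,2,1]⟩,
    ⟨[],0,true,[2,0,3,0,3,3,0,2,0,3,3,0,3,3,0,3,3,0,2,2,1,2]⟩])]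

/-- vectors of step 1 -/
def orb3_1 : List (List ℕ) := [
  [22,2,16,23,7,11,1,6,23,14,11,26,19,12,22,11,13,3,18,4,22,11,25,9,20,3,26,18,2,15,27,6,20,15,0,11,7,14,24,19,2,23,14,15,27,15,8,15,14,12,26,15,23,3,16,22,7,21,6,22,12,25,24,17,6,13,10,0,8,18,9,24,4,7,4,19,24,12,10,12,25,17,6,0,2,15,8,28,22,16,24,11,17,23,19,11,7,15,10,23,16,24,27,9,5,6,14,15,11,8,10,6,11,21,27,18,23,12,23,12,8,20,6,10,18,1,21,14,8,22,10,4,5]]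

/-- relations of step 2 -/
def rels3_2 : List (List ℕ × List Use) := [
  ([1,0], [⟨[(9,false),(9,false),(8,true),(9,false),(10,false),(9,false),(10,false)],0,false,[2,0,3,0,3,0,2,2,0,2,2,0,3,0,3,0,2,1,3]⟩,
    ⟨[(42,false),(48,false),(42,false),(48,false),(42,true),(48,false)],4,false,[0,3,3,0,2,2,0,2,0,3,0,3,3,0,2,0,3,3,1]⟩,
    ⟨[(356,false),(184,true)],154,false,[2,0,3,3,0,3,0,3,3,0,3,3,0,3,0,3,0,2,0,2]⟩,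
    ⟨[(368,false),(99,false)],182,false,[2,0,3,0,2,2,0,2,0,3,0,2,2,0,3,0,3,3,0,2,2,1]⟩,
    ⟨[(344,false),(333,false)],264,false,[3,0,3,0,3,3,0,2,0,2,0,3,0,3,3,0,2,0,3]⟩,
    ⟨[(99,true)],154,false,[2,2,0,2,2,0,3,0,2,2,0,3,0,3,3,0,3,0,2,2,0]⟩,
    ⟨[],174,false,[0,3,0,3,0,2,2,0,2,2,0,3,0,2,2,2,0,2,2,1]⟩,
    ⟨[],0,true,[3,0,2,2,0,2,2,0,2,0,3,0,3,0,3,3,0,2,2,2,0]⟩]),
  ([0,1], [⟨[(9,false),(9,false),(8,true),(9,false),(10,false),(9,false),(10,false)],0,false,[2,0,3,0,3,0,2,2,0,2,2,0,3,0,3,0,2,1,3]⟩,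
    ⟨[(42,false),(48,false),(42,false),(48,false),(42,true),(48,false)],4,false,[0,3,3,0,2,2,0,2,0,3,0,3,3,0,2,0,3,3,1]⟩,
    ⟨[(184,false)],240,true,[0,3,3,0,3,3,0,2,0,2,2,0,3,0,3,3]⟩,
    ⟨[(344,false),(333,true)],266,false,[3,3,0,3,0,2,0,2,0,2,2,0,3,3,0,2,0,3,3,0,3]⟩,
    ⟨[(359,false),(126,false)],159,false,[3,0,3,0,3,0,3,3,0,3,0,2,0,2,0,2,0,3]⟩,
    ⟨[(178,false),(122,false)],175,true,[0,3,3,0,2,0,2,0,3,0,2,2,2,0,3]⟩,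
    ⟨[],174,false,[2,0,2,0,3,0,2,2,0,3,0,3,3,0,2,0,3,3,1,2,2,2]⟩,
    ⟨[],0,true,[0,2,2,0,2,0,2,2,2,0,2,2,0,2,0,2,2,0,2,0]⟩]),
  ([0,0], [⟨[(10,false),(9,true),(10,false),(8,false),(9,false),(9,false),(10,false)],0,false,[3,3,0,2,2,2,0,2,2,0,2,0,3,0,3,1,2]⟩,
    ⟨[(42,false),(42,false),(48,false),(42,false)],4,false,[0,2,0,2,0,3,3,0,3,0,2,2,0,2,2,0,3,0,3,0,2,1]⟩,
    ⟨[],253,true,[0,3,0,2,0,2,0,3,0,3,3,0,2,0,2,2,0,2,0,3,0]⟩,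
    ⟨[(333,false)],306,false,[0,3,0,2,0,2,0,2,0,2,2,0,3,3,0,3,3,0,3]⟩,
    ⟨[],4,true,[0,3,0,2,0,2,2,0,3,0,3,0,3,0,2,0,2,0,3,3,0]⟩,
    ⟨[],0,true,[3,0,3,3,0,2,2,0,3,3,0,2,2,0,2,2,0,3]⟩])]

/-- vectors of step 2 -/
def orb3_2 : List (List ℕ) := [
  [11,1,9,1,11,17,5,11,28,12,18,26,15,22,21,0,20,14,26,3,9,8,0,9,18,1,25,12,8,6,26,11,8,24,10,24,1,4,19,15,7,4,3,27,4,17,15,17,13,28,26,17,12,12,5,19,27,17,4,3,6,25,14,12,16,4,16,25,21,17,6,5,25,12,6,0,3,8,14,5,2,5,10,27,7,3,15,9,0,25,8,27,3,19,20,24,11,27,15,1,16,10,20,5,12,7,13,11,6,10,1,15,25,19,6,24,17,10,12,0,19,0,26,20,22,23,27,21,12,6,19,9,25]]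

/-- relations of step 3 -/
def rels3_3 : List (List ℕ × List Use) := [
  ([1,2,1], [⟨[],0,false,[0,2,2,0,3,3,0,2,0,2,2,0,2,2,0,2,0,3,3,1,2]⟩,
    ⟨[(48,true),(48,true),(42,true),(48,true),(42,false)],4,false,[0,3,3,0,2,0,3,3,0,2,0,2,2,0,2,2,0,2,2,2,1]⟩,
    ⟨[(368,true),(99,false)],193,false,[0,2,0,2,2,0,2,0,2,2,2,0,3,3,0]⟩,
    ⟨[(344,false),(333,false)],250,true,[0,2,2,0,2,2,0,3,0,3,3,0,2,2,0,2,0,2,2,0,3,3,0,3,0]⟩,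
    ⟨[(333,false),(342,true)],137,false,[2,0,3,3,0,3,0,3,3,0,2,2,0,2,1]⟩,
    ⟨[(339,false),(339,false)],6,true,[3,3,0,2,0,3,3,0,2,0,2,0,2,2,0,2,2]⟩,
    ⟨[(166,false),(166,false)],269,true,[2,0,2,0,2,0,3,0,3,0,2,0,2,0,2,2,0,2,2,2]⟩,
    ⟨[],348,true,[2,0,3,3,0,3,0,3,3,0,2,0,2,2,0,2,0,3,0,3,3]⟩,
    ⟨[(360,false),(367,false),(360,true)],7,true,[0,2,2,2,0,3,0,3,0,2,2,2,0,3,1,2]⟩,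
    ⟨[(344,false),(342,true),(333,false)],282,true,[2,0,2,2,0,2,0,3,3,0,3,0,3,0,3,3,0,2,2,0,3,3]⟩,
    ⟨[(344,false),(342,true),(344,false)],202,true,[0,3,0,2,0,2,0,3,0,3,0,3,3,0,2,2,2,0,2,0,2,1,2]⟩,
    ⟨[(342,false)],285,false,[0,3,0,2,0,2,0,3,0,3,3,0,3,0,3,0,2,0,2,2,1]⟩,
    ⟨[],4,true,[0,3,3,0,3,3,0,3,0,3,0,3,3,0,2,2,2,0,3,0]⟩,
    ⟨[],0,true,[3,0,2,0,3,3,0,3,0,3,3,0,2,2,0,3,3,0,3,0,2]⟩]),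
  ([0,0,1], [⟨[],0,false,[0,2,2,0,3,3,0,2,0,2,2,0,2,2,0,2,0,3,3,1,2]⟩,
    ⟨[(48,true),(48,true),(42,true),(48,true),(42,false)],4,false,[0,3,3,0,2,0,3,3,0,2,0,2,2,0,2,2,0,2,2,2,1]⟩,
    ⟨[],4,true,[3,0,2,0,2,2,0,2,2,0,3,0,3,3,0,2,0,3,3,1]⟩,
    ⟨[(48,true),(42,true),(42,true),(48,false)],167,true,[3,0,3,0,2,0,2,0,2,0,3,0,2,2,0,3,3,0,3,0,2]⟩,
    ⟨[],175,true,[3,3,0,2,2,0,3,3,0,3,3,0,3,3,0,2,0,2,0,2,1]⟩,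
    ⟨[(368,true)],154,false,[0,3,3,0,2,0,2,2,0,2,0,3,0,2,2,2,0,3,0]⟩,
    ⟨[],4,true,[2,0,2,2,0,2,2,0,3,3,0,2,2,0,2,0,3,3,0,2,0,3,3]⟩,
    ⟨[],0,true,[2,2,0,2,2,0,3,0,3,0,2,0,2,0,2,0,2,2,2,0]⟩]),
  ([0,2,2], [⟨[],0,false,[0,2,2,0,3,3,0,2,0,2,2,0,2,2,0,2,0,3,3,1,2]⟩,
    ⟨[(48,true),(48,true),(42,true),(48,true),(42,false)],4,false,[0,3,3,0,2,0,3,3,0,2,0,2,2,0,2,2,0,2,2,2,1]⟩,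
    ⟨[(99,true)],254,true,[0,3,0,2,2,2,0,3,3,0,3,0,3,0,3,3,0,3,3,1,2]⟩,
    ⟨[(344,false),(342,true),(344,false),(333,false)],177,false,[3,3,0,2,0,2,2,0,3,3,0,3,0,2,2,2,1,3]⟩,
    ⟨[(333,false),(344,false)],311,true,[2,0,3,0,2,2,0,3,3,0,3,0,2,2,0,3]⟩,
    ⟨[],247,false,[2,0,3,0,3,3,0,2,2,0,3,3,0,3,0,2,2,0,2,0]⟩,
    ⟨[(125,false),(178,true)],170,false,[0,3,0,2,0,2,2,0,3,0,3,3,0,2,2,0,3,1]⟩,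
    ⟨[(333,true),(342,false)],274,false,[0,2,0,2,0,2,0,2,2,0,2,2,0,3,0,3,3,0,3,0,3,0,2]⟩,
    ⟨[(184,false),(126,false)],150,false,[3,3,0,3,3,0,3,3,0,3,0,2,2,0,2,2,0,3,3]⟩,
    ⟨[(365,false),(358,false)],150,false,[3,0,2,2,0,2,2,0,3,3,0,3,3,0,2,2,0]⟩,
    ⟨[(184,false),(99,true)],159,false,[0,2,2,0,2,0,2,0,3,0,3,0,2,2,0,2,0,3,0,3,0,2]⟩,
    ⟨[(102,false),(178,false)],159,true,[2,0,3,0,2,2,0,2,0,2,2,0,2,1,2]⟩,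
    ⟨[],174,false,[2,0,2,0,2,0,3,0,2,2,0,2,0,2,2,2,0,3,1,2]⟩,
    ⟨[],0,true,[0,2,0,3,3,0,3,3,0,3,3,0,2,2,2,0,2,0,3,0]⟩]),
  ([0,0,0], [⟨[(10,false),(9,false),(10,false),(9,false),(10,false),(8,true)],0,false,[0,2,0,2,2,2,0,2,0,2,0,3,0,2,2,0,3,0]⟩,
    ⟨[(42,true),(42,true),(48,true),(48,true)],4,false,[0,2,0,3,0,3,0,3,3,0,2,2,0,2,0,3,0,2]⟩,
    ⟨[(368,true)],253,true,[0,2,0,2,0,2,0,3,0,3,3,0,3,3,0,3,3,1,3,3]⟩,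
    ⟨[(333,false)],306,false,[2,0,2,2,0,2,0,3,0,3,0,3,0,3,3,0,2,2,0,2]⟩,
    ⟨[],4,true,[0,3,3,0,2,0,3,3,0,3,0,2,0,2,2,0,3,3,1]⟩,
    ⟨[],0,true,[3,0,3,3,0,2,0,3,3,0,2,0,2,2,0,3,3,0,2,2,1,2]⟩])]

/-- vectors of step 3 -/
def orb3_3 : List (List ℕ) := [
  [9,1,22,14,8,2,23,7,5,17,14,9,7,3,18,0,1,0,15,26,25,21,17,27,24,22,11,13,17,17,25,18,12,8,16,8,1,9,24,27,24,9,4,23,3,28,13,1,18,15,0,15,6,22,7,23,12,10,13,11,4,19,10,11,12,23,22,20,24,14,27,14,18,6,10,4,15,9,14,25,27,18,25,1,20,11,7,27,12,3,22,5,3,11,14,28,6,25,16,10,8,17,20,8,2,6,20,22,11,26,16,7,5,2,21,8,0,3,6,21,14,6,20,26,14,3,24,0,24,27,13,4,12]]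

/-- relations of step 4 -/
def rels3_4 : List (List ℕ × List Use) := [
  ([1,0,1,2], [⟨[(10,false),(8,false),(9,false),(9,false),(10,false),(9,false),(10,false)],0,false,[2,0,2,0,3,0,3,3,0,3,0,2,2,0,2,0,3,3,1,2]⟩,
    ⟨[(42,true),(42,true),(48,false)],4,false,[0,2,0,3,0,3,3,0,2,2,0,2,0,3,3,0,2,1,3,3]⟩,
    ⟨[(126,false),(184,false)],193,false,[0,2,2,2,0,2,2,0,2,2,0,2,2,0,3,3,0,3]⟩,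
    ⟨[(342,false),(344,false)],286,false,[0,3,0,3,3,0,2,0,3,3,0,2,0,2,2,0,3,0,3,3]⟩,
    ⟨[(333,false),(342,true)],298,true,[3,0,3,0,2,0,2,2,0,2,0,2,2,0,3,0,3,1]⟩,
    ⟨[],254,false,[0,3,0,3,0,3,0,2,0,2,0,2,0,3,0,3,3,0,2,2,1]⟩,
    ⟨[(184,true)],275,true,[3,0,3,3,0,3,3,0,2,0,2,0,2,0,3,0,3,0,3,3]⟩,
    ⟨[(342,false),(333,true)],203,false,[0,2,0,3,0,3,3,0,3,0,2,2,0,3,0,2,2,2,1]⟩,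
    ⟨[(357,false),(358,true)],134,false,[0,3,0,3,0,3,3,0,2,0,2,2,0,2,0,3,3,1,2,2]⟩,
    ⟨[(343,true),(339,true)],326,false,[0,3,0,2,0,2,0,3,0,2,2,2,0,3,0,3,0,2]⟩,
    ⟨[(184,false)],222,true,[2,0,2,0,2,2,2,0,2,0,2,0,3,3,1]⟩,
    ⟨[(342,true)],226,false,[0,2,2,0,2,0,2,0,3,0,3,3,0,2,0,2,2,0,2,2,2,0]⟩,
    ⟨[],174,false,[2,0,2,2,2,0,3,0,2,2,0,3,0,3,0]⟩,
    ⟨[],0,true,[0,2,2,2,0,3,3,0,3,0,2,0,2,0,3,3,0,3,0,3,3]⟩]),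
  ([0,0,2,2], [⟨[(10,false),(8,false),(9,false),(9,false),(10,false),(9,false),(10,false)],0,false,[2,0,2,0,3,0,3,3,0,3,0,2,2,0,2,0,3,3,1,2]⟩,
    ⟨[(42,true),(42,true),(48,false)],4,false,[0,2,0,3,0,3,3,0,2,2,0,2,0,3,3,0,2,1,3,3]⟩,
    ⟨[(365,true),(184,false)],150,false,[3,0,3,0,2,0,2,2,2,0,2,0,2,0,3,0,3,0,3]⟩,
    ⟨[(356,false)],306,true,[3,0,2,2,0,3,0,3,3,0,3,3,0,3,0,3,0,3,3,1]⟩,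
    ⟨[(344,false),(333,false)],328,true,[2,0,3,0,2,2,0,3,0,2,2,0,3,0,3,3,0,2,1]⟩,
    ⟨[(344,false),(342,false)],236,false,[0,2,0,3,3,0,2,2,0,2,2,0,2,0,2,0,3,0]⟩,
    ⟨[(122,false),(178,false),(122,false),(102,false)],159,true,[3,0,3,0,3,0,2,0,2,2,0,3,3,1,3]⟩,
    ⟨[],210,true,[2,0,2,0,3,0,3,0,3,0,2,0,2,0,2,0,3,0,3,0,2,2,0,2]⟩,
    ⟨[(342,true)],218,true,[0,2,0,2,2,0,2,0,3,0,3,3,0,2,2,0,2,0,2,2,0,2,1,2]⟩,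
    ⟨[(344,false)],338,false,[2,2,0,3,3,0,3,0,2,2,0,2,0,3,3,0]⟩,
    ⟨[(365,false),(358,true)],208,true,[2,0,2,0,2,0,2,2,0,3,3,0,2,1,2]⟩,
    ⟨[(333,false),(342,true)],253,false,[0,3,0,2,0,2,0,3,0,3,3,0,2,0,2,2,0,2,0,3,0]⟩,
    ⟨[],4,true,[0,2,0,2,0,3,3,0,3,0,2,2,0,2,2,0,3,0,3,0,2,1]⟩,
    ⟨[],0,true,[3,0,2,0,3,3,0,2,0,2,2,0,2,2,0,3,0,3,0]⟩]),
  ([0,2,0,2], [⟨[(10,false),(8,false),(9,false),(9,false),(10,false),(9,false),(10,false)],0,false,[2,0,2,0,3,0,3,3,0,3,0,2,2,0,2,0,3,3,1,2]⟩,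
    ⟨[(42,true),(42,true),(48,false)],4,false,[0,2,0,3,0,3,3,0,2,2,0,2,0,3,3,0,2,1,3,3]⟩,
    ⟨[(358,true),(126,false)],150,false,[2,0,3,0,2,2,0,3,0,3,3,0,3,0,2,2,0,3,0]⟩,
    ⟨[(368,false),(358,true)],150,false,[2,0,3,0,3,0,2,0,3,3,0,2,0,2,2,2,0,2,0]⟩,
    ⟨[(365,false)],163,false,[2,2,2,0,2,0,2,0,3,0,3,3,0,2,0,2,2,0,2,1]⟩,
    ⟨[(184,false),(99,true)],163,false,[0,2,2,2,0,2,0,3,3,0,2,0,2,2,0,2,0,3,3,0,2,0,2,2,2,0]⟩,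
    ⟨[(356,true),(184,false)],198,false,[2,0,2,0,3,3,0,3,0,2,2,0,2,2,0,3,0,2,2,2,1,2]⟩,
    ⟨[],247,false,[3,0,3,0,2,0,2,2,0,2,0,2,0,2,2,2,0,3,1,3]⟩,
    ⟨[(102,false)],173,false,[0,2,2,0,2,2,2,0,3,0,2,2,0,3,3,0,3,0,2,2,1,3]⟩,
    ⟨[(48,false),(48,false)],4,false,[2,0,2,0,2,0,3,3,0,3,0,2,0,2,0,2,2,0,3,3,0,2,0]⟩,
    ⟨[(357,false),(184,false)],159,false,[0,3,0,2,2,2,0,3,0,3,3,0,2,0]⟩,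
    ⟨[(178,true),(102,false)],159,true,[0,2,0,2,0,3,3,0,3,0,2,0,2,0,2,2,0,3,3,0,2,1,3]⟩,
    ⟨[],174,false,[2,0,3,3,0,2,2,0,2,0,3,3,0,3,3,0,2,2,0,3,3,1,3]⟩,
    ⟨[],0,true,[0,2,0,2,0,2,0,2,2,0,2,2,2,0,3,0,2,2,0,3,0,3,3,1]⟩]),
  ([0,2,2,0], [⟨[(10,false),(8,false),(9,false),(9,false),(10,false),(9,false),(10,false)],0,false,[2,0,2,0,3,0,3,3,0,3,0,2,2,0,2,0,3,3,1,2]⟩,
    ⟨[(42,true),(42,true),(48,false)],4,false,[0,2,0,3,0,3,3,0,2,2,0,2,0,3,3,0,2,1,3,3]⟩,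
    ⟨[(365,true),(184,false)],150,false,[0,2,0,2,2,0,2,0,2,2,0,3,0,3,3,0,3,0]⟩,
    ⟨[(184,true),(99,true)],150,false,[0,3,0,2,0,2,2,2,0,2,0,3,0,3,0,3,0]⟩,
    ⟨[(356,true)],203,true,[0,2,2,0,3,3,0,2,0,2,2,0,3,3,0,3,0,2,2,1]⟩,
    ⟨[(344,false)],5,true,[2,0,3,0,3,3,0,2,2,0,3,3,0,2,2,0,2,0]⟩,
    ⟨[(125,true),(102,false),(122,true)],170,false,[2,2,0,2,2,0,3,0,2,2,2,1,3]⟩,
    ⟨[(344,false)],208,false,[3,3,0,2,2,2,0,2,0,2,0,3,0,3,0,3,0,2,1,3]⟩,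
    ⟨[(365,false),(358,false)],150,false,[2,2,0,3,3,0,3,3,0,2,0,2,2,0,2,0,3]⟩,
    ⟨[(368,false),(358,true)],150,false,[0,3,3,0,3,3,0,2,2,0,2,2,0,3,0]⟩,
    ⟨[(126,true)],175,false,[0,3,0,2,2,2,0,2,0,2,2,0,3,0,2,2]⟩,
    ⟨[(178,false),(102,false),(122,false),(102,false)],159,true,[2,0,3,0,2,2,0,2,0,2,2,0,2,1,2]⟩,
    ⟨[],174,false,[2,0,2,0,2,0,3,0,2,2,0,2,0,2,2,2,0,3,1,2]⟩,
    ⟨[],0,true,[0,2,0,3,3,0,3,3,0,3,3,0,2,2,2,0,2,0,3,0]⟩]),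
  ([0,0,0,0], [⟨[(8,true),(9,true),(10,false),(9,false),(9,false),(10,false)],0,false,[2,0,3,3,0,3,0,2,0,2,0,3,3,0,3,0,2,2,0,3]⟩,
    ⟨[(48,true),(42,true),(48,false)],4,false,[3,0,3,0,3,0,3,3,0,2,2,0,3,3,0,3,0,3,0,2,0,3,3,1]⟩,
    ⟨[(365,false),(358,true)],134,false,[0,3,0,3,0,2,0,2,2,2,0,3,0,3,0,2,0]⟩,
    ⟨[(343,false),(151,false),(343,false)],195,false,[3,0,2,0,2,0,2,0,3,0,2,2,0,2,2,2,0,2,0,2,2]⟩,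
    ⟨[],174,false,[3,0,2,0,2,2,0,2,2,0,3,0,3,3,0,3,0,2,0,2,0,3,1]⟩,
    ⟨[],0,true,[2,2,0,3,0,2,2,0,3,0,2,2,0,2,0,3,3,0,3,3,1,3,3]⟩])]

/-- vectors of step 4 -/
def orb3_4 : List (List ℕ) := [
  [4,28,6,23,7,8,27,23,26,26,11,23,28,2,23,13,18,14,24,2,1,11,27,28,7,11,1,14,7,27,3,1,21,4,2,22,2,20,16,0,4,17,19,2,16,28,13,16,20,16,17,3,28,5,10,26,20,10,7,0,11,4,23,1,18,8,3,22,20,13,23,10,0,5,25,0,18,0,7,19,0,11,20,27,4,23,1,18,27,9,19,14,3,6,8,16,4,1,5,23,19,21,4,21,17,14,23,4,2,23,18,2,21,9,4,19,4,0,16,27,5,13,8,21,3,2,11,17,19,5,22,25,16]]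

/-- relations of step 5 -/
def rels3_5 : List (List ℕ × List Use) := [
  ([1,1,1,1,0], [⟨[(9,true),(10,false),(9,false),(10,false),(8,false),(9,false),(9,false),(10,false)],0,false,[0,2,0,2,0,3,0,3,0,3,0,3,3,0,2,2,1,2,2]⟩,
    ⟨[(48,true),(48,true),(42,false),(48,false),(42,false),(42,false)],4,false,[2,0,2,2,0,3,0,3,0,2,0,2,0,2,2,2,0,2,1,2]⟩,
    ⟨[(358,true)],49,false,[0,2,2,0,3,0,2,2,0,3,0,3,3,0,3,3,0,3,0]⟩,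
    ⟨[(166,true),(118,true)],292,true,[2,2,0,3,3,0,2,0,2,2,2,1,2,2]⟩,
    ⟨[(342,false),(342,false)],193,true,[2,0,3,3,0,2,0,2,2,2,0,3,0,2,2,0,3,0,3,3,0,3]⟩,
    ⟨[(368,false),(126,true)],150,false,[0,2,0,2,0,3,0,3,0,2,0,2,0,3,0,3,3,0,2,1,3,3]⟩,
    ⟨[],264,true,[0,3,3,0,2,2,0,2,0,3,3,0,3,3,0,3,0,3,3,0]⟩,
    ⟨[(333,true),(342,false),(344,false)],218,true,[3,0,3,3,0,2,2,0,2,2,0,2,2,0,3,0,3,3,0,2,0,3]⟩,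
    ⟨[(333,false),(344,false)],152,false,[0,2,2,0,3,0,3,3,0,3,0,2,2,0,3,0,3,3,1,2,2]⟩,
    ⟨[(151,false),(339,false)],295,true,[0,2,0,2,2,0,2,0,2,2,2,0,2,2,1,2]⟩,
    ⟨[],248,true,[0,2,2,0,2,0,3,0,3,0,2,0,2,0,2,0,3,0,2,2,1,3]⟩,
    ⟨[(344,false)],276,false,[0,2,0,2,0,2,2,0,2,0,3,3,0,3,0,2,2,2,1,2]⟩,
    ⟨[],4,true,[2,2,2,0,3,3,0,3,0,2,2,0,3,0,2,2,0,3,0,3,0]⟩,
    ⟨[],0,true,[3,3,0,2,2,2,0,2,2,0,2,0,2,0,3,1,3,3]⟩]),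
  ([0,2,1,1,0], [⟨[(9,true),(10,false),(9,false),(10,false),(8,false),(9,false),(9,false),(10,false)],0,false,[0,2,0,2,0,3,0,3,0,3,0,3,3,0,2,2,1,2,2]⟩,
    ⟨[(48,true),(48,true),(42,false),(48,false),(42,false),(42,false)],4,false,[2,0,2,2,0,3,0,3,0,2,0,2,0,2,2,2,0,2,1,2]⟩,
    ⟨[(126,false)],264,true,[2,2,0,3,0,3,0,2,0,2,2,2,0,3,0,3,0,2,2,2,1]⟩,
    ⟨[(333,false)],250,false,[2,2,0,2,0,2,2,0,2,2,0,2,0,3,3,1,3,3]⟩,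
    ⟨[(342,false),(342,false),(344,false)],218,true,[3,0,2,2,0,3,3,0,2,2,0,2,0,3,3,0,3,3,0,2,2,1,2]⟩,
    ⟨[(344,false)],312,false,[0,2,0,3,0,3,0,2,2,0,2,0,3,0,2,2,0,2,2,2]⟩,
    ⟨[(342,false),(333,false)],198,true,[0,2,2,0,3,3,0,3,0,3,0,2,0,2,0,2,0,3,0,3,3,1,3]⟩,
    ⟨[(357,false),(184,false)],150,false,[0,2,0,2,2,0,3,3,0,3,0,3,3,0,2,2,0,2,0,3,0,3,0,3]⟩,
    ⟨[(356,true),(358,false),(99,false)],150,false,[2,2,0,3,3,0,3,3,0,2,0,2,2,0,2,0,3]⟩,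
    ⟨[(368,false),(358,true)],150,false,[0,3,3,0,3,3,0,2,2,0,2,2,0,3,0]⟩,
    ⟨[(126,true)],175,false,[0,3,0,2,2,2,0,2,0,2,2,0,3,0,2,2]⟩,
    ⟨[(178,false),(102,false),(122,false),(102,false)],159,true,[2,0,3,0,2,2,0,2,0,2,2,0,2,1,2]⟩,
    ⟨[],174,false,[2,0,2,0,2,0,3,0,2,2,0,2,0,2,2,2,0,3,1,2]⟩,
    ⟨[],0,true,[0,2,0,3,3,0,3,3,0,3,3,0,2,2,2,0,2,0,3,0]⟩]),
  ([0,1,2,1,0], [⟨[(9,true),(10,false),(9,false),(10,false),(8,false),(9,false),(9,false),(10,false)],0,false,[0,2,0,2,0,3,0,3,0,3,0,3,3,0,2,2,1,2,2]⟩,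
    ⟨[(48,true),(48,true),(42,false),(48,false),(42,false),(42,false)],4,false,[2,0,2,2,0,3,0,3,0,2,0,2,0,2,2,2,0,2,1,2]⟩,
    ⟨[(99,false)],153,true,[2,2,0,2,2,0,2,2,0,3,0,2,2,0,2,2,0]⟩,
    ⟨[(132,false),(166,false)],318,true,[2,2,0,2,0,2,0,3,0,2,2,0,2,2,0,3,0,3,3,1]⟩,
    ⟨[(344,false),(342,false)],306,false,[3,0,2,0,2,2,0,2,2,2,0]⟩,
    ⟨[(368,true),(368,true)],150,false,[0,3,3,0,3,0,2,0,2,2,0,3,0,3,3,0,3,0,3]⟩,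
    ⟨[(99,true),(358,false)],150,false,[3,0,3,0,2,0,2,0,3,0,2,2,0,3]⟩,
    ⟨[(366,false),(358,true)],150,false,[0,2,0,2,0,2,0,3,3,0,3,0,3,0,2,0,2,0,2,2,0,2]⟩,
    ⟨[(99,false)],253,true,[3,3,0,2,2,0,2,0,2,0,3,0,3,0,2,0,2,2,0,3,0,3,1,3]⟩,
    ⟨[(333,false)],233,false,[2,0,3,3,0,2,0,2,2,2,0,2,2,0,3,0,3,3]⟩,
    ⟨[(122,true),(178,true),(122,false)],159,true,[0,2,0,3,3,0,3,0,3,0,2,0,2,2,0,2,0,3,3,0,3,1]⟩,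
    ⟨[(368,true),(358,false)],150,false,[2,2,2,0,3,3,0,2,0,2,2,0,2,0,2,2,0,3,0,3,1]⟩,
    ⟨[],174,false,[0,3,0,2,0,2,0,2,0,3,0,2,2,0,2,2,1,2,2]⟩,
    ⟨[],0,true,[2,2,0,2,0,3,0,3,0,2,0,2,2,0,3,3,0,3,0,2,2]⟩]),
  ([0,1,1,2,0], [⟨[(9,true),(10,false),(9,false),(10,false),(8,false),(9,false),(9,false),(10,false)],0,false,[0,2,0,2,0,3,0,3,0,3,0,3,3,0,2,2,1,2,2]⟩,
    ⟨[(48,true),(48,true),(42,false),(48,false),(42,false),(42,false)],4,false,[2,0,2,2,0,3,0,3,0,2,0,2,0,2,2,2,0,2,1,2]⟩,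
    ⟨[(126,false)],264,true,[0,2,2,0,3,3,0,2,0,3,3,0,3,3,0,2,0,2,2,1,2]⟩,
    ⟨[(333,false),(342,true)],192,false,[2,0,2,2,0,3,3,0,3,0,3,0,3,3,0,3,3,0,3,0]⟩,
    ⟨[],61,false,[0,2,2,2,0,2,0,2,2,0,3,3,0,3,0,2,0,2,0,2]⟩,
    ⟨[(166,false),(118,false),(118,false)],6,false,[0,3,3,0,3,0,2,0,2,2,0,3,3,0,3,0,2,2,0,3,0,3,3,1,3]⟩,
    ⟨[(339,true),(151,false),(339,false)],134,true,[2,0,2,2,2,0,2,0,3,3,0,3,3,0,3,3,1,2,2]⟩,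
    ⟨[],266,true,[2,0,2,0,3,3,0,3,0,2,2,0,2,2,0,2,0,2,0]⟩,
    ⟨[(333,true),(344,false)],240,false,[0,2,2,2,0,3,0,3,3,0,3,0,3,0,2,0,2,2,1]⟩,
    ⟨[(365,true)],159,false,[3,0,2,2,0,2,2,0,2,0,3,0,2,2,0,2,2,0,2,2,1,2]⟩,
    ⟨[(102,false),(125,true),(178,false)],159,true,[0,2,2,0,3,0,3,3,0,3,0,3,1,2,2]⟩,
    ⟨[(126,true),(184,false)],150,false,[2,2,2,0,3,3,0,2,0,2,2,0,2,0,2,2,0,3,0,3,1]⟩,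
    ⟨[],174,false,[0,3,0,2,0,2,0,2,0,3,0,2,2,0,2,2,1,2,2]⟩,
    ⟨[],0,true,[2,2,0,2,0,3,0,3,0,2,0,2,2,0,3,3,0,3,0,2,2]⟩]),
  ([2,1,0,0,1], [⟨[(9,true),(10,false),(9,false),(10,false),(8,false),(9,false),(9,false),(10,false)],0,false,[0,2,0,2,0,3,0,3,0,3,0,3,3,0,2,2,1,2,2]⟩,
    ⟨[(48,true),(48,true),(42,false),(48,false),(42,false),(42,false)],4,false,[2,0,2,2,0,3,0,3,0,2,0,2,0,2,2,2,0,2,1,2]⟩,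
    ⟨[(126,false)],277,true,[3,0,3,0,2,2,0,3,0,3,3,0,2,2,0,2,0,3,1,3,3]⟩,
    ⟨[(342,false)],257,false,[0,3,0,2,2,2,0,2,0,2,0,3,0,3,0,3,0,2,0,2,1]⟩,
    ⟨[(333,false),(342,true)],242,false,[0,2,0,2,0,3,3,0,3,0,3,0,2,0,2,0,3,3,0,3,1]⟩,
    ⟨[(368,true),(126,false)],208,true,[0,2,0,3,0,2,2,2,0,3,0,3,3,0,3,0,2,2,2,1,3]⟩,
    ⟨[(344,false),(342,true),(333,true)],248,false,[0,2,0,2,2,2,0,2,0,3,0,3,3,0,3,3]⟩,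
    ⟨[],346,true,[0,3,0,2,0,3,3,0,3,3,0,3,3,0,3,3,0,2,2,0,2]⟩,
    ⟨[(360,true),(350,false)],352,false,[2,0,3,0,2,2,2,0,2,0,2,0,3,0,3,0,2,2,2,1]⟩,
    ⟨[(344,false)],254,false,[2,2,2,0,2,2,0,2,0,2,2,0,2,0,3,0,2,2]⟩,
    ⟨[(99,true),(356,true)],150,false,[2,0,2,2,2,0,2,2,0,3,0,2,2,2,0,2,0,2,2,0,3,1]⟩,
    ⟨[(359,false),(184,true),(99,false)],150,false,[0,3,0,3,0,2,0,2,0,3,0,3,0,3,0,3,3,0,2,2,0,2]⟩,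
    ⟨[],174,false,[0,3,3,0,2,0,2,0,3,0,2,2,0,3,0,2,2,2,0,2,0,3,0]⟩,
    ⟨[],0,true,[0,2,0,3,3,0,2,2,0,3,3,0,3,0,3,0,2,0,2,0,2,2,1,2]⟩]),
  ([0,2,1,0,0], [⟨[(9,false),(9,false),(10,false),(9,false),(10,false),(8,false),(8,false)],0,false,[0,2,0,2,0,3,0,3,0,2,2,2,0,2,0,2,0]⟩,
    ⟨[(48,true),(48,true)],174,true,[0,2,2,0,2,2,0,3,0,3,3,0,3,0,3,3,0,2,1,2,2]⟩,
    ⟨[(366,true)],208,true,[0,2,0,2,2,0,3,3,0,3,3,0,3,0,2,0,2,1,2]⟩,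
    ⟨[],266,false,[2,2,0,3,0,3,0,2,0,2,0,2,0,3,0,2,2,0,2,2,0,3,1]⟩,
    ⟨[(359,false)],195,true,[2,0,2,0,3,0,3,3,0,2,2,0,3,0,3,3,0,3,1]⟩,
    ⟨[(343,true),(343,true),(339,true)],155,false,[0,3,0,2,0,2,0,3,0,2,2,0,2,2,2,0,2,0,2,2,1,3]⟩,
    ⟨[(366,false),(184,false)],150,false,[3,3,0,3,3,0,3,3,0,3,0,2,2,0,2,2,0,3,3]⟩,
    ⟨[(365,false),(358,false)],150,false,[3,0,2,2,0,2,2,0,3,3,0,3,3,0,2,2,0]⟩,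
    ⟨[(184,false),(99,true)],159,false,[0,2,2,0,2,0,2,0,3,0,3,0,2,2,0,2,0,3,0,3,0,2]⟩,
    ⟨[(102,false),(178,false)],159,true,[2,0,3,0,2,2,0,2,0,2,2,0,2,1,2]⟩,
    ⟨[],174,false,[2,0,2,0,2,0,3,0,2,2,0,2,0,2,2,2,0,3,1,2]⟩,
    ⟨[],0,true,[0,2,0,3,3,0,3,3,0,3,3,0,2,2,2,0,2,0,3,0]⟩])]

/-- vectors of step 5 -/
def orb3_5 : List (List ℕ) := [
  [4,28,6,23,7,8,27,23,26,26,11,23,28,2,23,13,18,14,24,2,1,11,27,28,7,11,1,14,7,27,3,1,21,4,2,22,2,20,16,0,4,17,19,2,16,28,13,16,20,16,17,3,28,5,10,26,20,10,7,0,11,4,23,1,18,8,3,22,20,13,23,10,0,5,25,0,18,0,7,19,0,11,20,27,4,23,1,18,27,9,19,14,3,6,8,16,4,1,5,23,19,21,4,21,17,14,23,4,2,23,18,2,21,9,4,19,4,0,16,27,5,13,8,21,3,2,11,17,19,5,22,25,16],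
  [25,15,17,1,19,6,12,0,1,2,23,13,3,1,5,22,12,23,13,2,0,5,15,20,0,10,7,19,1,3,12,11,4,9,23,26,4,0,18,2,18,8,25,27,26,20,0,11,22,22,23,16,14,1,14,2,11,27,20,0,22,15,16,18,25,27,22,28,15,0,28,20,18,1,27,12,0,19,5,13,9,3,28,25,6,24,9,21,23,20,4,12,5,21,19,26,15,18,0,28,3,2,15,0,19,16,10,13,28,5,20,6,21,25,14,14,3,1,22,11,1,3,21,4,0,9,17,22,13,20,6,9,20],
  [15,21,26,16,23,6,3,26,20,17,1,20,12,26,18,13,26,0,6,14,26,21,8,22,21,23,21,0,5,3,12,14,28,26,24,4,14,16,19,26,27,4,20,4,28,1,16,2,22,9,15,18,11,26,7,3,7,27,14,8,4,7,0,23,4,24,24,7,11,25,18,6,1,25,28,10,3,20,2,16,12,18,24,3,5,26,19,0,26,1,24,6,27,9,3,26,0,24,7,13,6,24,28,17,7,28,17,14,18,11,25,20,11,17,22,23,14,20,20,28,1,21,18,4,22,4,0,12,11,4,10,3,16]]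

end CfsgLib.Sporadic.HNLower
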