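import Cfsg.Agent.Lib.Sporadic.HNLower.TwoData
import Cfsg.Agent.Lib.Sporadic.HNLower.ThreeData
import Cfsg.Agent.Lib.Sporadic.HNLower.Cert

set_option autoImplicit false
set_option maxRecDepth 20000
set_option Elab.async false

/-! Checks of steps (owner: helper25). -/

namespace CfsgLib.Sporadic.HNLower

open CfsgLib.Sporadic.HNCoset (Use)

theorem closed2_9_part0 : closedPart gens2 orb2_9 0 1 = true := by
  decide +kernel

theorem rels2_13_part1 : relsPart 2 gens2 13 rels2_13 3 3 = true := by
  decide +kernel

theorem closed2_12_part4 : closedPart gens2 orb2_12 8 2 = true := by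
  decide +kernel

theorem closed2_13_part6 : closedPart gens2 orb2_13 6 1 = true := by
  decide +kernel

theorem closed3_2_part0 : closedPart gens3 orb3_2 0 2 = true := by
  decide +kernel

theorem closed2_1_part0 : closedPart gens2 orb2_1 0 1 = true := by
  decide +kernel

theorem base2_1 : baseOK gens2 1 rels2_1 (orb2_1.headD []) orb2_1 = true := by
  decide +kernel

end CfsgLib.Sporadic.HNLower
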