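import Cfsg.Agent.Lib.Sporadic.HNLower.TwoData
import Cfsg.Agent.Lib.Sporadic.HNLower.ThreeData
import Cfsg.Agent.Lib.Sporadic.HNLower.FiveData
import Cfsg.Agent.Lib.Sporadic.HNLower.Cert

set_option autoImplicit false
set_option maxRecDepth 20000
set_option Elab.async false

/-! Checks of steps (owner: helper25). -/

namespace CfsgLib.Sporadic.HNLower

open CfsgLib.Sporadic.HNCoset (Use)

theorem rels5_4_part0 : relsPart 5 gens5 4 rels5_4 0 3 = true := by
  decide +kernel

theorem rels2_12_part0 : relsPart 2 gens2 12 rels2_12 0 4 = true := by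
  decide +kernel

theorem closed2_12_part1 : closedPart gens2 orb2_12 2 2 = true := by
  decide +kernel

theorem closed2_13_part2 : closedPart gens2 orb2_13 2 1 = true := by
  decide +kernel

theorem closed5_3_part0 : closedPart gens5 orb5_3 0 3 = true := by
  decide +kernel

theorem base3_3 : baseOK gens3 3 rels3_3 (orb3_3.headD []) orb3_3 = true := by
  decide +kernel

theorem base2_7 : baseOK gens2 7 rels2_7 (orb2_7.headD []) orb2_7 = true := by
  decide +kernel

end CfsgLib.Sporadic.HNLower
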