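import Cfsg.Agent.Lib.Sporadic.HNLower.TwoData
import Cfsg.Agent.Lib.Sporadic.HNLower.FiveData
import Cfsg.Agent.Lib.Sporadic.HNLower.Cert

set_option autoImplicit false
set_option maxRecDepth 20000
set_option Elab.async false

/-! Checks of steps (owner: helper25). -/

namespace CfsgLib.Sporadic.HNLower

open CfsgLib.Sporadic.HNCoset (Use)

theorem rels2_9_part0 : relsPart 2 gens2 9 rels2_9 0 4 = true := by
  decide +kernel

theorem rels2_11_part1 : relsPart 2 gens2 11 rels2_11 4 3 = true := by
  decide +kernel

theorem rels2_3_part0 : relsPart 2 gens2 3 rels2_3 0 4 = true := by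
  decide +kernel

theorem closed2_13_part4 : closedPart gens2 orb2_13 4 1 = true := by
  decide +kernel

theorem closed2_8_part1 : closedPart gens2 orb2_8 5 3 = true := by
  decide +kernel

theorem base5_0 : baseOK gens5 0 rels5_0 (orb5_0.headD []) orb5_0 = true := by
  decide +kernel

end CfsgLib.Sporadic.HNLower
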