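import Cfsg.Agent.Lib.Sporadic.HNLower.TwoData
import Cfsg.Agent.Lib.Sporadic.HNLower.ThreeData
import Cfsg.Agent.Lib.Sporadic.HNLower.FiveData
import Cfsg.Agent.Lib.Sporadic.HNLower.Cert

set_option autoImplicit false
set_option maxRecDepth 20000
set_option Elab.async false

/-! Checks of steps (owner: helper25). -/

namespace CfsgLib.Sporadic.HNLower

open CfsgLib.Sporadic.HNCoset (Use)

theorem rels2_11_part0 : relsPart 2 gens2 11 rels2_11 0 4 = true := by
  decide +kernel

theorem rels2_4_part0 : relsPart 2 gens2 4 rels2_4 0 5 = true := by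
  decide +kernel

theorem closed2_5_part0 : closedPart gens2 orb2_5 0 5 = true := by
  decide +kernel

theorem closed2_13_part9 : closedPart gens2 orb2_13 9 1 = true := by
  decide +kernel

theorem closed2_7_part1 : closedPart gens2 orb2_7 5 2 = true := by
  decide +kernel

theorem rels3_0_part0 : relsPart 3 gens3 0 rels3_0 0 1 = true := by
  decide +kernel

theorem base5_3 : baseOK gens5 3 rels5_3 (orb5_3.headD []) orb5_3 = true := by
  decide +kernel

end CfsgLib.Sporadic.HNLower
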