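import Cfsg.Agent.Lib.Sporadic.HNLower.TwoData
import Cfsg.Agent.Lib.Sporadic.HNLower.ThreeData
import Cfsg.Agent.Lib.Sporadic.HNLower.FiveData
import Cfsg.Agent.Lib.Sporadic.HNLower.Cert

set_option autoImplicit false
set_option maxRecDepth 20000
set_option Elab.async false

/-! Checks of steps (owner: helper25). -/

namespace CfsgLib.Sporadic.HNLower

open CfsgLib.Sporadic.HNCoset (Use)

theorem rels2_9_part1 : relsPart 2 gens2 9 rels2_9 4 4 = true := by
  decide +kernel

theorem rels2_8_part1 : relsPart 2 gens2 8 rels2_8 4 4 = true := by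
  decide +kernel

theorem closed2_8_part0 : closedPart gens2 orb2_8 0 5 = true := by
  decide +kernel

theorem rels2_9_part2 : relsPart 2 gens2 9 rels2_9 8 2 = true := by
  decide +kernel

theorem rels2_12_part3 : relsPart 2 gens2 12 rels2_12 11 2 = true := by
  decide +kernel

theorem base3_0 : baseOK gens3 0 rels3_0 (orb3_0.headD []) orb3_0 = true := by
  decide +kernel

theorem base5_5 : baseOK gens5 5 rels5_5 (orb5_5.headD []) orb5_5 = true := by
  decide +kernel

end CfsgLib.Sporadic.HNLower
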