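import Cfsg.Agent.Lib.Sporadic.HNLower.TwoData
import Cfsg.Agent.Lib.Sporadic.HNLower.ThreeData
import Cfsg.Agent.Lib.Sporadic.HNLower.FiveData
import Cfsg.Agent.Lib.Sporadic.HNLower.Cert

set_option autoImplicit false
set_option maxRecDepth 20000
set_option Elab.async false

/-! Checks of steps (owner: helper25). -/

namespace CfsgLib.Sporadic.HNLower

open CfsgLib.Sporadic.HNCoset (Use)

theorem rels2_10_part1 : relsPart 2 gens2 10 rels2_10 4 4 = true := by
  decide +kernel

theorem rels2_7_part1 : relsPart 2 gens2 7 rels2_7 4 4 = true := by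
  decide +kernel

theorem closed2_6_part0 : closedPart gens2 orb2_6 0 5 = true := by
  decide +kernel

theorem closed2_13_part10 : closedPart gens2 orb2_13 10 1 = true := by
  decide +kernel

theorem rels5_5_part2 : relsPart 5 gens5 5 rels5_5 5 1 = true := by
  decide +kernel

theorem closed3_1_part0 : closedPart gens3 orb3_1 0 1 = true := by
  decide +kernel

theorem base5_1 : baseOK gens5 1 rels5_1 (orb5_1.headD []) orb5_1 = true := by
  decide +kernel

end CfsgLib.Sporadic.HNLower
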