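import Cfsg.Agent.Lib.Sporadic.HNLower.TwoData
import Cfsg.Agent.Lib.Sporadic.HNLower.ThreeData
import Cfsg.Agent.Lib.Sporadic.HNLower.FiveData
import Cfsg.Agent.Lib.Sporadic.HNLower.Cert

set_option autoImplicit false
set_option maxRecDepth 20000
set_option Elab.async false

/-! Checks of steps (owner: helper25). -/

namespace CfsgLib.Sporadic.HNLower

open CfsgLib.Sporadic.HNCoset (Use)

theorem rels2_8_part0 : relsPart 2 gens2 8 rels2_8 0 4 = true := by
  decide +kernel

theorem rels2_6_part0 : relsPart 2 gens2 6 rels2_6 0 4 = true := by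
  decide +kernel

theorem closed2_11_part1 : closedPart gens2 orb2_11 5 5 = true := by
  decide +kernel

theorem rels3_5_part1 : relsPart 3 gens3 5 rels3_5 4 2 = true := by
  decide +kernel

theorem closed3_3_part0 : closedPart gens3 orb3_3 0 3 = true := by
  decide +kernel

theorem base5_4 : baseOK gens5 4 rels5_4 (orb5_4.headD []) orb5_4 = true := by
  decide +kernel

end CfsgLib.Sporadic.HNLower
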