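import Cfsg.Agent.Lib.Sporadic.HNLower.TwoData
import Cfsg.Agent.Lib.Sporadic.HNLower.ThreeData
import Cfsg.Agent.Lib.Sporadic.HNLower.FiveData
import Cfsg.Agent.Lib.Sporadic.HNLower.Cert

set_option autoImplicit false
set_option maxRecDepth 20000
set_option Elab.async false

/-! Checks of steps (owner: helper25). -/

namespace CfsgLib.Sporadic.HNLower

open CfsgLib.Sporadic.HNCoset (Use)

theorem rels2_11_part2 : relsPart 2 gens2 11 rels2_11 7 4 = true := by
  decide +kernel

theorem rels2_10_part0 : relsPart 2 gens2 10 rels2_10 0 4 = true := by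
  decide +kernel

theorem closed2_10_part0 : closedPart gens2 orb2_10 0 5 = true := by
  decide +kernel

theorem rels2_13_part4 : relsPart 2 gens2 13 rels2_13 12 2 = true := by
  decide +kernel

theorem rels5_1_part0 : relsPart 5 gens5 1 rels5_1 0 2 = true := by
  decide +kernel

theorem rels3_4_part1 : relsPart 3 gens3 4 rels3_4 4 1 = true := by
  decide +kernel

theorem base2_8 : baseOK gens2 8 rels2_8 (orb2_8.headD []) orb2_8 = true := by
  decide +kernel

end CfsgLib.Sporadic.HNLower
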