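import Cfsg.Agent.Lib.Sporadic.HNLower.TwoData
import Cfsg.Agent.Lib.Sporadic.HNLower.ThreeData
import Cfsg.Agent.Lib.Sporadic.HNLower.FiveData
import Cfsg.Agent.Lib.Sporadic.HNLower.Cert

set_option autoImplicit false
set_option maxRecDepth 20000
set_option Elab.async false

/-! Checks of steps (owner: helper25). -/

namespace CfsgLib.Sporadic.HNLower

open CfsgLib.Sporadic.HNCoset (Use)

theorem rels2_13_part2 : relsPart 2 gens2 13 rels2_13 6 3 = true := by
  decide +kernel

theorem rels5_3_part0 : relsPart 5 gens5 3 rels5_3 0 4 = true := by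
  decide +kernel

theorem closed2_7_part0 : closedPart gens2 orb2_7 0 5 = true := by
  decide +kernel

theorem closed2_13_part11 : closedPart gens2 orb2_13 11 1 = true := by
  decide +kernel

theorem rels2_8_part2 : relsPart 2 gens2 8 rels2_8 8 1 = true := by
  decide +kernel

theorem rels5_0_part0 : relsPart 5 gens5 0 rels5_0 0 1 = true := by
  decide +kernel

theorem base3_1 : baseOK gens3 1 rels3_1 (orb3_1.headD []) orb3_1 = true := by
  decide +kernel

theorem base2_0 : baseOK gens2 0 rels2_0 (orb2_0.headD []) orb2_0 = true := by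
  decide +kernel

end CfsgLib.Sporadic.HNLower
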