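import Cfsg.Agent.Lib.Sporadic.HNLower.TwoData
import Cfsg.Agent.Lib.Sporadic.HNLower.ThreeData
import Cfsg.Agent.Lib.Sporadic.HNLower.FiveData
import Cfsg.Agent.Lib.Sporadic.HNLower.Cert

set_option autoImplicit false
set_option maxRecDepth 20000
set_option Elab.async false

/-! Checks of steps (owner: helper25). -/

namespace CfsgLib.Sporadic.HNLower

open CfsgLib.Sporadic.HNCoset (Use)

theorem rels3_4_part0 : relsPart 3 gens3 4 rels3_4 0 4 = true := by
  decide +kernel

theorem rels3_5_part0 : relsPart 3 gens3 5 rels3_5 0 4 = true := by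
  decide +kernel

theorem closed2_10_part1 : closedPart gens2 orb2_10 5 5 = true := by
  decide +kernel

theorem rels5_2_part0 : relsPart 5 gens5 2 rels5_2 0 3 = true := by
  decide +kernel

theorem closed3_5_part2 : closedPart gens3 orb3_5 2 1 = true := by
  decide +kernel

theorem base2_12 : baseOK gens2 12 rels2_12 (orb2_12.headD []) orb2_12 = true := by
  decide +kernel

theorem base2_5 : baseOK gens2 5 rels2_5 (orb2_5.headD []) orb2_5 = true := by
  decide +kernel

end CfsgLib.Sporadic.HNLower
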