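import Cfsg.Agent.Lib.Sporadic.HNLower.TwoData
import Cfsg.Agent.Lib.Sporadic.HNLower.ThreeData
import Cfsg.Agent.Lib.Sporadic.HNLower.FiveData
import Cfsg.Agent.Lib.Sporadic.HNLower.Cert

set_option autoImplicit false
set_option maxRecDepth 20000
set_option Elab.async false

/-! Checks of steps (owner: helper25). -/

namespace CfsgLib.Sporadic.HNLower

open CfsgLib.Sporadic.HNCoset (Use)

theorem closed2_9_part1 : closedPart gens2 orb2_9 1 1 = true := by
  decide +kernel

theorem rels2_12_part2 : relsPart 2 gens2 12 rels2_12 8 3 = true := by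
  decide +kernel

theorem closed2_12_part3 : closedPart gens2 orb2_12 6 2 = true := by
  decide +kernel

theorem closed2_13_part5 : closedPart gens2 orb2_13 5 1 = true := by
  decide +kernel

theorem rels3_1_part0 : relsPart 3 gens3 1 rels3_1 0 2 = true := by
  decide +kernel

theorem closed5_1_part0 : closedPart gens5 orb5_1 0 1 = true := by
  decide +kernel

theorem base5_2 : baseOK gens5 2 rels5_2 (orb5_2.headD []) orb5_2 = true := by
  decide +kernel

end CfsgLib.Sporadic.HNLower
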