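import Cfsg.Agent.Lib.Sporadic.HNLower.TwoData
import Cfsg.Agent.Lib.Sporadic.HNLower.ThreeData
import Cfsg.Agent.Lib.Sporadic.HNLower.Cert

set_option autoImplicit false
set_option maxRecDepth 20000
set_option Elab.async false

/-! Checks of steps (owner: helper25). -/

namespace CfsgLib.Sporadic.HNLower

open CfsgLib.Sporadic.HNCoset (Use)

theorem closed2_9_part2 : closedPart gens2 orb2_9 2 1 = true := by
  decide +kernel

theorem rels2_5_part0 : relsPart 2 gens2 5 rels2_5 0 4 = true := by
  decide +kernel

theorem closed2_12_part2 : closedPart gens2 orb2_12 4 2 = true := by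
  decide +kernel

theorem closed2_13_part3 : closedPart gens2 orb2_13 3 1 = true := by
  decide +kernel

theorem closed2_3_part0 : closedPart gens2 orb2_3 0 3 = true := by
  decide +kernel

theorem base3_4 : baseOK gens3 4 rels3_4 (orb3_4.headD []) orb3_4 = true := by
  decide +kernel

theorem base2_11 : baseOK gens2 11 rels2_11 (orb2_11.headD []) orb2_11 = true := by
  decide +kernel

end CfsgLib.Sporadic.HNLower
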