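import Cfsg.Agent.Lib.Sporadic.HNLower.TwoData
import Cfsg.Agent.Lib.Sporadic.HNLower.ThreeData
import Cfsg.Agent.Lib.Sporadic.HNLower.Cert

set_option autoImplicit false
set_option maxRecDepth 20000
set_option Elab.async false

/-! Checks of steps (owner: helper25). -/

namespace CfsgLib.Sporadic.HNLower

open CfsgLib.Sporadic.HNCoset (Use)

theorem closed2_9_part3 : closedPart gens2 orb2_9 3 1 = true := by
  decide +kernel

theorem rels2_13_part3 : relsPart 2 gens2 13 rels2_13 9 3 = true := by
  decide +kernel

theorem closed2_12_part0 : closedPart gens2 orb2_12 0 2 = true := by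
  decide +kernel

theorem closed2_13_part1 : closedPart gens2 orb2_13 1 1 = true := by
  decide +kernel

theorem closed3_5_part4 : closedPart gens3 orb3_5 4 1 = true := by
  decide +kernel

theorem base3_2 : baseOK gens3 2 rels3_2 (orb3_2.headD []) orb3_2 = true := by
  decide +kernel

theorem base2_6 : baseOK gens2 6 rels2_6 (orb2_6.headD []) orb2_6 = true := by
  decide +kernel

end CfsgLib.Sporadic.HNLower
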