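import Cfsg.Agent.Lib.Sporadic.HNLower.TwoData
import Cfsg.Agent.Lib.Sporadic.HNLower.ThreeData
import Cfsg.Agent.Lib.Sporadic.HNLower.Cert

set_option autoImplicit false
set_option maxRecDepth 20000
set_option Elab.async false

/-! Checks of steps (owner: helper25). -/

namespace CfsgLib.Sporadic.HNLower

open CfsgLib.Sporadic.HNCoset (Use)

theorem closed2_9_part4 : closedPart gens2 orb2_9 4 1 = true := by
  decide +kernel

theorem rels2_7_part0 : relsPart 2 gens2 7 rels2_7 0 4 = true := by
  decide +kernel

theorem closed3_4_part0 : closedPart gens3 orb3_4 0 4 = true := by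
  decide +kernel

theorem closed2_12_part5 : closedPart gens2 orb2_12 10 2 = true := by
  decide +kernel

theorem closed3_5_part1 : closedPart gens3 orb3_5 1 1 = true := by
  decide +kernel

theorem base3_5 : baseOK gens3 5 rels3_5 (orb3_5.headD []) orb3_5 = true := by
  decide +kernel

end CfsgLib.Sporadic.HNLower
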