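import Cfsg.Agent.Lib.Sporadic.HNLower.TwoData
import Cfsg.Agent.Lib.Sporadic.HNLower.ThreeData
import Cfsg.Agent.Lib.Sporadic.HNLower.FiveData
import Cfsg.Agent.Lib.Sporadic.HNLower.Cert

set_option autoImplicit false
set_option maxRecDepth 20000
set_option Elab.async false

/-! Checks of steps (owner: helper25). -/

namespace CfsgLib.Sporadic.HNLower

open CfsgLib.Sporadic.HNCoset (Use)

theorem closed2_9_part5 : closedPart gens2 orb2_9 5 1 = true := by
  decide +kernel

theorem rels2_13_part0 : relsPart 2 gens2 13 rels2_13 0 3 = true := by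
  decide +kernel

theorem rels2_6_part1 : relsPart 2 gens2 6 rels2_6 4 3 = true := by
  decide +kernel

theorem rels3_2_part0 : relsPart 3 gens3 2 rels3_2 0 3 = true := by
  decide +kernel

theorem rels5_4_part1 : relsPart 5 gens5 4 rels5_4 3 2 = true := by
  decide +kernel

theorem base2_13 : baseOK gens2 13 rels2_13 (orb2_13.headD []) orb2_13 = true := by
  decide +kernel

theorem base2_10 : baseOK gens2 10 rels2_10 (orb2_10.headD []) orb2_10 = true := by
  decide +kernel

end CfsgLib.Sporadic.HNLower
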