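import Cfsg.Agent.Lib.Sporadic.HNLower.TwoData
import Cfsg.Agent.Lib.Sporadic.HNLower.ThreeData
import Cfsg.Agent.Lib.Sporadic.HNLower.Cert

set_option autoImplicit false
set_option maxRecDepth 20000
set_option Elab.async false

/-! Checks of steps (owner: helper25). -/

namespace CfsgLib.Sporadic.HNLower

open CfsgLib.Sporadic.HNCoset (Use)

theorem closed2_9_part6 : closedPart gens2 orb2_9 6 1 = true := by
  decide +kernel

theorem rels3_3_part0 : relsPart 3 gens3 3 rels3_3 0 4 = true := by
  decide +kernel

theorem rels2_10_part2 : relsPart 2 gens2 10 rels2_10 8 3 = true := by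
  decide +kernel

theorem closed2_13_part12 : closedPart gens2 orb2_13 12 1 = true := by
  decide +kernel

theorem base2_9 : baseOK gens2 9 rels2_9 (orb2_9.headD []) orb2_9 = true := by
  decide +kernel

theorem rels2_2_part0 : relsPart 2 gens2 2 rels2_2 0 3 = true := by
  decide +kernel

theorem rels2_11_part3 : relsPart 2 gens2 11 rels2_11 11 1 = true := by
  decide +kernel

end CfsgLib.Sporadic.HNLower
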