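import Cfsg.Agent.Lib.Sporadic.HNLower.TwoData
import Cfsg.Agent.Lib.Sporadic.HNLower.FiveData
import Cfsg.Agent.Lib.Sporadic.HNLower.Cert

set_option autoImplicit false
set_option maxRecDepth 20000
set_option Elab.async false

/-! Checks of steps (owner: helper25). -/

namespace CfsgLib.Sporadic.HNLower

open CfsgLib.Sporadic.HNCoset (Use)

theorem closed2_9_part8 : closedPart gens2 orb2_9 8 1 = true := by
  decide +kernel

theorem closed5_4_part1 : closedPart gens5 orb5_4 1 1 = true := by
  decide +kernel

theorem closed5_5_part0 : closedPart gens5 orb5_5 0 5 = true := by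
  decide +kernel

theorem closed2_13_part8 : closedPart gens2 orb2_13 8 1 = true := by
  decide +kernel

theorem closed2_2_part0 : closedPart gens2 orb2_2 0 2 = true := by
  decide +kernel

theorem closed2_11_part2 : closedPart gens2 orb2_11 10 1 = true := by
  decide +kernel

theorem base2_3 : baseOK gens2 3 rels2_3 (orb2_3.headD []) orb2_3 = true := by
  decide +kernel

end CfsgLib.Sporadic.HNLower
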