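import Cfsg.Agent.Lib.Sporadic.HNLower.Cert

set_option autoImplicit false
set_option maxRecDepth 20000
set_option Elab.async false

/-! Elements of order seven, eleven, nineteen (owner: helper25). -/

namespace CfsgLib.Sporadic.HNLower

open CfsgLib.Sporadic.HNCoset (Use)

/-- a vector -/
def testVec : List ℕ := [7,18,17,4,11,19,15,20,18,2,19,0,26,15,8,17,7,6,22,15,17,26,17,15,12,20,27,4,7,20,4,27,16,12,23,0,21,24,2,5,24,18,1,9,24,0,26,27,8,15,19,23,28,12,22,25,13,12,23,25,18,14,4,28,11,3,1,4,15,6,8,21,13,24,20,27,9,13,16,26,12,18,11,17,18,13,18,7,28,10,21,0,27,8,19,21,22,5,22,27,10,17,28,18,18,3,22,20,6,20,26,18,8,9,3,2,15,27,20,15,2,11,25,2,13,28,4,0,9,13,24,13,27]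

theorem prime7 : primeOK 7 [2,6,0,0,4,2,2,6,0,0,4,2,2,6,0,0,4,2] [⟨[],0,false,[2]⟩,
    ⟨[(42,false),(42,false),(48,true),(42,false),(42,false)],44,false,[2,0,3,3,0,2,2,2,0,3,0,2,2,0,3,0,3,3,0,3,0,2,2]⟩,
    ⟨[(102,false),(125,false)],172,true,[0,3,0,2,0,2,2,0,2,0,3,3,0,2,0,2,2,0,3,3,0,2,0]⟩,
    ⟨[],323,false,[2,2,0,2,2,0,3,3,0,2,2,0]⟩,
    ⟨[],170,true,[3,0,2,2,0,3,3,0,3,0,3,3,0,3,3,0,2]⟩,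
    ⟨[(178,false)],44,true,[3,0,3,3,0,3,0,3,0,2,2,2,0,3,0,3]⟩,
    ⟨[],0,true,[0,2,2,0,2,0,2,0,3,0,3,3,0,2,2]⟩,
    ⟨[(9,true),(9,true),(8,true),(9,false),(8,false),(9,false),(9,false),(9,false),(10,false)],0,false,[2,0,2,0,3,0,3,0,3,3,0,3,3,0,2,0,2,2,0,3,3]⟩,
    ⟨[(42,true),(48,true),(42,true),(48,false)],44,false,[2,0,3,0,3,0,2,2,0,2,0,3,0,3,3,0,2,0]⟩,
    ⟨[(178,false)],170,false,[0,3,0,3,0,3,0,3,3,0,3,1,3,3]⟩,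
    ⟨[],273,false,[3,0,2,2,0,2,0,3,3,0,3,1,3]⟩,
    ⟨[],172,false,[2,2,0,3,3,0,2,2,0,2,0,2,0,2,2,2,1]⟩,
    ⟨[],44,true,[2,2,2,0,3,0,2,2,2,0,2,2,0,2,0,3,0]⟩,
    ⟨[],0,true,[0,3,3,0,2,2,2,0,2,0,3,3,0,3,0,3,0,2,0,3,3,0,2,0]⟩,
    ⟨[(9,true),(8,true),(9,true),(8,false),(9,false),(9,false),(9,false),(10,false)],0,false,[2,0,2,2,0,2,2,0,2,0,2,0,2,2,0,3,3,0,3,0,2]⟩,
    ⟨[(48,false),(42,false),(48,true),(42,false)],44,false,[0,2,2,2,0,2,0,3,3,0,3,3,0,2,0,2,2,0,3,0,2]⟩,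
    ⟨[(178,false),(125,false)],170,false,[2,0,2,0,2,2,0,2,2,2,0,3,3,0,3,0,2,0,2,0]⟩,
    ⟨[],323,true,[0,2,0,2,2,0,2,0,3,3,0,3,0,3,0,2,2,0,2,0,2,0]⟩,
    ⟨[],172,false,[0,3,3,0,3,0,2,0,2,0,3,0,3,0,3,3,0,3,0,2,1]⟩,
    ⟨[],44,true,[0,2,0,2,0,2,0,3,0,2,2,0,3,3,0,3,3,1]⟩,
    ⟨[],0,true,[0,2,0,2,0,3,3,0,3,0,3,0,2,0,2,2,2,1,3,3]⟩] testVec = true := by decide +kernel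

theorem prime11 : primeOK 11 [4,6,6,2,4,6,6,2] [⟨[(10,false)],0,false,[]⟩,
    ⟨[],14,false,[3,3,0,3,0,3,3,0,3,0,2,2,0,2,2,0,2,0,2,2,2]⟩,
    ⟨[(48,false),(42,false)],148,true,[0,2,0,3,0,2,2,0,2,2,0,2,0,2,0,2,2,2,1,3]⟩,
    ⟨[(178,false)],67,false,[0,2,2,0,2,0,3,0,2,2,0,2,0,3,0,3,0,3,3,0,2,0,2]⟩,
    ⟨[(122,false)],5,false,[0,2,2,0,3,3,1,2,2]⟩,
    ⟨[],204,false,[2,2,0,3,3,0,3,0,3,0,2,0,2,2,2,0,3,0,3,3,1]⟩,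
    ⟨[],266,false,[2,0,2,2,0,2,2,0,2,0,2,0,3,0,3,3,0,3,0,2,0,2,1,2]⟩,
    ⟨[(358,true),(126,true)],155,true,[3,0,2,2,0,2,2,0,3,3,0,3,0,3,0,3,3,0,3,0,2,2,0]⟩,
    ⟨[(151,false),(343,true)],231,false,[2,2,0,2,0,2,0,3,3,0,3,3,0,3,0,3,0,2,0,2,2,0,2,1,2]⟩,
    ⟨[(356,true)],277,true,[2,0,2,0,2,2,2,0,2,0,2,2,0,2,0,2,0,3,1,3]⟩,
    ⟨[(333,true),(342,false)],210,false,[0,3,0,2,2,0,2,0,3,0,2,2,2,0,2,0,2,0,2,2,1]⟩,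
    ⟨[],183,false,[0,2,0,2,0,2,0,2,2,2,0,2,2,0,2,0,2,0,3,0,3,3]⟩,
    ⟨[(356,true)],327,true,[0,2,2,0,3,3,0,3,3,0,3,3,0,3,0,3,0,3,3,0,2,2,2]⟩,
    ⟨[],192,false,[2,2,0,3,0,3,0,2,0,3,3,0,2,1,2]⟩,
    ⟨[(178,false),(122,true)],192,true,[3,0,2,0,2,0,2,0,3,0,3,0,3,3,0,2,2,2,1,2]⟩,
    ⟨[],327,false,[3,3,0,3,0,3,3,0,2,2,2,0,3,0,3,3,0,2,0,2,2,1,2]⟩,
    ⟨[(358,true)],161,true,[3,3,0,3,0,2,2,0,2,0,3,3,0,2,0]⟩,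
    ⟨[(151,false),(339,true)],134,true,[0,3,3,0,2,0,2,2,0,2,2,2,0,3,3,0,2,0,3,3,1]⟩,
    ⟨[(126,false)],336,true,[2,0,2,0,3,0,3,0,2,0,2,2,0,2,0,2,2,1,3]⟩,
    ⟨[(342,false)],230,false,[0,2,2,0,2,0,3,0,3,0,2,2,2,1,2]⟩,
    ⟨[(151,false),(343,true)],230,true,[0,2,2,0,2,2,0,2,2,0,3,0,3,3,0,3,3,0,2,1,2]⟩,
    ⟨[],203,false,[0,2,0,2,0,2,2,2,0,2,2,2,0,2,1,3]⟩,
    ⟨[(358,false)],198,false,[2,2,0,2,2,2,0,2,0,2,0,2,2,0,2,0,3,3,0,3,0]⟩,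
    ⟨[],207,false,[2,2,0,3,3,0,2,2,0,3,3,0,3,0,3,1,2,2]⟩,
    ⟨[(343,false),(339,false),(151,false)],220,false,[0,2,2,0,2,0,3,3,0,3,0,2,0,2,0,2,0]⟩,
    ⟨[(342,true)],211,false,[0,2,0,2,0,3,0,2,2,2,0,3,3,0,2,0,2,2,2,0]⟩,
    ⟨[(184,true),(99,false)],134,false,[2,0,3,0,2,2,0,3,0,2,2,2,0,2,2,2,1,3,3]⟩,
    ⟨[],155,false,[3,0,3,0,2,2,0,3,0,3,3,0,3,0,2,2,0,3,0,2,2,1]⟩,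
    ⟨[(366,true)],210,true,[0,2,0,3,0,3,3,0,2,2,0,2,2,0,2,2,0,2,2,0,3,0]⟩,
    ⟨[],194,false,[0,3,0,2,0,3,3,0,2,2,0,2,0,3,3,0,2,0,2]⟩,
    ⟨[(178,false),(122,false),(125,true)],233,true,[0,2,0,2,0,2,2,0,3,3,0,2,0,2,2,0,3,1,2,2,2]⟩,
    ⟨[],300,false,[0,2,0,2,2,0,3,0,3,3,0,3,3,0,3,0,2,2,0,2,2,0,2,0]⟩,
    ⟨[(359,true),(99,false)],163,false,[0,3,0,3,0,2,0,2,2,0,2,0,2,0,2,2,1,2,2]⟩,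
    ⟨[(359,false),(184,true)],210,true,[0,3,0,2,2,0,3,3,0,3,0,3,0,2,0,2,2,2,0,2,0,3]⟩,
    ⟨[(342,true)],340,false,[2,0,3,0,3,3,0,2,0,2,2,0,3,3,0,2,2,0,2,0,2,2]⟩,
    ⟨[(126,false)],200,true,[0,2,0,2,0,3,0,2,2,0,2,2,0,3,0,3,3,0,3,0,2,0,2]⟩,
    ⟨[(151,false),(339,false)],255,false,[2,0,3,3,0,2,2,2,0,3,0,3,3,0,3,0,3,0,2,0]⟩,
    ⟨[(368,true),(357,true)],208,true,[0,2,0,2,0,3,0,2,2,2,0,2,0,2,0,3,1,3,3]⟩,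
    ⟨[(344,false)],204,false,[2,2,0,3,3,0,3,0,3,3,0,2,2,0,2,0,3,0,3,3,1,3]⟩,
    ⟨[],5,true,[0,2,0,2,0,2,2,0,3,3,0,2,2,0,2,2,0,3,3]⟩,
    ⟨[],67,false,[0,2,2,0,3,0,2,2,2,0,3,0,3,0,2,0,2,0,2,0,3,0]⟩,
    ⟨[],1,true,[0,2,0,3,0,3,0,2,0,2,0,3,0,3,3,0,2,0,2,2,0,2,2,0]⟩,
    ⟨[],14,true,[3,0,3,0,2,0,3,3,0,3,0,2,0,2,0,3,0,3,3,0,2,2]⟩,
    ⟨[],0,true,[2,0,3,0,3,0,2,0,2,0,3,0,3,3,0,2,0,2,2,0,2,2,0,2]⟩] testVec = true := by decide +kernel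

theorem prime19 : primeOK 19 [7,4,3,7,7,1,2,2,7] [⟨[(8,false),(8,false)],0,false,[0,0]⟩,
    ⟨[],35,false,[2,0,2,2,0,2,0,3,0,2,2,0,2,0]⟩,
    ⟨[(48,false),(48,false)],44,false,[0,2,2,2,0,2,0,2,0,3,3,0,3,0,3]⟩,
    ⟨[],1,true,[0,2,2,0,3,3,0,2,2,0,2,0,3,3,0,2,2,2,1]⟩,
    ⟨[],2,false,[0,2,2,0,3,3,0,2,2,0,2,0,3,3,0,2,2,2,1]⟩,
    ⟨[(221,false),(206,true)],128,false,[0,3,0,3,3,0,2,2,2,0,2,2,0,3,0,3,3,0,3,1]⟩,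
    ⟨[],44,true,[2,0,3,3,0,3,0,3,3,0,3,0,2,0,2,2,0,3,3,0]⟩,
    ⟨[(42,false),(42,false)],43,true,[2,0,2,0,2,2,0,3,3,0,3,0,3,3,0,2,2,1]⟩,
    ⟨[],2,true,[0,2,0,2,0,3,0,3,3,0,3,0,3,0,2,2]⟩,
    ⟨[(48,false),(42,false),(48,false),(42,false),(42,false)],3,false,[2,2,0,2,0,3,0,3,3,0,2,2,1,3]⟩,
    ⟨[],168,true,[2,0,2,0,3,0,3,0,2,0,3,3,0,3,3,1,3]⟩,
    ⟨[],167,false,[2,0,2,2,2,0,2,0,2,0,2,2,0,3,3,0,3,0,3,3,0,2,2,0,2]⟩,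
    ⟨[(48,true),(42,true),(48,false),(42,false),(42,false)],173,true,[3,0,2,0,2,2,0,2,0,3,3,0,3,3,0,3,0,3,3,0]⟩,
    ⟨[(178,false)],159,true,[0,2,2,0,3,3,0,2,0,2,2,0,3,3,1,2,2,2]⟩,
    ⟨[(366,true)],275,true,[0,2,0,2,2,0,3,0,3,0,2,0,2,0,2,2,0,3,3,0,3,1]⟩,
    ⟨[(333,true)],192,false,[2,0,2,0,2,2,0,2,2,0,2,2,0,3,0,2,2]⟩,
    ⟨[(125,false),(102,false),(125,false)],192,true,[2,0,2,0,2,0,3,0,3,0,2,0,2,2,0,3,0,3,0,2,1]⟩,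
    ⟨[],258,false,[2,2,2,0,2,0,3,0,3,0,2,0,2,2,2,0,3,1,3,3]⟩,
    ⟨[],175,false,[0,2,0,2,2,2,0,2,0,3,0,3,0,3,3,0,3,1,3,3]⟩,
    ⟨[(125,true),(122,true)],283,true,[3,3,0,2,2,2,0,3,0,2,2,0,3,0,3,3,0,3,0,2,2,2,0]⟩,
    ⟨[(344,false),(342,false),(333,false)],210,false,[2,0,3,0,3,0,3,0,2,2,0,2,2,0,2,2,0,3,3,0,3,0,3]⟩,
    ⟨[(357,false),(126,true)],208,true,[2,0,3,3,0,2,0,2,0,3,0,3,3,0,3,0,2,0]⟩,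
    ⟨[(344,false),(342,false),(333,false)],250,false,[2,2,2,0,3,3,0,2,2,0,3,3,0,3,3,0,3,0,2]⟩,
    ⟨[],234,false,[0,3,0,3,0,3,0,2,0,2,2,0,2,2,2,0,2,0,3,0,3,0]⟩,
    ⟨[(126,false),(357,false)],150,false,[3,0,2,2,0,2,0,3,3,0,3,0,2,2,0,2,2,0,3,1]⟩,
    ⟨[(358,false),(366,false),(99,false)],150,false,[2,2,0,3,0,2,2,0,2,2,0,3,3,0,3,0,3]⟩,
    ⟨[],261,true,[3,0,2,2,0,2,0,2,2,0,2,0,3,3,0,3,1]⟩,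
    ⟨[],208,false,[2,2,2,0,3,3,0,3,3,0,2,2,0,2,0,3,0,3]⟩,
    ⟨[(356,false),(356,false)],134,false,[0,3,0,3,0,3,3,0,2,2,0,2,0,2,0,2,2,1,3]⟩,
    ⟨[(343,true),(343,true)],200,false,[2,2,0,2,2,2,0,3,0,2,2,0,2,0,3,3,0,2,2]⟩,
    ⟨[(126,true)],340,true,[0,2,0,2,2,2,0,2,2,2,0,2,2,2,0,3,1,2,2]⟩,
    ⟨[(342,false),(344,false)],152,false,[0,3,0,3,3,0,2,0,2,2,0,2,0,3,3,0,2,1]⟩,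
    ⟨[(339,true),(339,true)],284,true,[0,3,0,2,2,2,0,3,0,2,2,0,2,2,0,2,2,0,2,2,0,3]⟩,
    ⟨[(333,true)],224,false,[0,2,0,2,0,2,2,2,0,2,2,2,0,2,0,3]⟩,
    ⟨[(339,false),(343,false)],149,false,[3,0,3,3,0,3,0,2,2,0,3,0,3,3,0,3,0,3,3,1,2,2]⟩,
    ⟨[(343,false),(339,true),(343,false)],321,false,[3,0,2,0,2,0,2,0,3,0,3,0,2,0,2,2,2,0,2,0,2,0]⟩,
    ⟨[(342,true),(333,false)],188,false,[3,0,3,0,3,0,3,3,0,2,2,0,2,0,2,2,0,2,2,2]⟩,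
    ⟨[],250,true,[0,3,3,0,2,2,2,0,2,2,0,2,0,2,2,1,2,2]⟩,
    ⟨[(344,false),(342,false),(333,false)],208,false,[3,0,2,2,2,0,3,0,3,0,3,3,0,2,0,2,0,3,1,2,2]⟩,
    ⟨[(184,false)],320,true,[0,2,2,2,0,3,0,3,0,3,3,0,2,0,2,0,3,0,2,2]⟩,
    ⟨[(333,false),(344,false),(333,false)],135,false,[2,2,0,3,0,3,0,2,0,3,3,0,3,0,2,2,0,3,1,2,2]⟩,
    ⟨[(339,false),(343,true)],296,true,[3,3,0,3,0,2,2,0,3,0,2,2,2,0,2,2,0,2,0,3,0,3]⟩,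
    ⟨[(342,false),(344,false)],242,false,[0,3,0,2,0,2,2,0,2,0,3,3,0,2,0,3,3,0,2,0,2,2,0]⟩,
    ⟨[(359,true),(358,false)],189,true,[0,3,0,3,0,2,2,0,3,0,2,2,0,3,0,3,0,3,0,3,3,1,3,3]⟩,
    ⟨[],332,false,[2,2,2,0,3,0,3,0,3,3,0,3,0,2,2,0,2,0,3,0,3,1,2]⟩,
    ⟨[(126,true)],340,true,[3,0,3,0,2,0,3,3,0,2,2,0,2,0,3,0,2,2,0]⟩,
    ⟨[(342,true),(333,true)],225,false,[2,0,2,0,2,0,3,3,0,3,0,2,0,2,0,2,2,1,3]⟩,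
    ⟨[(333,false),(344,false)],198,true,[0,2,2,0,2,2,0,3,3,0,3,0,3,3,0,2,2,2,0,3,0,3,3]⟩,
    ⟨[(126,true),(366,false)],150,false,[3,0,3,0,2,0,3,3,0,3,0,3,3,0,2,2,0,2,0,3,0,2,2,2,0]⟩,
    ⟨[(184,false),(99,false)],159,false,[2,0,2,2,0,3,0,3,3,0,3,0,2,0,2,2,0,3,1]⟩,
    ⟨[(102,false),(122,false),(102,false)],159,true,[2,0,3,3,0,3,0,3,0,2,2,0,2,1,2,2,2]⟩,
    ⟨[],163,false,[2,2,0,2,0,2,2,0,3,3,0,3,0,2,2,2,1,3,3]⟩,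
    ⟨[(359,false),(184,true)],210,true,[2,0,2,0,2,0,2,2,0,2,0,2,0,3,0,3,3,0,3,3,1,2]⟩,
    ⟨[(333,true)],256,false,[3,0,3,0,2,0,2,0,2,0,3,0,2,2,0,2,0,2,2,1,3,3]⟩,
    ⟨[],258,false,[0,2,2,0,2,0,2,0,2,2,2,0,2,2,0,2,1,2,2]⟩,
    ⟨[],210,true,[2,2,2,0,3,0,2,2,0,3,3,0,3,0,2,2,0,3,0,3,3]⟩,
    ⟨[],194,false,[2,2,0,2,0,3,0,2,2,2,0,2,0,3,3,0,3,3,0,3,1]⟩,
    ⟨[(125,false),(102,false)],181,false,[2,2,2,0,3,3,0,3,3,0,2,2,0,2,0,2,1,2,2]⟩,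
    ⟨[],168,false,[3,3,0,2,2,0,3,0,3,3,0,3,0,2,2,2,0,2,0]⟩,
    ⟨[(166,false),(140,false)],108,false,[2,2,0,2,0,2,2,0,3,1,2,2,2]⟩,
    ⟨[],167,false,[3,3,0,3,3,0,2,2,0,2,2,0,3,0,3,3,0,2,2,1]⟩,
    ⟨[],36,true,[0,2,2,0,3,0,2,2,0,2,2,0,3,1,2,2]⟩,
    ⟨[(42,false),(48,false),(42,false)],44,false,[3,3,0,2,0,2,2,0,3,3,0,3,0,3,3,0,2,2,0,3,1]⟩,
    ⟨[],1,true,[0,3,0,2,2,2,0,2,0,2,2,0,3,0,3,0,3,3,0,3,0]⟩,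
    ⟨[],2,false,[0,3,0,2,2,2,0,2,0,2,2,0,3,0,3,0,3,3,0,3,0]⟩,
    ⟨[(221,true),(199,false)],128,false,[0,2,2,0,2,0,2,2,0,2,0,3,0,3,0,3,3,1]⟩,
    ⟨[],44,true,[2,2,0,3,0,2,2,0,3,0,2,2,2,0,2,1,2]⟩,
    ⟨[(42,false),(42,false)],43,true,[3,3,0,3,0,2,0,2,0,2,0,3,0,2,2,1,2,2]⟩,
    ⟨[],2,true,[0,2,0,2,0,3,0,3,0,2,0,3,3,0,3,3,0,2,1]⟩,
    ⟨[],12,false,[0,3,3,0,2,0,2,0,2,0,3,0,3,3,0,3,0,3,0,2,0,2]⟩,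
    ⟨[],14,true,[3,0,2,2,0,3,3,0,3,0,2,2,0,3,0,2,2,0,2,0,3,1,2]⟩,
    ⟨[],14,true,[2,0,3,3,0,2,2,0,2,0,3,3,0,2,0,2,2,2,0,3,3]⟩,
    ⟨[],0,true,[2,2,0,2,2,0,3,0,3,3,0,3,0,3,3,1]⟩,
    ⟨[(9,true),(8,false),(9,true),(8,false),(9,false),(9,false),(9,false),(10,false)],0,false,[0,2,2,0,3,3,0,2,2,0,2,0,2,0,3,0,3,1,3]⟩,
    ⟨[],14,false,[0,2,0,3,0,3,0,2,0,2,0,2,2,2,0,2,0,2,0,3,3]⟩,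
    ⟨[],0,true,[0,2,2,0,3,0,3,0,2,2,2,0,2,2,0,2,0,2,0,3,3]⟩] testVec = true := by decide +kernel

end CfsgLib.Sporadic.HNLower
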