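import Cfsg.Agent.Lib.Sporadic.HNLower.Part0
import Cfsg.Agent.Lib.Sporadic.HNLower.Part1
import Cfsg.Agent.Lib.Sporadic.HNLower.Part2
import Cfsg.Agent.Lib.Sporadic.HNLower.Part3
import Cfsg.Agent.Lib.Sporadic.HNLower.Part4
import Cfsg.Agent.Lib.Sporadic.HNLower.Part5
import Cfsg.Agent.Lib.Sporadic.HNLower.Part6
import Cfsg.Agent.Lib.Sporadic.HNLower.Part7
import Cfsg.Agent.Lib.Sporadic.HNLower.Part8
import Cfsg.Agent.Lib.Sporadic.HNLower.Part9
import Cfsg.Agent.Lib.Sporadic.HNLower.Part10
import Cfsg.Agent.Lib.Sporadic.HNLower.Part11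
import Cfsg.Agent.Lib.Sporadic.HNLower.Part12
import Cfsg.Agent.Lib.Sporadic.HNLower.Part13
import Cfsg.Agent.Lib.Sporadic.HNLower.Part14
import Cfsg.Agent.Lib.Sporadic.HNLower.Part15
import Cfsg.Agent.Lib.Sporadic.HNLower.Part16
import Cfsg.Agent.Lib.Sporadic.HNLower.Part17
import Cfsg.Agent.Lib.Sporadic.HNLower.Part18
import Cfsg.Agent.Lib.Sporadic.HNLower.Part19
import Cfsg.Agent.Lib.Sporadic.HNLower.Primes

set_option autoImplicit false
set_option maxRecDepth 20000
set_option Elab.async false

/-! The order of the presented Harada–Norton group (owner: helper25). -/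

namespace CfsgLib.Sporadic.HNLower

open Cfsg CfsgLib.Sporadic.HNCoset

theorem step3_0 : stepOK 3 gens3 0 rels3_0 (orb3_0.headD []) orb3_0 = true := by
  exact stepOK_intro base3_0 rels3_0_part0 rfl

theorem step3_1 : stepOK 3 gens3 1 rels3_1 (orb3_1.headD []) orb3_1 = true := by
  exact stepOK_intro base3_1 rels3_1_part0 closed3_1_part0

theorem step3_2 : stepOK 3 gens3 2 rels3_2 (orb3_2.headD []) orb3_2 = true := by
  exact stepOK_intro base3_2 rels3_2_part0 closed3_2_part0

theorem step3_3 : stepOK 3 gens3 3 rels3_3 (orb3_3.headD []) orb3_3 = true := by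
  exact stepOK_intro base3_3 rels3_3_part0 closed3_3_part0

theorem step3_4 : stepOK 3 gens3 4 rels3_4 (orb3_4.headD []) orb3_4 = true := by
  have r1 := relsPart_cat (l := 5) rels3_4_part0 rels3_4_part1 (by norm_num) (by norm_num)
  exact stepOK_intro base3_4 r1 closed3_4_part0

theorem step3_5 : stepOK 3 gens3 5 rels3_5 (orb3_5.headD []) orb3_5 = true := by
  have r1 := relsPart_cat (l := 6) rels3_5_part0 rels3_5_part1 (by norm_num) (by norm_num)
  have c1 := closedPart_cat (l := 2) closed3_5_part0 closed3_5_part1 (by norm_num) (by norm_num)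
  have c2 := closedPart_cat (l := 3) c1 closed3_5_part2 (by norm_num) (by norm_num)
  have c3 := closedPart_cat (l := 4) c2 closed3_5_part3 (by norm_num) (by norm_num)
  have c4 := closedPart_cat (l := 5) c3 closed3_5_part4 (by norm_num) (by norm_num)
  exact stepOK_intro base3_5 r1 c4

theorem step5_0 : stepOK 5 gens5 0 rels5_0 (orb5_0.headD []) orb5_0 = true := by
  exact stepOK_intro base5_0 rels5_0_part0 rfl

theorem step5_1 : stepOK 5 gens5 1 rels5_1 (orb5_1.headD []) orb5_1 = true := by
  exact stepOK_intro base5_1 rels5_1_part0 closed5_1_part0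

theorem step5_2 : stepOK 5 gens5 2 rels5_2 (orb5_2.headD []) orb5_2 = true := by
  exact stepOK_intro base5_2 rels5_2_part0 closed5_2_part0

theorem step5_3 : stepOK 5 gens5 3 rels5_3 (orb5_3.headD []) orb5_3 = true := by
  exact stepOK_intro base5_3 rels5_3_part0 closed5_3_part0

theorem step5_4 : stepOK 5 gens5 4 rels5_4 (orb5_4.headD []) orb5_4 = true := by
  have r1 := relsPart_cat (l := 5) rels5_4_part0 rels5_4_part1 (by norm_num) (by norm_num)
  have c1 := closedPart_cat (l := 2) closed5_4_part0 closed5_4_part1 (by norm_num) (by norm_num)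
  have c2 := closedPart_cat (l := 3) c1 closed5_4_part2 (by norm_num) (by norm_num)
  have c3 := closedPart_cat (l := 4) c2 closed5_4_part3 (by norm_num) (by norm_num)
  exact stepOK_intro base5_4 r1 c3

theorem step5_5 : stepOK 5 gens5 5 rels5_5 (orb5_5.headD []) orb5_5 = true := by
  have r1 := relsPart_cat (l := 5) rels5_5_part0 rels5_5_part1 (by norm_num) (by norm_num)
  have r2 := relsPart_cat (l := 6) r1 rels5_5_part2 (by norm_num) (by norm_num)
  exact stepOK_intro base5_5 r2 closed5_5_part0

theorem step2_0 : stepOK 2 gens2 0 rels2_0 (orb2_0.headD []) orb2_0 = true := by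
  exact stepOK_intro base2_0 rels2_0_part0 rfl

theorem step2_1 : stepOK 2 gens2 1 rels2_1 (orb2_1.headD []) orb2_1 = true := by
  exact stepOK_intro base2_1 rels2_1_part0 closed2_1_part0

theorem step2_2 : stepOK 2 gens2 2 rels2_2 (orb2_2.headD []) orb2_2 = true := by
  exact stepOK_intro base2_2 rels2_2_part0 closed2_2_part0

theorem step2_3 : stepOK 2 gens2 3 rels2_3 (orb2_3.headD []) orb2_3 = true := by
  exact stepOK_intro base2_3 rels2_3_part0 closed2_3_part0

theorem step2_4 : stepOK 2 gens2 4 rels2_4 (orb2_4.headD []) orb2_4 = true := by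
  exact stepOK_intro base2_4 rels2_4_part0 closed2_4_part0

theorem step2_5 : stepOK 2 gens2 5 rels2_5 (orb2_5.headD []) orb2_5 = true := by
  have r1 := relsPart_cat (l := 6) rels2_5_part0 rels2_5_part1 (by norm_num) (by norm_num)
  exact stepOK_intro base2_5 r1 closed2_5_part0

theorem step2_6 : stepOK 2 gens2 6 rels2_6 (orb2_6.headD []) orb2_6 = true := by
  have r1 := relsPart_cat (l := 7) rels2_6_part0 rels2_6_part1 (by norm_num) (by norm_num)
  have c1 := closedPart_cat (l := 6) closed2_6_part0 closed2_6_part1 (by norm_num) (by norm_num)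
  exact stepOK_intro base2_6 r1 c1

theorem step2_7 : stepOK 2 gens2 7 rels2_7 (orb2_7.headD []) orb2_7 = true := by
  have r1 := relsPart_cat (l := 8) rels2_7_part0 rels2_7_part1 (by norm_num) (by norm_num)
  have c1 := closedPart_cat (l := 7) closed2_7_part0 closed2_7_part1 (by norm_num) (by norm_num)
  exact stepOK_intro base2_7 r1 c1

theorem step2_8 : stepOK 2 gens2 8 rels2_8 (orb2_8.headD []) orb2_8 = true := by
  have r1 := relsPart_cat (l := 8) rels2_8_part0 rels2_8_part1 (by norm_num) (by norm_num)
  have r2 := relsPart_cat (l := 9) r1 rels2_8_part2 (by norm_num) (by norm_num)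
  have c1 := closedPart_cat (l := 8) closed2_8_part0 closed2_8_part1 (by norm_num) (by norm_num)
  exact stepOK_intro base2_8 r2 c1

theorem step2_9 : stepOK 2 gens2 9 rels2_9 (orb2_9.headD []) orb2_9 = true := by
  have r1 := relsPart_cat (l := 8) rels2_9_part0 rels2_9_part1 (by norm_num) (by norm_num)
  have r2 := relsPart_cat (l := 10) r1 rels2_9_part2 (by norm_num) (by norm_num)
  have c1 := closedPart_cat (l := 2) closed2_9_part0 closed2_9_part1 (by norm_num) (by norm_num)
  have c2 := closedPart_cat (l := 3) c1 closed2_9_part2 (by norm_num) (by norm_num)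
  have c3 := closedPart_cat (l := 4) c2 closed2_9_part3 (by norm_num) (by norm_num)
  have c4 := closedPart_cat (l := 5) c3 closed2_9_part4 (by norm_num) (by norm_num)
  have c5 := closedPart_cat (l := 6) c4 closed2_9_part5 (by norm_num) (by norm_num)
  have c6 := closedPart_cat (l := 7) c5 closed2_9_part6 (by norm_num) (by norm_num)
  have c7 := closedPart_cat (l := 8) c6 closed2_9_part7 (by norm_num) (by norm_num)
  have c8 := closedPart_cat (l := 9) c7 closed2_9_part8 (by norm_num) (by norm_num)
  exact stepOK_intro base2_9 r2 c8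

theorem step2_10 : stepOK 2 gens2 10 rels2_10 (orb2_10.headD []) orb2_10 = true := by
  have r1 := relsPart_cat (l := 8) rels2_10_part0 rels2_10_part1 (by norm_num) (by norm_num)
  have r2 := relsPart_cat (l := 11) r1 rels2_10_part2 (by norm_num) (by norm_num)
  have c1 := closedPart_cat (l := 10) closed2_10_part0 closed2_10_part1 (by norm_num) (by norm_num)
  exact stepOK_intro base2_10 r2 c1

theorem step2_11 : stepOK 2 gens2 11 rels2_11 (orb2_11.headD []) orb2_11 = true := by
  have r1 := relsPart_cat (l := 7) rels2_11_part0 rels2_11_part1 (by norm_num) (by norm_num)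
  have r2 := relsPart_cat (l := 11) r1 rels2_11_part2 (by norm_num) (by norm_num)
  have r3 := relsPart_cat (l := 12) r2 rels2_11_part3 (by norm_num) (by norm_num)
  have c1 := closedPart_cat (l := 10) closed2_11_part0 closed2_11_part1 (by norm_num) (by norm_num)
  have c2 := closedPart_cat (l := 11) c1 closed2_11_part2 (by norm_num) (by norm_num)
  exact stepOK_intro base2_11 r3 c2

theorem step2_12 : stepOK 2 gens2 12 rels2_12 (orb2_12.headD []) orb2_12 = true := by
  have r1 := relsPart_cat (l := 8) rels2_12_part0 rels2_12_part1 (by norm_num) (by norm_num)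
  have r2 := relsPart_cat (l := 11) r1 rels2_12_part2 (by norm_num) (by norm_num)
  have r3 := relsPart_cat (l := 13) r2 rels2_12_part3 (by norm_num) (by norm_num)
  have c1 := closedPart_cat (l := 4) closed2_12_part0 closed2_12_part1 (by norm_num) (by norm_num)
  have c2 := closedPart_cat (l := 6) c1 closed2_12_part2 (by norm_num) (by norm_num)
  have c3 := closedPart_cat (l := 8) c2 closed2_12_part3 (by norm_num) (by norm_num)
  have c4 := closedPart_cat (l := 10) c3 closed2_12_part4 (by norm_num) (by norm_num)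
  have c5 := closedPart_cat (l := 12) c4 closed2_12_part5 (by norm_num) (by norm_num)
  exact stepOK_intro base2_12 r3 c5

theorem step2_13 : stepOK 2 gens2 13 rels2_13 (orb2_13.headD []) orb2_13 = true := by
  have r1 := relsPart_cat (l := 6) rels2_13_part0 rels2_13_part1 (by norm_num) (by norm_num)
  have r2 := relsPart_cat (l := 9) r1 rels2_13_part2 (by norm_num) (by norm_num)
  have r3 := relsPart_cat (l := 12) r2 rels2_13_part3 (by norm_num) (by norm_num)
  have r4 := relsPart_cat (l := 14) r3 rels2_13_part4 (by norm_num) (by norm_num)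
  have c1 := closedPart_cat (l := 2) closed2_13_part0 closed2_13_part1 (by norm_num) (by norm_num)
  have c2 := closedPart_cat (l := 3) c1 closed2_13_part2 (by norm_num) (by norm_num)
  have c3 := closedPart_cat (l := 4) c2 closed2_13_part3 (by norm_num) (by norm_num)
  have c4 := closedPart_cat (l := 5) c3 closed2_13_part4 (by norm_num) (by norm_num)
  have c5 := closedPart_cat (l := 6) c4 closed2_13_part5 (by norm_num) (by norm_num)
  have c6 := closedPart_cat (l := 7) c5 closed2_13_part6 (by norm_num) (by norm_num)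
  have c7 := closedPart_cat (l := 8) c6 closed2_13_part7 (by norm_num) (by norm_num)
  have c8 := closedPart_cat (l := 9) c7 closed2_13_part8 (by norm_num) (by norm_num)
  have c9 := closedPart_cat (l := 10) c8 closed2_13_part9 (by norm_num) (by norm_num)
  have c10 := closedPart_cat (l := 11) c9 closed2_13_part10 (by norm_num) (by norm_num)
  have c11 := closedPart_cat (l := 12) c10 closed2_13_part11 (by norm_num) (by norm_num)
  have c12 := closedPart_cat (l := 13) c11 closed2_13_part12 (by norm_num) (by norm_num)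
  exact stepOK_intro base2_13 r4 c12

theorem dvd3 : 3 ^ 6 ∣ Nat.card Spor.HN := by
  refine pow_dvd_card (d := [(rels3_0, orb3_0.headD [], orb3_0),
    (rels3_1, orb3_1.headD [], orb3_1),
    (rels3_2, orb3_2.headD [], orb3_2),
    (rels3_3, orb3_3.headD [], orb3_3),
    (rels3_4, orb3_4.headD [], orb3_4),
    (rels3_5, orb3_5.headD [], orb3_5)]) (by norm_num) (G := gens3) fun i hi => ?_
  simp only [List.length_cons, List.length_nil] at hi
  interval_cases i
  exacts [step3_0, step3_1, step3_2, step3_3, step3_4, step3_5]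

theorem dvd5 : 5 ^ 6 ∣ Nat.card Spor.HN := by
  refine pow_dvd_card (d := [(rels5_0, orb5_0.headD [], orb5_0),
    (rels5_1, orb5_1.headD [], orb5_1),
    (rels5_2, orb5_2.headD [], orb5_2),
    (rels5_3, orb5_3.headD [], orb5_3),
    (rels5_4, orb5_4.headD [], orb5_4),
    (rels5_5, orb5_5.headD [], orb5_5)]) (by norm_num) (G := gens5) fun i hi => ?_
  simp only [List.length_cons, List.length_nil] at hi
  interval_cases i
  exacts [step5_0, step5_1, step5_2, step5_3, step5_4, step5_5]

theorem dvd2 : 2 ^ 14 ∣ Nat.card Spor.HN := by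
  refine pow_dvd_card (d := [(rels2_0, orb2_0.headD [], orb2_0),
    (rels2_1, orb2_1.headD [], orb2_1),
    (rels2_2, orb2_2.headD [], orb2_2),
    (rels2_3, orb2_3.headD [], orb2_3),
    (rels2_4, orb2_4.headD [], orb2_4),
    (rels2_5, orb2_5.headD [], orb2_5),
    (rels2_6, orb2_6.headD [], orb2_6),
    (rels2_7, orb2_7.headD [], orb2_7),
    (rels2_8, orb2_8.headD [], orb2_8),
    (rels2_9, orb2_9.headD [], orb2_9),
    (rels2_10, orb2_10.headD [], orb2_10),
    (rels2_11, orb2_11.headD [], orb2_11),
    (rels2_12, orb2_12.headD [], orb2_12),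
    (rels2_13, orb2_13.headD [], orb2_13)]) (by norm_num) (G := gens2) fun i hi => ?_
  simp only [List.length_cons, List.length_nil] at hi
  interval_cases i
  exacts [step2_0, step2_1, step2_2, step2_3, step2_4, step2_5, step2_6, step2_7, step2_8, step2_9, step2_10, step2_11, step2_12, step2_13]

theorem card_eq : Nat.card Spor.HN = 273030912000000 := by
  refine le_antisymm card_le (Nat.le_of_dvd Nat.card_pos ?_)
  rw [show (273030912000000 : ℕ) = 2 ^ 14 * 3 ^ 6 * 5 ^ 6 * 7 * 11 * 19 by norm_num]
  refine Nat.Coprime.mul_dvd_of_dvd_of_dvd (by norm_num) ?_ (prime_dvd_card (by norm_num) prime19)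
  refine Nat.Coprime.mul_dvd_of_dvd_of_dvd (by norm_num) ?_ (prime_dvd_card (by norm_num) prime11)
  refine Nat.Coprime.mul_dvd_of_dvd_of_dvd (by norm_num) ?_ (prime_dvd_card (by norm_num) prime7)
  refine Nat.Coprime.mul_dvd_of_dvd_of_dvd (by norm_num) ?_ dvd5
  exact Nat.Coprime.mul_dvd_of_dvd_of_dvd (by norm_num) dvd2 dvd3

end CfsgLib.Sporadic.HNLower
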