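import Cfsg.Agent.Lib.Sporadic.HNLower.TwoData
import Cfsg.Agent.Lib.Sporadic.HNLower.ThreeData
import Cfsg.Agent.Lib.Sporadic.HNLower.FiveData
import Cfsg.Agent.Lib.Sporadic.HNLower.Cert

set_option autoImplicit false
set_option maxRecDepth 20000
set_option Elab.async false

/-! Checks of steps (owner: helper25). -/

namespace CfsgLib.Sporadic.HNLower

open CfsgLib.Sporadic.HNCoset (Use)

theorem rels5_5_part0 : relsPart 5 gens5 5 rels5_5 0 3 = true := by
  decide +kernel

theorem closed5_4_part2 : closedPart gens5 orb5_4 2 1 = true := by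
  decide +kernel

theorem closed2_11_part0 : closedPart gens2 orb2_11 0 5 = true := by
  decide +kernel

theorem rels2_5_part1 : relsPart 2 gens2 5 rels2_5 4 2 = true := by
  decide +kernel

theorem closed3_5_part0 : closedPart gens3 orb3_5 0 1 = true := by
  decide +kernel

theorem rels2_1_part0 : relsPart 2 gens2 1 rels2_1 0 2 = true := by
  decide +kernel

end CfsgLib.Sporadic.HNLower
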