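import Cfsg.Agent.Lib.Sporadic.HNLower.TwoData
import Cfsg.Agent.Lib.Sporadic.HNLower.ThreeData
import Cfsg.Agent.Lib.Sporadic.HNLower.FiveData
import Cfsg.Agent.Lib.Sporadic.HNLower.Cert

set_option autoImplicit false
set_option maxRecDepth 20000
set_option Elab.async false

/-! Checks of steps (owner: helper25). -/

namespace CfsgLib.Sporadic.HNLower

open CfsgLib.Sporadic.HNCoset (Use)

theorem rels2_12_part1 : relsPart 2 gens2 12 rels2_12 4 4 = true := by
  decide +kernel

theorem rels5_5_part1 : relsPart 5 gens5 5 rels5_5 3 2 = true := by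
  decide +kernel

theorem closed2_4_part0 : closedPart gens2 orb2_4 0 4 = true := by
  decide +kernel

theorem closed2_13_part0 : closedPart gens2 orb2_13 0 1 = true := by
  decide +kernel

theorem closed3_5_part3 : closedPart gens3 orb3_5 3 1 = true := by
  decide +kernel

theorem rels2_0_part0 : relsPart 2 gens2 0 rels2_0 0 1 = true := by
  decide +kernel

theorem base2_4 : baseOK gens2 4 rels2_4 (orb2_4.headD []) orb2_4 = true := by
  decide +kernel

end CfsgLib.Sporadic.HNLower
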