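import Cfsg.Agent.Lib.Sporadic.HNCoset.Check

set_option autoImplicit false
set_option maxRecDepth 20000
set_option Elab.async false

/-! Generators and relations for the prime 2 (owner: helper25). -/

namespace CfsgLib.Sporadic.HNLower

open CfsgLib.Sporadic.HNCoset (Use)

/-- generators -/
def gens2 : List (List ℕ) := [
  [4,3,4,2,4,3,3,3,4,0,2,0,3,0,3,3,0,2,2,0,3,3,0,3,3,0,3,3,1,2,4,1,2,4,2,4,2,2,2,0,3,0,3,0,3,3,0,2,2,0,2,2,1,2,2],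
  [2,2,4,1,3,1,3,3,4,2,2,0,3,0,3,3,0,2,2,0,2,0,2,2,0,3,0,3,4,2,1,3,3,4,2,2,0,2,0,2,0,2,2,2,0,2,2,2,1],
  [3,3,0,2,2,2,0,2,2],
  [4,2,4,3,3,4,1,3,4,0,2,0,3,3,0,3,3,0,3,3,0,2,0,6,4,3,4,6,6,4,3,4,6,4,2,4,1,2,2,4,3,4,2,2,2,0,2,2,0,2,2,0,2,2,1,2],
  [4,1,3,1,3,4,3,3,4,2,0,2,0,2,2,0,3,3,0,2,2,2,0,2,0,3,1,6,4,3,4,6,6,4,3,4,6,4,2,4,3,3,4,1,3,4,0,3,0,3,0,2,0,2,2,0,2,2,0,2,2,0,2,2,0,3],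
  [1,2,4,2,4,2,4,3,0,2,0,2,2,0,3,0,3,3,0,2,2,0,3,0,3,3,0,2,0,6,4,6,6,1,2,4,3,3,4,1,3,4,0],
  [3,4,2,4,3,3,3,4,2,0,3,0,2,2,0,2,2,0,2,2,0,3,0,3,1,3,6,4,6,6,2,2,4,1,2,4,0,2,2,0,3,0,3,0,2,0,3,3,1],
  [1,3,1,3,3,4,2,0,2,2,0,3,0,3,3,0,2,2,0,2,0,3,0,3,3,0,3,6,4,3,4,3,4,6,3,4,2,4,2,0,2,2,2,0,3,3],
  [4,3,3,4,3,4,3,3,0,2,0,2,0,2,2,0,2,0,3,0,2,2,0,2,2,6,4,3,4,3,4,6,4,1,2,2,4,2,4,0,2,0,3,3,0,2,2,0,2,0,3,3,1,2],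
  [2,4,1,3,3,4,3,0,3,0,2,0,3,3,0,3,3,0,6,4,3,4,3,4,6,4,1,3,3,4,1,3,4,3,3,0,2,0,3,3,0,3,3,0,3,0,2,2,0,2,0],
  [2,4,3,4,1,3,3,4,3,0,2,2,2,0,3,0,3,6,4,3,4,3,4,6,3,3,3,4,3,3,4,3,4,0,3,0,3,0,3,0,3,3,0,2,2,0,2,1,3,3],
  [4,1,3,4,3,3,4,3,4,0,3,3,0,2,2,0,2,0,3,3,0,2,0,2,2,2,0,6,4,3,4,3,4,6,2,4,0,2,2,0,2,2,1,2,2,2],
  [3,3,4,3,3,0,3,0,2,0,2,0,2,0,2,2,0,3,3,0,3,1,6,4,3,4,3,4,6,1,3,3,1,3,4,3,4,2,0,2,0,2,2,2,0,3,0,3,0,2,2,2,0,3,0],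
  [3,4,1,2,1,3,3,3,4,3,0,2,0,3,3,0,3,0,3,3,0,2,2,6,4,3,4,3,4,6,2,4,2,2,4,2,4,3,0,2,2,2,0,3,0,3,0,2,0,2,0]]

/-- relations of step 0 -/
def rels2_0 : List (List ℕ × List Use) := [
  ([], [])]

/-- vectors of step 0 -/
def orb2_0 : List (List ℕ) := [
  [0,16,14,3,16,27,28,1,24,16,6,24,21,1,2,17,22,3,1,8,23,21,2,11,23,25,18,27,2,15,3,17,2,8,2,27,28,13,8,2,27,3,26,15,13,28,13,8,3,22,22,1,14,15,11,19,23,1,25,20,25,22,10,0,16,17,21,27,7,8,0,10,10,1,27,26,6,28,8,1,19,22,25,23,17,6,13,27,1,28,10,10,6,9,25,11,5,28,18,21,15,13,19,21,19,19,18,27,18,10,4,8,1,28,10,10,9,20,23,5,8,19,7,27,21,16,21,8,25,2,7,25,1]]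

/-- relations of step 1 -/
def rels2_1 : List (List ℕ × List Use) := [
  ([1], []),
  ([0], [])]

/-- vectors of step 1 -/
def orb2_1 : List (List ℕ) := [
  [2,12,28,3,8,9,4,4,9,26,20,25,20,12,1,18,26,5,0,10,23,22,28,16,25,13,0,10,22,10,5,6,13,26,10,17,16,27,26,12,14,6,6,2,21,21,0,17,18,12,17,3,16,14,2,0,7,27,7,26,22,3,8,11,20,3,18,22,6,27,10,15,17,7,15,24,2,20,23,7,15,24,8,24,0,17,2,27,23,13,25,5,17,13,10,5,10,2,0,23,25,6,13,26,21,22,27,6,1,27,4,11,27,15,12,4,28,24,12,15,6,28,5,13,13,16,12,27,26,2,20,9,20]]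

/-- relations of step 2 -/
def rels2_2 : List (List ℕ × List Use) := [
  ([1,0], []),
  ([0,1], []),
  ([0,0], [])]

/-- vectors of step 2 -/
def orb2_2 : List (List ℕ) := [
  [19,9,16,4,14,7,7,3,10,5,19,19,15,8,23,7,9,10,15,18,2,2,19,24,7,22,13,9,12,7,13,4,17,3,4,20,15,21,9,26,6,18,13,25,15,21,13,5,21,10,17,14,17,28,13,18,16,21,3,14,11,15,25,0,7,19,22,13,22,14,22,23,16,16,16,9,8,23,1,2,26,20,24,25,0,14,25,26,28,17,4,11,7,17,22,3,16,4,4,27,10,20,26,4,15,1,23,7,5,26,3,22,20,19,4,20,10,14,21,16,7,13,27,17,1,21,9,26,3,15,14,5,14]]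

/-- relations of step 3 -/
def rels2_3 : List (List ℕ × List Use) := [
  ([1,0,0], [⟨[(10,false),(9,false),(10,false),(9,true),(9,true),(10,false),(8,false),(9,true),(10,false)],0,false,[0,2,2,0,3,0,3,3,0,3,3,0,3,0,3,0,2,1,3,3]⟩,
    ⟨[(42,true),(48,false),(48,false),(48,false),(42,false)],167,true,[0,2,2,0,3,0,3,0,2,2,2,0,3,0,3,0,2,0,2,0,2,0,3,0,2]⟩,
    ⟨[],108,true,[3,0,2,2,0,3,0,2,2,0,2,0,3,0,3,0,3,3,0,2,2,2]⟩,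
    ⟨[(166,true),(140,true)],165,true,[0,2,0,2,0,3,3,0,3,3,0,2,2,0,2,2,0,3,0]⟩,
    ⟨[(339,false),(339,false)],259,false,[2,0,2,0,2,2,0,3,3,0,2,2,0,2,2,0,3,0,3,3,0]⟩,
    ⟨[(166,false),(140,false)],108,false,[0,2,2,2,0,2,0,2,0,3,0,3,0,2,0,2,0,2]⟩,
    ⟨[],167,false,[0,2,2,0,2,0,3,0,3,0,3,0,2,0,2,2,2,0,2,1,3]⟩,
    ⟨[],0,true,[0,3,0,2,0,2,0,2,0,3,3,0,3,3,0,3,0,3,3,0,3,0]⟩]),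
  ([0,1,0], [⟨[(10,false),(9,false),(10,false),(9,true),(9,true),(10,false),(8,false),(9,true),(10,false)],0,false,[0,2,2,0,3,0,3,3,0,3,3,0,3,0,3,0,2,1,3,3]⟩,
    ⟨[(42,true),(48,false),(48,false),(48,false),(42,false)],167,true,[0,2,2,0,3,0,3,0,2,2,2,0,3,0,3,0,2,0,2,0,2,0,3,0,2]⟩,
    ⟨[],108,true,[3,0,2,2,0,3,0,2,2,0,2,0,3,0,3,0,3,3,0,2,2,2]⟩,
    ⟨[(166,true),(140,true)],165,true,[0,2,0,2,0,3,3,0,3,3,0,2,2,0,2,2,0,3,0]⟩,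
    ⟨[(343,true),(339,true)],259,false,[2,0,3,3,0,3,0,2,0,2,2]⟩,
    ⟨[(166,false),(140,false)],108,false,[0,2,2,0,3,0,3,3,0,2,2,0,3,3,0,3,0,3,3,0]⟩,
    ⟨[],167,false,[2,0,2,2,2,0,3,0,2,2,0,3,0,3,3,0,3,0,2,2,0,3,1]⟩,
    ⟨[],0,true,[0,2,0,2,0,2,2,0,3,3,0,3,0,2,2,2,0,2,2,1,2]⟩]),
  ([0,0,1], [⟨[(10,false),(9,false),(10,false),(9,true),(9,true),(10,false),(8,false),(9,true),(10,false)],0,false,[0,2,2,0,3,0,3,3,0,3,3,0,3,0,3,0,2,1,3,3]⟩,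
    ⟨[(42,true),(48,false),(48,false),(48,false),(42,false)],167,true,[0,2,2,0,3,0,3,0,2,2,2,0,3,0,3,0,2,0,2,0,2,0,3,0,2]⟩,
    ⟨[],108,true,[3,0,2,2,0,3,0,2,2,0,2,0,3,0,3,0,3,3,0,2,2,2]⟩,
    ⟨[(166,true),(140,true)],165,true,[0,2,0,2,0,3,3,0,3,3,0,2,2,0,2,2,0,3,0]⟩,
    ⟨[(343,true),(339,true)],259,false,[2,0,2,0,2,2,0,3,3,0,2,2,0,2,2,0,3,0,3,3,0]⟩,
    ⟨[(166,false),(140,false)],108,false,[0,2,2,2,0,2,0,2,0,3,0,3,0,2,0,2,0,2]⟩,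
    ⟨[],167,false,[0,2,2,0,2,0,3,0,3,0,3,0,2,0,2,2,2,0,2,1,3]⟩,
    ⟨[],0,true,[0,3,0,2,0,2,0,2,0,3,3,0,3,3,0,3,0,3,3,0,3,0]⟩]),
  ([0,0,0], [⟨[(10,false),(9,false),(10,false),(9,true),(9,true),(10,false),(8,false),(9,true),(10,false)],0,false,[0,2,0,3,3,0,3,3,0,3,3,0,2,1]⟩,
    ⟨[(42,true),(48,false),(48,false),(48,false),(42,false)],167,true,[3,0,3,0,2,0,3,3,0,3,3,0,3,3,0,2,2,1,3,3]⟩,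
    ⟨[],108,true,[3,3,0,2,0,2,2,0,3,3,0,2,2,0,2,0,2,2,0,2,1,3]⟩,
    ⟨[(166,true),(140,true)],165,true,[2,0,3,3,0,3,0,2,0,2,0,2,2,0,2,2,0,2,2,1]⟩,
    ⟨[],165,false,[0,2,0,2,0,3,3,0,3,3,0,2,2,0,2,2,0,3,0]⟩,
    ⟨[(166,false),(140,false)],108,false,[0,2,2,0,2,0,2,2,0,2,2,0,2,2,0,2,0,3,3,0]⟩,
    ⟨[],167,false,[3,3,0,2,2,0,2,0,3,0,2,2,0,3,0,3,3,0,3]⟩,
    ⟨[],0,true,[0,2,0,2,0,3,0,2,2,0,3,3,0,3,0,2,0,2,0,3,0]⟩])]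

/-- vectors of step 3 -/
def orb2_3 : List (List ℕ) := [
  [6,18,6,8,28,24,22,8,21,8,25,9,1,17,26,6,26,20,2,7,26,4,3,8,21,3,3,18,25,20,20,0,23,1,8,3,1,13,18,23,23,16,25,28,1,27,5,10,8,28,5,28,4,27,4,28,3,17,19,28,22,0,17,11,22,17,15,5,1,0,17,11,4,3,19,6,1,0,6,25,10,19,23,3,25,18,11,5,12,16,0,0,0,0,26,0,17,22,4,17,0,8,0,0,5,8,27,16,2,0,9,21,0,27,19,13,0,22,2,24,21,3,10,12,16,7,12,24,27,0,10,21,13]]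

/-- relations of step 4 -/
def rels2_4 : List (List ℕ × List Use) := [
  ([1,0,0,0], [⟨[(10,false),(9,false),(9,false),(10,false),(9,true),(10,false),(9,false),(9,false),(10,false)],0,false,[0,3,0,2,0,2,2,0,2,2,0,3,3,0,3,0,2,2,1]⟩,
    ⟨[(48,false),(42,true),(48,true),(42,true)],167,true,[3,3,0,2,2,0,2,0,2,2,2,0,2,0,2,0,3,0]⟩,
    ⟨[],108,true,[0,2,2,0,3,3,0,3,0,3,3,0,2,2,0,2,0,3,0,3,3,0,2,1]⟩,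
    ⟨[(118,false),(140,true),(118,false)],6,false,[3,3,0,3,0,3,3,0,2,2,0,3,3,0,3,0,3,3]⟩,
    ⟨[(339,true)],186,false,[0,2,0,2,2,0,2,0,2,0,2,2,0,3,3,0,3,0,2,0,2,1,3]⟩,
    ⟨[(166,false),(140,false)],108,false,[2,2,2,0,2,0,2,2,0,2,2,2,0]⟩,
    ⟨[],167,false,[0,3,0,2,2,0,3,3,0,3,0,2,2,2,0,2,0,3,3,0,3,1]⟩,
    ⟨[],0,true,[0,2,0,2,0,3,0,2,2,0,2,0,2,2,0,2,2,2,0,2,0,3,0,3]⟩]),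
  ([0,1,0,0], [⟨[(10,false),(9,false),(9,false),(10,false),(9,true),(10,false),(9,false),(9,false),(10,false)],0,false,[0,3,0,2,0,2,2,0,2,2,0,3,3,0,3,0,2,2,1]⟩,
    ⟨[(48,false),(42,true),(48,true),(42,true)],167,true,[3,3,0,2,2,0,2,0,2,2,2,0,2,0,2,0,3,0]⟩,
    ⟨[],108,true,[0,2,2,0,3,3,0,3,0,3,3,0,2,2,0,2,0,3,0,3,3,0,2,1]⟩,
    ⟨[(118,false),(140,true),(118,false)],6,false,[3,3,0,3,0,3,3,0,2,2,0,3,3,0,3,0,3,3]⟩,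
    ⟨[(343,false),(151,false),(343,false)],162,false,[2,2,0,2,2,0,2,0,3,0,3,0,2,2,0,2,0,2,0,3]⟩,
    ⟨[(140,false)],108,false,[0,2,2,2,0,2,0,2,0,2,2,0,3,3,1,2,2,2]⟩,
    ⟨[],167,false,[0,2,2,2,0,3,3,0,3,0,3,0,2,0,2,2,2,0,2,0,3,1]⟩,
    ⟨[],0,true,[0,3,3,0,3,3,0,2,0,3,3,0,2,2,2,0,3,0,2,2,1]⟩]),
  ([0,0,1,0], [⟨[(10,false),(9,false),(9,false),(10,false),(9,true),(10,false),(9,false),(9,false),(10,false)],0,false,[0,3,0,2,0,2,2,0,2,2,0,3,3,0,3,0,2,2,1]⟩,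
    ⟨[(48,false),(42,true),(48,true),(42,true)],167,true,[3,3,0,2,2,0,2,0,2,2,2,0,2,0,2,0,3,0]⟩,
    ⟨[],108,true,[0,2,2,0,3,3,0,3,0,3,3,0,2,2,0,2,0,3,0,3,3,0,2,1]⟩,
    ⟨[(118,false),(140,true),(118,false)],6,false,[3,3,0,3,0,3,3,0,2,2,0,3,3,0,3,0,3,3]⟩,
    ⟨[(343,false),(151,false),(343,false)],162,false,[0,2,0,3,0,2,2,0,2,0,3,0,2,2,0,3,0]⟩,
    ⟨[(140,false)],108,false,[2,2,2,0,3,0,3,0,2,0,3,3,0,2,1,2,2]⟩,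
    ⟨[],167,false,[2,0,3,0,3,0,2,0,3,3,0,2,0,2,2,0,3,3,0,3,1,2,2]⟩,
    ⟨[],0,true,[0,2,2,0,2,0,2,2,0,2,0,3,3,0,3,0,3,3,1,3]⟩]),
  ([0,0,0,1], [⟨[(10,false),(9,false),(9,false),(10,false),(9,true),(10,false),(9,false),(9,false),(10,false)],0,false,[0,3,0,2,0,2,2,0,2,2,0,3,3,0,3,0,2,2,1]⟩,
    ⟨[(48,false),(42,true),(48,true),(42,true)],167,true,[3,3,0,2,2,0,2,0,2,2,2,0,2,0,2,0,3,0]⟩,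
    ⟨[],108,true,[0,2,2,0,3,3,0,3,0,3,3,0,2,2,0,2,0,3,0,3,3,0,2,1]⟩,
    ⟨[(118,false),(140,true),(118,false)],6,false,[3,3,0,3,0,3,3,0,2,2,0,3,3,0,3,0,3,3]⟩,
    ⟨[(343,false),(339,true)],295,true,[2,2,0,2,0,3,3,0,3,0,2,2,0,2,2,0,3,0,3,3,1,3]⟩,
    ⟨[(333,true),(344,false)],192,false,[2,2,0,2,0,3,3,0,3,0,3,0,3,3,0,2,2,2,0,3,0,3,3]⟩,
    ⟨[(125,false),(102,false),(125,false)],192,true,[3,0,3,0,3,0,2,2,0,3,0,3,3,0,2,2,2,0,2,2,1]⟩,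
    ⟨[(342,true)],7,false,[0,3,0,3,0,2,0,2,0,3,1,3]⟩,
    ⟨[(361,false),(367,true)],345,false,[2,0,2,2,0,2,0,2,0,2,2,2,0,3,1,2,2,2]⟩,
    ⟨[(342,true)],236,false,[2,0,3,3,0,3,0,2,0,2,0,3,0,3,0,3,0,2,2]⟩,
    ⟨[(125,true),(178,true),(122,false)],192,true,[2,0,2,2,0,2,2,0,3,3,0,2,2,0,2,0,3,3,0,2,1,3,3]⟩,
    ⟨[(333,true),(344,false)],293,false,[3,0,3,0,2,2,0,3,0,3,3,0,2,2,2,0,3,1,2]⟩,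
    ⟨[(343,false),(151,false)],160,false,[2,0,3,0,3,0,3,3,0,3,0,3,0,2,0,2,1,3]⟩,
    ⟨[(140,false)],108,false,[0,3,0,2,2,2,0,3,3,0,3,0,3,3,0,2,2,2]⟩,
    ⟨[],167,false,[2,2,0,2,2,0,2,0,3,0,2,2,0,2,2]⟩,
    ⟨[],0,true,[0,2,0,2,2,0,3,3,0,3,0,3,3,1,2,2,2]⟩]),
  ([0,0,0,0], [⟨[(9,false),(9,false),(10,false),(8,false),(9,false),(9,false),(10,false),(9,true),(10,false)],0,false,[2,0,2,2,0,3,0,3,3,0,3,3,0,3,0,3,0,2,0]⟩,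
    ⟨[(42,false),(42,false),(48,false),(48,false)],173,true,[0,2,0,2,0,2,0,2,2,0,2,0,3,3]⟩,
    ⟨[(102,false),(178,false),(122,false)],108,true,[3,3,0,2,2,0,2,0,3,3,0,3,0,2,2,0,2,2,2]⟩,
    ⟨[(140,false),(118,false)],6,false,[0,2,0,2,0,2,0,3,0,3,0,2,0,2,0,3,0,3,3,1]⟩,
    ⟨[(339,true)],186,false,[0,2,0,2,2,0,2,0,2,0,2,2,0,3,3,0,3,0,2,0,2,1,3]⟩,
    ⟨[(166,false),(140,false)],108,false,[2,2,2,0,2,0,2,2,0,2,2,2,0]⟩,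
    ⟨[],167,false,[0,3,0,2,2,0,3,3,0,3,0,2,2,2,0,2,0,3,3,0,3,1]⟩,
    ⟨[],0,true,[0,2,0,2,0,3,0,2,2,0,2,0,2,2,0,2,2,2,0,2,0,3,0,3]⟩])]

/-- vectors of step 4 -/
def orb2_4 : List (List ℕ) := [
  [18,20,18,18,5,9,19,18,20,18,16,28,23,21,20,23,20,18,24,3,4,1,21,24,18,3,21,3,4,20,20,4,25,27,24,16,16,16,3,15,25,13,4,13,11,9,11,8,9,25,21,3,15,6,10,25,28,22,25,3,0,3,22,11,25,20,17,3,14,3,4,1,15,7,25,19,14,0,9,27,25,23,20,9,16,24,5,26,27,12,0,7,0,0,20,0,2,21,13,28,0,3,4,0,15,17,13,19,9,0,15,12,0,6,2,10,0,18,23,27,20,9,1,13,8,11,10,16,20,0,27,11,21]]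

/-- relations of step 5 -/
def rels2_5 : List (List ℕ × List Use) := [
  ([0,1,1,1,1], [⟨[(10,false),(8,false),(9,false),(10,false),(8,false),(9,false),(9,false),(10,false),(8,false)],0,false,[0,3,0]⟩,
    ⟨[],14,false,[0,2,0,2,2,0,3,3,0,2,2,0,3,3,0,3,0,3,3,0,2,0]⟩,
    ⟨[(42,true),(48,false),(42,false)],148,true,[2,0,2,0,2,0,3,0,3,3,0,2,0,3,3,0,3,3,0]⟩,
    ⟨[(122,false),(122,false)],170,false,[0,3,0,3,0,3,0,3,3,0,3,3,0,2,0,2,2,0,3]⟩,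
    ⟨[(333,true)],260,false,[2,2,0,3,0,2,2,0,2,0,3,0,2,2,0,2,2,0,3,0,3,3]⟩,
    ⟨[],348,true,[2,0,2,2,0,2,0,2,0,3,0,3,0,2,0,3,3,1]⟩,
    ⟨[(350,true),(367,false)],345,false,[2,0,2,2,0,2,0,2,2,0,2,2,2,0,2,0,2,2,0,3,1]⟩,
    ⟨[(333,true)],283,false,[0,2,2,0,3,3,0,3,0,3,0,2,0,2,2,2,0,3,1,2,2]⟩,
    ⟨[(122,true),(125,true)],194,true,[3,0,3,3,0,2,2,0,3,0,3,3,0,2,2,0,2,0,3,3,0]⟩,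
    ⟨[(344,false),(333,false)],180,true,[2,0,2,0,3,0,3,0,3,3,0,3,3,0,3,0,3,3,0,2,2]⟩,
    ⟨[(343,true),(151,false),(343,true)],158,false,[0,2,2,0,2,2,0,3,0,3,0,3,0,2,0,3,3,0,2,0,2,2,0,3,3]⟩,
    ⟨[(140,false)],108,false,[0,2,0,3,0,3,0,3,0,2,0,2,2,0,2,0,3,3,0,3,3,0,2]⟩,
    ⟨[],167,false,[3,0,3,3,0,2,2,0,3,3,0,3,0]⟩,
    ⟨[],0,true,[0,2,0,3,3,0,3,3,0,2,2,0,2,0,2,0,2,2,2,0,3]⟩]),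
  ([0,1,0,0,0], [⟨[(10,false),(8,false),(9,false),(10,false),(8,false),(9,false),(9,false),(10,false),(8,false)],0,false,[0,3,0]⟩,
    ⟨[],14,false,[0,2,0,2,2,0,3,3,0,2,2,0,3,3,0,3,0,3,3,0,2,0]⟩,
    ⟨[(42,true),(48,false),(42,false)],148,true,[2,0,2,0,2,0,3,0,3,3,0,2,0,3,3,0,3,3,0]⟩,
    ⟨[],148,false,[2,0,3,3,0,2,0,2,0,2,0,3,1,2]⟩,
    ⟨[],14,true,[3,3,0,2,2,0,2,0,2,0,2,2,0,2,0,3,3,1,3]⟩,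
    ⟨[],0,true,[2,0,3,0,3,0,3,0,2,0,3,3,0,3,0,3,3,1,3]⟩]),
  ([1,1,0,1,1], [⟨[(10,false),(8,false),(9,false),(10,false),(8,false),(9,false),(9,false),(10,false),(8,false)],0,false,[0,3,0]⟩,
    ⟨[],14,false,[0,2,0,2,2,0,3,3,0,2,2,0,3,3,0,3,0,3,3,0,2,0]⟩,
    ⟨[(42,true),(48,false),(42,false)],148,true,[2,0,2,0,2,0,3,0,3,3,0,2,0,3,3,0,3,3,0]⟩,
    ⟨[(125,true),(178,true)],170,false,[0,3,0,3,0,3,0,3,3,0,3,3,0,2,0,2,2,0,3]⟩,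
    ⟨[(333,true)],260,false,[2,2,0,3,0,2,2,0,2,0,3,0,2,2,0,2,2,0,3,0,3,3]⟩,
    ⟨[],348,true,[2,0,2,2,0,2,0,2,0,3,0,3,0,2,0,3,3,1]⟩,
    ⟨[(350,true),(367,false)],345,false,[2,0,2,2,0,2,0,2,2,0,2,2,2,0,2,0,2,2,0,3,1]⟩,
    ⟨[(333,true)],283,false,[0,2,2,0,3,3,0,3,0,3,0,2,0,2,2,2,0,3,1,2,2]⟩,
    ⟨[(122,true),(125,true)],194,true,[3,0,3,3,0,2,2,0,3,0,3,3,0,2,2,0,2,0,3,3,0]⟩,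
    ⟨[(344,false),(333,false)],180,true,[2,0,2,0,3,0,3,0,3,3,0,3,3,0,3,0,3,3,0,2,2]⟩,
    ⟨[(343,true),(151,false),(343,true)],158,false,[0,2,2,0,2,2,0,3,0,3,0,3,0,2,0,3,3,0,2,0,2,2,0,3,3]⟩,
    ⟨[(140,false)],108,false,[0,2,0,3,0,3,0,3,0,2,0,2,2,0,2,0,3,3,0,3,3,0,2]⟩,
    ⟨[],167,false,[3,0,3,3,0,2,2,0,3,3,0,3,0]⟩,
    ⟨[],0,true,[0,2,0,3,3,0,3,3,0,2,2,0,2,0,2,0,2,2,2,0,3]⟩]),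
  ([1,1,1,0,1], [⟨[(10,false),(8,false),(9,false),(10,false),(8,false),(9,false),(9,false),(10,false),(8,false)],0,false,[0,3,0]⟩,
    ⟨[],14,false,[0,2,0,2,2,0,3,3,0,2,2,0,3,3,0,3,0,3,3,0,2,0]⟩,
    ⟨[(42,true),(48,false),(42,false)],148,true,[2,0,2,0,2,0,3,0,3,3,0,2,0,3,3,0,3,3,0]⟩,
    ⟨[(125,true),(125,true)],233,true,[0,3,3,0,2,0,2,0,2,2,0,2,2,0,2]⟩,
    ⟨[(344,false)],194,false,[0,2,2,0,3,3,0,3,0,2,2,0,3,0,2,2,2,0,2,0]⟩,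
    ⟨[(125,false),(122,false)],283,true,[0,2,0,2,2,0,2,0,2,2,2,0,3,0,3,0,2,1]⟩,
    ⟨[(342,true)],236,false,[2,0,3,0,2,2,0,3,0,3,3,0,3,3,0,2,2,0,3,3,0,3]⟩,
    ⟨[(102,false),(125,true),(125,true)],192,true,[0,3,3,0,3,0,3,0,2,0,2,0,2,2,0,2,2,0,2,0,2,2,0]⟩,
    ⟨[(344,false),(342,false)],274,false,[0,3,0,3,0,2,2,0,2,0,3,0,3,0,2,0,3,3,0,3,1]⟩,
    ⟨[(368,false)],134,false,[3,0,2,2,2,0,2,2,0,3,0,3,3,0,3,1,3]⟩,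
    ⟨[(151,false)],244,false,[0,3,0,3,0,2,0,3,3,0,3,0,2,0,2,0,2,2,0,2,2,2,0]⟩,
    ⟨[(166,false),(140,false)],108,false,[0,3,0,3,0,2,0,3,3,0,2,0,2,2,0,2,0,3,0,3,0,3]⟩,
    ⟨[],167,false,[3,0,2,0,2,0,2,0,3,0,3,3,0,3,0,3,0,2,0,2,0,3,1]⟩,
    ⟨[],0,true,[0,3,3,0,3,3,0,3,3,0,3,0,2,2,0,2,2,0,2,0,2,2]⟩]),
  ([1,1,1,1,0], [⟨[(10,false),(8,false),(9,false),(10,false),(8,false),(9,false),(9,false),(10,false),(8,false)],0,false,[0,3,0]⟩,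
    ⟨[],14,false,[0,2,0,2,2,0,3,3,0,2,2,0,3,3,0,3,0,3,3,0,2,0]⟩,
    ⟨[(42,true),(48,false),(42,false)],148,true,[2,0,2,0,2,0,3,0,3,3,0,2,0,3,3,0,3,3,0]⟩,
    ⟨[(125,true),(122,true),(125,false)],192,true,[0,2,2,0,2,2,0,2,0,3,3,0,2,0,3,3]⟩,
    ⟨[(342,false)],192,false,[0,2,0,2,2,0,3,3,0,3,0,2,2,0,2,2,0,2,0,2]⟩,
    ⟨[(125,false),(102,false),(125,false)],192,true,[0,2,0,3,0,2,2,2,0,3,0,3,0,3,0,2,1,2,2,2]⟩,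
    ⟨[(342,false)],194,false,[2,0,2,2,0,2,0,3,0,2,2,2,0,3,1,3]⟩,
    ⟨[(122,true),(178,false),(178,false)],192,true,[0,2,2,2,0,3,3,0,3,0,3,0,2,0,2,2,0,3,1,3,3]⟩,
    ⟨[(344,false),(342,false)],274,false,[2,0,2,0,3,0,3,3,0,2,2,0,3,1,3]⟩,
    ⟨[(368,false)],134,false,[2,0,3,0,3,3,0,2,0,3,3,0,2,2,2,0,3,0,3,0,3]⟩,
    ⟨[(151,false)],244,false,[0,3,0,3,0,2,0,3,3,0,3,0,2,0,2,0,2,2,0,2,2,2,0]⟩,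
    ⟨[(166,false),(140,false)],108,false,[0,3,0,3,0,2,0,3,3,0,2,0,2,2,0,2,0,3,0,3,0,3]⟩,
    ⟨[],167,false,[3,0,2,0,2,0,2,0,3,0,3,3,0,3,0,3,0,2,0,2,0,3,1]⟩,
    ⟨[],0,true,[0,3,3,0,3,3,0,3,3,0,3,0,2,2,0,2,2,0,2,0,2,2]⟩]),
  ([1,1,1,1,1], [⟨[(8,true),(9,false),(10,false),(9,false),(10,false),(9,false),(10,false),(8,false)],0,false,[3,0,2,0,2,2,2,0,2,2,0,2,0,2,2,0,3,3,0,3,3,0]⟩,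
    ⟨[],30,false,[3,0,3,0,3,3,0,3,0,2,0,2,1,3,3]⟩,
    ⟨[(42,true),(48,false),(42,false)],44,false,[0,2,2,0,2,2,0,3,3,0,2,0,2,2,0,3,3,0,3,3,0]⟩,
    ⟨[(178,false),(102,false),(178,false)],170,false,[0,3,3,0,3,0,2,2,0,3,0,3,3,0,3,0,2,2,0,3]⟩,
    ⟨[(342,false)],260,false,[3,0,2,0,3,3,0,2,2,2,0,3,0,2,2,1,3,3]⟩,
    ⟨[],348,true,[0,3,0,3,0,2,2,0,2,0,3,0,3,0,2,0,3,3,0,2,0]⟩,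
    ⟨[(355,true),(367,false)],346,false,[0,2,2,0,2,2,0,3,0,3,0,2,0,2,2,0,2,0,2,0,3,3,0,2]⟩,
    ⟨[(333,true),(344,false)],192,false,[0,2,2,2,0,3,0,2,2,2,0,2,2,0,3,0]⟩,
    ⟨[(125,false),(102,false),(125,false)],192,true,[0,2,0,2,2,2,0,2,0,3,3,0,2,0,2,2,0,3,0,3,0,2,1,2,2]⟩,
    ⟨[(333,true),(344,false)],293,false,[0,3,0,2,0,3,3,0,2,0,2,2,0,2,0,2,2,0,3,1,3,3]⟩,
    ⟨[(343,false)],259,false,[3,0,3,3,0,3,0,2,2,0,2,0,3,0,3,0,2,0,2,0,2,0,3]⟩,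
    ⟨[(140,false)],108,false,[0,2,0,2,0,3,3,0,3,3,0,3,0,3,3,0,3,0,2,0,2,0]⟩,
    ⟨[],167,false,[0,3,0,2,0,2,2,0,2,0,2,2,0,2,2,2,1]⟩,
    ⟨[],0,true,[3,0,2,2,0,3,0,3,3,0,3,0,2,2,0,3,0,3,3,0,3,0,2,1]⟩])]

/-- vectors of step 5 -/
def orb2_5 : List (List ℕ) := [
  [13,18,13,6,20,4,23,8,1,8,26,3,20,25,27,21,15,11,11,5,2,2,11,17,19,18,11,25,10,7,7,18,2,16,24,16,1,27,25,18,2,7,10,19,4,18,10,22,4,25,22,10,2,8,2,25,4,26,21,10,13,15,26,10,3,19,2,27,22,15,4,3,2,2,21,5,22,0,20,27,20,18,9,6,15,21,8,19,5,14,0,10,0,0,23,0,24,14,14,23,0,16,18,0,18,11,22,11,0,0,2,18,0,8,15,18,0,18,21,19,7,12,4,24,6,11,1,1,0,0,14,3,23]]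

/-- relations of step 6 -/
def rels2_6 : List (List ℕ × List Use) := [
  ([0,1,1,1,1,0], [⟨[(9,false),(9,false),(9,false),(10,false),(9,false),(8,false),(9,false),(9,false),(10,false)],0,false,[2,0,3,0,3,0,2,2,0,2,2,0,2,0,2,0,3,0,3,3,0,3,0,2]⟩,
    ⟨[],14,false,[0,3,0,3,3,0,2,2,0,2,0,2,0,2,2,0,2,2,2,0,3,0]⟩,
    ⟨[(42,true),(48,false),(42,false),(42,false)],148,true,[0,2,2,0,3,0,3,3,0,2,2,2,0,3,0,3,0,3,0,2]⟩,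
    ⟨[(122,false)],170,false,[3,3,0,2,2,0,3,0,2,2,0,3,0,2,2,2,1,2,2]⟩,
    ⟨[(333,true)],260,false,[2,2,0,3,3,0,2,0,2,2,0,2,0,3,1,3,3]⟩,
    ⟨[],348,true,[2,2,0,2,2,2,0,2,0,2,0,3,0,3,0,3,3,0,3,3,1]⟩,
    ⟨[(360,false),(362,false)],7,true,[3,0,3,0,3,3,0,2,0,2,2,0,3,3,0,2,2,0,2,0,2,2]⟩,
    ⟨[],194,false,[0,2,0,2,0,2,2,2,0,3,0,3,3,0,3,3]⟩,
    ⟨[(125,false),(122,false)],283,true,[3,3,0,3,0,3,0,2,0,2,2,0,3,3,0,3,0,3,3,0,3,3]⟩,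
    ⟨[(333,true),(342,false)],295,false,[2,0,3,0,3,0,2,2,0,2,2,0,2,0,3]⟩,
    ⟨[],160,false,[0,3,3,0,3,3,0,3,0,3,0,2,0,2,2,0,2,0,3,3,0,2,0]⟩,
    ⟨[(166,false),(140,false)],108,false,[3,3,0,3,0,2,0,2,0,3,0,2,2,2,0,3,3]⟩,
    ⟨[],167,false,[2,0,3,3,0,3,3,0,3,0,2,2,0,2,2,0,2,1]⟩,
    ⟨[],0,true,[0,2,2,0,2,2,2,0,2,0,2,0,2,2,0,3,3,0,3,3,0,3,3]⟩]),
  ([1,0,1,1,1,0], [⟨[(9,false),(9,false),(9,false),(10,false),(9,false),(8,false),(9,false),(9,false),(10,false)],0,false,[2,0,3,0,3,0,2,2,0,2,2,0,2,0,2,0,3,0,3,3,0,3,0,2]⟩,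
    ⟨[],14,false,[0,3,0,3,3,0,2,2,0,2,0,2,0,2,2,0,2,2,2,0,3,0]⟩,
    ⟨[(42,true),(48,false),(42,false),(42,false)],148,true,[0,2,2,0,3,0,3,3,0,2,2,2,0,3,0,3,0,3,0,2]⟩,
    ⟨[(102,false),(178,true),(102,false)],170,false,[0,2,2,2,0,2,0,3,0,3,3,0,2,2,1]⟩,
    ⟨[(333,true)],260,false,[0,3,0,3,0,3,0,3,3,0,3,0,3,0,2,0,2,2]⟩,
    ⟨[],348,true,[0,3,0,2,2,2,0,2,0,3,0,3,0,3,3,0,3,0,2,2,0,3,0,3]⟩,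
    ⟨[(355,false),(350,false)],345,false,[2,0,2,2,0,2,0,2,0,2,2,2,0,3,0,2]⟩,
    ⟨[(333,false)],283,false,[0,2,2,0,3,3,0,3,0,3,0,2,0,2,2,2,0,3,1,2,2]⟩,
    ⟨[(122,true),(125,true)],194,true,[3,0,3,3,0,2,2,0,3,0,3,3,0,2,2,0,2,0,3,3,0]⟩,
    ⟨[(344,false),(333,false)],180,true,[2,0,2,0,3,0,3,0,3,3,0,3,3,0,3,0,3,3,0,2,2]⟩,
    ⟨[(343,true),(151,false),(343,true)],158,false,[0,2,2,0,2,2,0,3,0,3,0,3,0,2,0,3,3,0,2,0,2,2,0,3,3]⟩,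
    ⟨[(140,false)],108,false,[0,2,0,3,0,3,0,3,0,2,0,2,2,0,2,0,3,3,0,3,3,0,2]⟩,
    ⟨[],167,false,[3,0,3,3,0,2,2,0,3,3,0,3,0]⟩,
    ⟨[],0,true,[0,2,0,3,3,0,3,3,0,2,2,0,2,0,2,0,2,2,2,0,3]⟩]),
  ([1,1,0,1,1,0], [⟨[(9,false),(9,false),(9,false),(10,false),(9,false),(8,false),(9,false),(9,false),(10,false)],0,false,[2,0,3,0,3,0,2,2,0,2,2,0,2,0,2,0,3,0,3,3,0,3,0,2]⟩,
    ⟨[],14,false,[0,3,0,3,3,0,2,2,0,2,0,2,0,2,2,0,2,2,2,0,3,0]⟩,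
    ⟨[(42,true),(48,false),(42,false),(42,false)],148,true,[0,2,2,0,3,0,3,3,0,2,2,2,0,3,0,3,0,3,0,2]⟩,
    ⟨[(102,false),(178,true),(102,false)],170,false,[2,2,0,2,0,2,0,2,2,0,2,2,2,0,3,1,2]⟩,
    ⟨[(333,true)],260,false,[2,0,2,2,0,3,3,0,3,0,2,0,2,0,2,0,3,0,3,0,2,1]⟩,
    ⟨[],348,true,[0,3,0,2,0,2,2,2,0,2,2,0,2,0,2,0,3,1,3]⟩,
    ⟨[(355,false),(350,false)],345,false,[0,2,2,2,0,3,0,3,3,0,3,0,2,0,2,0,2,2,1,2,2]⟩,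
    ⟨[(333,false)],283,false,[0,2,0,2,2,0,2,0,3,3,0,2,0,2,2,2,0,3,1,2,2]⟩,
    ⟨[(122,true),(125,true)],194,true,[0,2,0,2,0,3,3,0,3,3,0,3,0,3,0,2,0,2,2,0,3,1,2]⟩,
    ⟨[(344,false),(333,false)],180,true,[3,0,2,0,3,3,0,3,0,2,2,0,3,0,3,3,0,3,3,0,3,3]⟩,
    ⟨[(343,true),(151,false),(343,true)],158,false,[2,0,2,0,2,0,3,0,3,0,3,0,2,0,2,2,1]⟩,
    ⟨[(140,false)],108,false,[3,3,0,3,3,0,2,2,0,2,0,2,2,0,3,0,2,2]⟩,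
    ⟨[],167,false,[0,2,2,0,2,0,2,0,2,2,0,2,2,0,2,2,0,2,2,0,2,0,2]⟩,
    ⟨[],0,true,[0,2,0,2,2,0,3,3,0,3,3,0,3,0,2,2,0,2,2,2,0]⟩]),
  ([1,1,1,0,1,0], [⟨[(9,false),(9,false),(9,false),(10,false),(9,false),(8,false),(9,false),(9,false),(10,false)],0,false,[2,0,3,0,3,0,2,2,0,2,2,0,2,0,2,0,3,0,3,3,0,3,0,2]⟩,
    ⟨[],14,false,[0,3,0,3,3,0,2,2,0,2,0,2,0,2,2,0,2,2,2,0,3,0]⟩,
    ⟨[(42,true),(48,false),(42,false),(42,false)],148,true,[0,2,2,0,3,0,3,3,0,2,2,2,0,3,0,3,0,3,0,2]⟩,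
    ⟨[(125,true),(125,true),(122,true)],194,true,[3,3,0,3,0,2,0,2,0,2,2,0,3,0,2,2,2,0,2,1,2]⟩,
    ⟨[(333,false),(342,true)],192,false,[2,0,2,0,3,0,3,0,3,3,0,2,2,0,2,0,3,3,0,2,2]⟩,
    ⟨[(125,false),(102,false),(125,false)],192,true,[3,0,3,0,2,0,3,3,0,3,0,2,0,2,0,2,2,2,0,2,0,2,0]⟩,
    ⟨[(344,false)],5,true,[2,2,0,2,0,3,0,3,0,2,0,3,3,0,2,0,2,0,3,1]⟩,
    ⟨[(102,false),(125,false)],194,true,[2,0,2,2,0,2,0,2,2,0,2,2,0,2,2,0]⟩,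
    ⟨[],222,false,[0,3,3,0,2,2,0,3,0,2,2,2,0,3,1]⟩,
    ⟨[(368,true)],155,true,[2,2,0,2,2,0,3,0,2,2,0,2,2,0,3,0,2,2,2,1]⟩,
    ⟨[(339,true),(343,true),(339,true)],259,false,[3,0,3,3,0,3,0,2,2,0,2,0,3,0,3,0,2,0,2,0,2,0,3]⟩,
    ⟨[(140,false)],108,false,[0,2,0,2,0,3,3,0,3,3,0,3,0,3,3,0,3,0,2,0,2,0]⟩,
    ⟨[],167,false,[0,3,0,2,0,2,2,0,2,0,2,2,0,2,2,2,1]⟩,
    ⟨[],0,true,[3,0,2,2,0,3,0,3,3,0,3,0,2,2,0,3,0,3,3,0,3,0,2,1]⟩]),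
  ([0,0,0,0,1,0], [⟨[(9,false),(9,false),(9,false),(10,false),(9,false),(8,false),(9,false),(9,false),(10,false)],0,false,[2,0,3,0,3,0,2,2,0,2,2,0,2,0,2,0,3,0,3,3,0,3,0,2]⟩,
    ⟨[],14,false,[0,3,0,3,3,0,2,2,0,2,0,2,0,2,2,0,2,2,2,0,3,0]⟩,
    ⟨[(42,true),(48,false),(42,false),(42,false)],148,true,[0,2,2,0,3,0,3,3,0,2,2,2,0,3,0,3,0,3,0,2]⟩,
    ⟨[(178,true),(178,true)],192,true,[2,0,3,0,3,0,2,0,2,0,3,0,2,2,0,3,1,3,3]⟩,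
    ⟨[(342,false)],194,false,[2,0,2,2,2,0,3,3,0,3,0,3,0,3,3,0,2,2,0,3,0]⟩,
    ⟨[(125,false),(122,false)],283,true,[0,2,2,0,3,3,0,2,2,0,2,0,3,3,0,3,3,0,3,3,1]⟩,
    ⟨[],247,false,[3,0,3,3,0,3,3,0,2,2,2,0,2,0,3,1,3]⟩,
    ⟨[(178,true),(102,false),(178,true)],236,true,[0,2,0,2,0,3,0,2,2,0,3,3,0,3,0,2,2,2,1]⟩,
    ⟨[(333,true)],253,false,[2,0,3,0,3,0,3,3,0,3,0,2,2,1,2,2]⟩,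
    ⟨[(99,true)],332,true,[3,0,2,2,2,0,2,0,2,2,0,2,0,3,3,0,3,0]⟩,
    ⟨[(339,false)],158,false,[2,0,2,2,2,0,2,0,2,2,0,3,3,0,3,0,2,2,0,2,1]⟩,
    ⟨[(166,false),(140,false)],108,false,[3,3,0,3,0,2,0,2,0,3,0,3,3,0,2,0,2,1,3]⟩,
    ⟨[],167,false,[0,3,0,2,0,2,0,3,0,2,2,0,2,2,2,1,3]⟩,
    ⟨[],0,true,[2,0,3,3,0,2,0,3,3,0,3,3,0,2,0,2,2,0,3,3,0]⟩]),
  ([0,0,0,0,0,1], [⟨[(9,false),(9,false),(9,false),(10,false),(9,false),(8,false),(9,false),(9,false),(10,false)],0,false,[2,0,3,0,3,0,2,2,0,2,2,0,2,0,2,0,3,0,3,3,0,3,0,2]⟩,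
    ⟨[],14,false,[0,3,0,3,3,0,2,2,0,2,0,2,0,2,2,0,2,2,2,0,3,0]⟩,
    ⟨[(42,true),(48,false),(42,false),(42,false)],148,true,[0,2,2,0,3,0,3,3,0,2,2,2,0,3,0,3,0,3,0,2]⟩,
    ⟨[(122,false),(178,false)],233,true,[3,0,2,2,2,0,3,3,0,3,0,3,0,2,0,2,0,3,1,3]⟩,
    ⟨[],274,false,[2,0,2,2,2,0,3,3,0,3,0,3,0,2,0,3,3,0,2,2,0]⟩,
    ⟨[(368,false)],134,false,[0,2,0,2,2,0,2,0,3,3,0,3,0,2,2,0,3,0,2,2,0,2,1]⟩,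
    ⟨[(343,true),(151,false),(343,false)],230,true,[0,3,3,0,3,3,0,2,2,0,3,3,0,3,0,3]⟩,
    ⟨[(342,false)],193,true,[2,2,2,0,2,2,0,2,0,3,0,2,2,0,3,0,2,2,0,2,0,3]⟩,
    ⟨[],175,false,[3,0,3,0,3,3,0,2,2,0,2,0,2,2,0,2,0,3,3,0,3,3,0,3,1]⟩,
    ⟨[(178,false)],44,true,[0,3,3,0,2,2,0,2,2,0,3,0,3,3,0,2,2,0,3,0,2,2,2]⟩,
    ⟨[(48,false)],13,true,[0,2,2,0,3,0,2,2,0,2,2,2,0,2,1,2,2]⟩,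
    ⟨[],0,true,[3,0,3,0,2,0,2,0,2,2,0,2,2,0,2,0,2,2,0,2]⟩]),
  ([1,1,1,1,1,0], [⟨[(9,true),(10,false),(9,false),(10,false),(9,false),(9,false),(9,false),(10,false),(8,false)],0,false,[0,2,0,3,0,2,2,0,2,2,0,2,2,0,3,0,3,0,3]⟩,
    ⟨[],33,true,[0,3,0,2,0,2,0,2,0,2,2,2,0,2,0,2,2,1]⟩,
    ⟨[(48,true),(42,true),(42,true)],44,false,[2,2,0,3,3,0,3,3,0,3,0,2,2,2,0,2,0,2,0,3,0]⟩,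
    ⟨[(178,true),(102,false),(122,false)],170,false,[2,2,0,2,0,2,2,0,3,0,3,0,2,0,2,2,0,2,2,0,3]⟩,
    ⟨[(333,false)],260,false,[0,2,2,2,0,2,0,3,0,3,0,3,0,2,0,3,3,0,3,0,3,3,1,2,2]⟩,
    ⟨[],348,true,[2,0,2,2,0,2,0,2,0,3,0,3,0,3,0,2,0,2,0,3,0]⟩,
    ⟨[(350,true),(364,false)],346,false,[2,0,2,0,2,2,2,0,2,0,3,0,3,3,0,3]⟩,
    ⟨[(344,false)],192,false,[2,2,0,2,0,2,2,0,2,2,0,2,2,0,2,0,3,3]⟩,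
    ⟨[(125,false),(102,false),(125,false)],192,true,[3,0,2,2,0,2,2,0,2,0,2,0,3,0,3,3,0,3,3,0,3]⟩,
    ⟨[(344,false),(342,false),(333,false)],293,false,[3,0,3,3,0,2,2,0,2,0,2,2,0,3,3,0,2,0,3,3]⟩,
    ⟨[(151,false)],186,false,[2,0,3,0,2,2,0,2,2,0,2,2,0,3,0,3,0,3,0,2,0,3,3,0,2]⟩,
    ⟨[(166,false),(140,false)],108,false,[0,3,0,3,0,3,0,2,2,0,2,0,2,2,0,2,2,1]⟩,
    ⟨[],167,false,[3,3,0,3,0,2,0,2,2,0,3,0,3,0,2,0,3,3,0,3,0,2]⟩,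
    ⟨[],0,true,[0,2,0,3,0,3,0,2,0,2,2,0,3,0,3,0,2,0,2,1,2]⟩])]

/-- vectors of step 6 -/
def orb2_6 : List (List ℕ) := [
  [0,25,0,9,16,17,3,0,18,0,12,17,16,7,9,15,25,20,22,0,11,4,7,23,17,20,7,19,13,24,24,1,25,12,14,12,10,23,19,16,25,24,13,23,12,26,20,6,12,6,27,2,5,4,21,6,9,10,9,2,16,24,10,15,26,26,2,26,27,24,23,17,5,0,9,20,27,0,14,21,8,11,15,16,26,23,6,11,13,18,0,0,0,0,13,0,16,19,3,11,0,26,5,0,1,20,28,26,23,0,0,9,0,22,26,3,0,1,7,11,12,21,19,22,23,28,4,20,6,0,3,12,6]]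

/-- relations of step 7 -/
def rels2_7 : List (List ℕ × List Use) := [
  ([1,0,0,0,0,1,1], [⟨[(10,false),(9,true),(8,true),(9,true),(8,false),(9,true),(9,true),(10,false)],0,false,[2,2,2,0,2,2,0,3,0,2,2,0,2,2,0,2,0]⟩,
    ⟨[(42,false),(48,true),(42,true),(48,false),(42,false),(48,false)],4,false,[2,0,2,2,0,2,2,0,3,0,3,0,3,3,0,2,2,0,2,1,2,2]⟩,
    ⟨[(366,false),(184,false)],222,true,[2,2,0,2,2,0,3,3,0,3,0,2,2,0,3,0,3,3,0,2,1,2]⟩,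
    ⟨[(333,true)],243,false,[0,2,2,0,2,0,2,0,2,2,2,0,2,2,0,2,0,3,0]⟩,
    ⟨[],337,false,[2,0,2,0,3,0,3,0,3,0,2,2,0]⟩,
    ⟨[(356,true),(126,true)],266,true,[0,3,0,2,0,2,0,2,0,3,0,2,2,2,0,2,0,2]⟩,
    ⟨[(344,false)],192,false,[3,3,0,2,2,2,0,2,0,2,2,2,0,3,0,3,0]⟩,
    ⟨[(178,false)],44,true,[0,2,2,0,2,2,0,3,3,0,3,0,3,0,2,2,0,2,0]⟩,
    ⟨[(48,false)],13,true,[2,0,2,2,0,3,0,3,3,0,3,0,2,2,0,2,0,3,3,0,3]⟩,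
    ⟨[],0,true,[0,2,0,3,0,3,0,3,3,0,2,2,2,0,3,0,2,2,0,3]⟩]),
  ([1,1,1,0,0,0,1], [⟨[(10,false),(9,true),(8,true),(9,true),(8,false),(9,true),(9,true),(10,false)],0,false,[2,2,2,0,2,2,0,3,0,2,2,0,2,2,0,2,0]⟩,
    ⟨[(42,false),(48,true),(42,true),(48,false),(42,false),(48,false)],4,false,[2,0,2,2,0,2,2,0,3,0,3,0,3,3,0,2,2,0,2,1,2,2]⟩,
    ⟨[(359,true),(356,false)],150,false,[0,2,0,3,3,0,3,0,3,3,0,2,2,0,2,0,3,0,3,0,2,1]⟩,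
    ⟨[(368,true)],175,false,[2,0,3,0,2,2,2,0,2,2,0,3,3,0,3,1,3]⟩,
    ⟨[],44,true,[2,0,3,3,0,3,3,0,3,0,2,2,0,2,2,0,2,0,2,0,2]⟩,
    ⟨[(48,false)],13,true,[2,0,2,2,0,2,0,3,0,2,2,0,2,2,2,0,2,0,2,0]⟩,
    ⟨[],0,true,[0,3,3,0,2,0,2,2,0,3,3,0,3,3,0,2,0,2,2,0,2]⟩]),
  ([0,0,0,1,0,1,1], [⟨[(10,false),(9,true),(8,true),(9,true),(8,false),(9,true),(9,true),(10,false)],0,false,[2,2,2,0,2,2,0,3,0,2,2,0,2,2,0,2,0]⟩,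
    ⟨[(42,false),(48,true),(42,true),(48,false),(42,false),(48,false)],4,false,[2,0,2,2,0,2,2,0,3,0,3,0,3,3,0,2,2,0,2,1,2,2]⟩,
    ⟨[(368,true)],203,true,[0,2,2,2,0,2,2,0,2,0,3,3,0,2,2,2,0]⟩,
    ⟨[(333,true)],307,false,[2,0,2,0,2,0,2,2,2,0,2,0,2,0,3,0,3,0,3,0,2,1,3]⟩,
    ⟨[(339,true),(343,false),(151,false)],200,false,[0,3,0,2,2,2,0,3,0,3,0,3,0,2,2,0,2,1,2,2]⟩,
    ⟨[(126,true)],340,true,[0,2,0,2,2,0,2,0,2,2,0,3,0,2,2,2,0,2,0]⟩,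
    ⟨[(342,true)],194,false,[3,0,2,2,0,2,0,3,0,3,0,3,0,2,2,0,2,1,3]⟩,
    ⟨[(125,true)],175,true,[0,2,2,0,2,0,3,3,0,2,0,3,3,0,2,2,2,0,3,0]⟩,
    ⟨[],193,false,[3,0,3,3,0,2,0,2,2,2,0,3,0,3,3,0,2,0,2,0,3]⟩,
    ⟨[(333,true),(344,false),(333,true)],164,false,[0,3,0,3,0,3,3,0,2,2,0,2,0,2,2,0,2,0,3,3,0,3,0,2]⟩,
    ⟨[(339,false),(343,true)],165,false,[0,3,3,0,3,0,3,0,3,3,0,3,0,2,0,2,2,0,3,0,3,0]⟩,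
    ⟨[(140,false)],108,false,[0,3,3,0,2,2,0,2,0,2,0,3,0,2,2,0,3,3,1,3]⟩,
    ⟨[],167,false,[0,3,0,3,0,3,0,2,2,2,0,3,0,3,0,2,0,2,2,0,3]⟩,
    ⟨[],0,true,[0,2,0,2,2,2,0,3,0,2,2,0,2,2,0,2,2,0,2,2,2,0,3]⟩]),
  ([0,0,1,0,0,1,1], [⟨[(10,false),(9,true),(8,true),(9,true),(8,false),(9,true),(9,true),(10,false)],0,false,[2,2,2,0,2,2,0,3,0,2,2,0,2,2,0,2,0]⟩,
    ⟨[(42,false),(48,true),(42,true),(48,false),(42,false),(48,false)],4,false,[2,0,2,2,0,2,2,0,3,0,3,0,3,3,0,2,2,0,2,1,2,2]⟩,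
    ⟨[(99,false)],183,false,[3,0,3,0,2,0,3,3,0,2,0,2,2,0,2,2,0,3,0,3,3,0]⟩,
    ⟨[(368,false),(184,false)],203,true,[0,3,0,3,3,0,2,2,0,2,0,2,2,0,2,0,3,1]⟩,
    ⟨[],230,false,[2,0,3,3,0,3,3,0,3,3,0,2,0,2,2,0,3,0,3,3,0,2]⟩,
    ⟨[(151,false),(339,true),(339,true)],155,false,[0,2,2,0,2,2,2,0,2,0,3,0,3,0,2,2,0,2,2,0,3,1,3,3]⟩,
    ⟨[(184,true)],222,true,[2,2,0,2,2,0,3,3,0,3,0,2,2,0,3,0,3,3,0,2,1,2]⟩,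
    ⟨[(333,true)],243,false,[0,2,2,0,2,0,2,0,2,2,2,0,2,2,0,2,0,3,0]⟩,
    ⟨[],337,false,[2,0,2,0,3,0,3,0,3,0,2,2,0]⟩,
    ⟨[(356,true),(126,true)],266,true,[0,3,0,2,0,2,0,2,0,3,0,2,2,2,0,2,0,2]⟩,
    ⟨[(344,false)],192,false,[3,3,0,2,2,2,0,2,0,2,2,2,0,3,0,3,0]⟩,
    ⟨[(178,false)],44,true,[0,2,2,0,2,2,0,3,3,0,3,0,3,0,2,2,0,2,0]⟩,
    ⟨[(48,false)],13,true,[2,0,2,2,0,3,0,3,3,0,3,0,2,2,0,2,0,3,3,0,3]⟩,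
    ⟨[],0,true,[0,2,0,3,0,3,0,3,3,0,2,2,2,0,3,0,2,2,0,3]⟩]),
  ([1,0,1,0,1,1,0], [⟨[(10,false),(9,true),(8,true),(9,true),(8,false),(9,true),(9,true),(10,false)],0,false,[2,2,2,0,2,2,0,3,0,2,2,0,2,2,0,2,0]⟩,
    ⟨[(42,false),(48,true),(42,true),(48,false),(42,false),(48,false)],4,false,[2,0,2,2,0,2,2,0,3,0,3,0,3,3,0,2,2,0,2,1,2,2]⟩,
    ⟨[(358,true)],242,true,[3,0,3,0,2,2,0,2,0,3,3,0,3,3,0,3,0,3,1,2,2]⟩,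
    ⟨[(344,false),(342,true),(333,true)],248,false,[0,2,2,2,0,3,0,3,0,3,0,2,0,2,2,0,2,0,2]⟩,
    ⟨[(333,true),(342,false)],246,false,[0,2,2,0,2,0,2,2,0,3,3,0,3,0,2,2,0,3,0,3]⟩,
    ⟨[(344,false)],312,true,[3,3,0,2,2,0,2,0,3,3,0,3,0,3,0,2,0,2,2,2,1,3]⟩,
    ⟨[(342,false),(342,false)],306,false,[0,2,0,2,2,0,2,2,0,3,3,0,2,2,0,2,0,3,3,0]⟩,
    ⟨[(366,true),(126,false)],159,false,[3,0,2,0,2,2,0,2,0,3,0,2,2,0,2,0,3,0,2]⟩,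
    ⟨[(125,true),(178,true)],159,true,[0,2,0,3,3,0,3,0,3,3,0,2,2,0,2,0,3,3,0,3,3]⟩,
    ⟨[(366,true)],275,true,[0,2,0,2,0,2,0,3,0,3,3,0,3,0,2,2,0,3,0,2,2,1,3]⟩,
    ⟨[(344,false)],227,true,[0,3,3,0,3,0,3,0,2,2,2,0,3,0,3,0,2,0]⟩,
    ⟨[(343,false),(151,false)],165,false,[0,3,3,0,3,0,3,0,3,3,0,3,0,2,0,2,2,0,3,0,3,0]⟩,
    ⟨[(140,false)],108,false,[0,3,3,0,2,2,0,2,0,2,0,3,0,2,2,0,3,3,1,3]⟩,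
    ⟨[],167,false,[0,3,0,3,0,3,0,2,2,2,0,3,0,3,0,2,0,2,2,0,3]⟩,
    ⟨[],0,true,[0,2,0,2,2,2,0,3,0,2,2,0,2,2,0,2,2,0,2,2,2,0,3]⟩]),
  ([0,0,1,1,0,1,0], [⟨[(10,false),(9,true),(8,true),(9,true),(8,false),(9,true),(9,true),(10,false)],0,false,[2,2,2,0,2,2,0,3,0,2,2,0,2,2,0,2,0]⟩,
    ⟨[(42,false),(48,true),(42,true),(48,false),(42,false),(48,false)],4,false,[2,0,2,2,0,2,2,0,3,0,3,0,3,3,0,2,2,0,2,1,2,2]⟩,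
    ⟨[(99,false),(99,false)],155,true,[2,2,0,3,0,2,2,0,2,0,2,2,0]⟩,
    ⟨[(339,false),(151,false),(339,true)],207,true,[3,0,2,2,0,2,0,3,0,3,0,3,0,2,2,0,3,1,2]⟩,
    ⟨[],198,true,[3,3,0,3,0,2,0,2,0,2,2,0,2,0,3,3,0,3,3,1,3]⟩,
    ⟨[(356,false)],254,true,[2,0,2,2,2,0,3,3,0,3,0,2,0,2,0,3,0,3,1,3,3]⟩,
    ⟨[(333,false),(342,true)],192,false,[3,0,3,0,2,0,2,0,3,3,0,3,0,3,0,2,0,2,2]⟩,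
    ⟨[(125,true),(122,false),(125,false)],159,true,[0,2,0,3,0,3,0,2,2,2,0,2,0,2,2,0,2,2,0,3]⟩,
    ⟨[(366,true)],275,true,[0,2,0,2,0,2,0,3,3,0,3,3,0,3,0,3,0,2,0,2,1,2,2,2]⟩,
    ⟨[(344,false)],164,false,[2,2,0,2,2,0,2,0,3,0,3,0,2,2,2,0]⟩,
    ⟨[(343,true),(343,true)],205,false,[2,2,2,0,3,0,3,0,2,0,2,2,2,0,2,0,3,0,3,1,3]⟩,
    ⟨[(140,false)],108,false,[0,2,2,0,2,0,2,0,3,0,2,2,0,3,3,0,3,3,1,2,2]⟩,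
    ⟨[],167,false,[3,0,2,0,2,0,2,0,3,0,2,2,0,2,0,2,2,0,2,0]⟩,
    ⟨[],0,true,[2,2,0,3,3,0,3,0,3,0,3,3,0,3,0,2,2,0,2,0]⟩]),
  ([0,0,1,1,0,0,1], [⟨[(10,false),(9,true),(8,true),(9,true),(8,false),(9,true),(9,true),(10,false)],0,false,[2,2,2,0,2,2,0,3,0,2,2,0,2,2,0,2,0]⟩,
    ⟨[(42,false),(48,true),(42,true),(48,false),(42,false),(48,false)],4,false,[2,0,2,2,0,2,2,0,3,0,3,0,3,3,0,2,2,0,2,1,2,2]⟩,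
    ⟨[(356,true)],161,true,[0,2,0,2,2,2,0,2,2,0,2,0,2,0,2,2,0,3,3,0,2,2,0,2,0]⟩,
    ⟨[(151,false),(343,false),(343,false)],207,true,[3,3,0,3,3,0,3,3,0,3,3,0,2,0,2,2,2,0,2]⟩,
    ⟨[],198,true,[2,0,2,0,2,0,2,2,2,1,2,2,2]⟩,
    ⟨[(99,false)],182,false,[0,2,0,2,0,2,0,3,0,3,0,3,3,0,3,3,0,3,1,3,3]⟩,
    ⟨[(342,false)],283,false,[2,2,2,0,3,3,0,3,0,2,2,2,0,2,0,2,1]⟩,
    ⟨[(125,true),(178,false),(178,false),(102,false)],159,true,[2,2,0,2,0,3,3,0,2,0,2,2,2,0,3,3,1]⟩,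
    ⟨[(366,true)],275,true,[0,2,0,2,0,3,3,0,3,3,0,2,1,2,2,2]⟩,
    ⟨[(344,false)],164,false,[0,2,2,0,2,2,0,3,3,0,2,2,0,2,0,2,2,0,3,3,1]⟩,
    ⟨[(343,false),(151,false),(343,false)],162,false,[0,3,0,3,3,0,2,0,2,2,0,2,2,0,2,0,2,1,2]⟩,
    ⟨[(140,false)],108,false,[2,0,2,0,2,2,0,2,2,0,3,0,3,3,0,2,2,2]⟩,
    ⟨[],167,false,[2,2,0,3,3,0,3,0,2,0,2,0,3,0,3,0,3,3,0,3,0]⟩,
    ⟨[],0,true,[2,0,2,0,2,2,0,2,0,3,0,3,0,2,0,2,0,3,3]⟩]),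
  ([0,0,0,0,0,1,1], [⟨[(8,false),(9,true),(8,false),(9,true),(9,true),(10,false)],0,false,[2,0,2,2,0,3,0,3,3,0,2,2,0,2,0,3,0,3,3,0,3]⟩,
    ⟨[(48,false),(42,true),(48,false),(42,false),(48,false)],174,true,[3,0,2,0,2,2,2,0,2,2,2,0,2,0,3,3,0]⟩,
    ⟨[(368,true)],274,true,[3,3,0,2,0,3,3,0,3,3,0,3,0,2,2,0,3]⟩,
    ⟨[(333,true)],321,true,[2,0,3,0,2,2,0,2,2,0,2,0,2,2,2,0,2]⟩,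
    ⟨[(339,true),(151,false)],231,false,[0,2,0,2,2,0,2,0,2,2,2,0,2,0,2,0,3,1,2]⟩,
    ⟨[(356,true)],277,true,[2,0,2,0,3,3,0,2,0,2,2,0,2,0,3,0,3,0,2,0,3,3,1,2]⟩,
    ⟨[(342,false)],194,false,[3,0,3,0,2,2,2,0,2,2,2,0,2,0,3,0,3,3]⟩,
    ⟨[],44,true,[3,0,2,2,0,2,0,2,0,2,2,0,3,3,0,2,0,2,2,0,2,2]⟩,
    ⟨[(48,false)],13,true,[2,0,2,0,2,2,0,3,0,3,0,3,0,2,0,2,0]⟩,
    ⟨[],0,true,[0,2,0,2,0,2,0,3,0,2,2,2,0,3,0,3,3,0,3,0,3,1,3]⟩])]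

/-- vectors of step 7 -/
def orb2_7 : List (List ℕ) := [
  [18,20,18,9,17,5,4,14,26,14,19,20,17,0,20,15,0,7,11,9,25,19,26,13,8,14,26,25,25,17,17,22,11,26,16,26,13,25,25,13,11,17,25,4,0,3,11,19,26,16,7,4,19,22,22,16,5,16,26,4,17,22,16,13,3,8,20,27,7,22,4,20,19,11,26,27,7,0,14,19,1,16,15,26,0,27,2,3,12,26,0,5,0,0,3,0,17,4,0,2,0,3,0,0,11,1,13,17,26,0,6,28,0,6,0,12,0,11,23,3,14,27,27,1,6,18,18,22,3,0,0,15,23]]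

/-- relations of step 8 -/
def rels2_8 : List (List ℕ × List Use) := [
  ([0,1,1,1,1,1,1,0], [⟨[(9,false),(8,true),(9,true),(9,true),(10,false),(9,true),(10,false),(9,false),(9,false),(10,false)],0,false,[2,0,2,2,0,2,0,3,3,1,2,2,2]⟩,
    ⟨[(48,false),(42,true),(48,true),(42,true),(42,true),(48,false)],4,false,[3,0,3,0,3,0,2,0,2,0,2,0,3,0,3,0,2,0,2,0]⟩,
    ⟨[(99,false)],51,true,[3,0,2,0,2,0,2,2,0,3,3,0,3,3,0,3]⟩,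
    ⟨[(166,true),(132,false)],205,true,[0,2,0,2,0,3,0,3,0,2,2,0,2,0,3,1]⟩,
    ⟨[(151,false)],291,false,[0,3,0,3,0,2,2,0,3,0,2,2,0,2,2,2,0,2,1]⟩,
    ⟨[(366,false)],277,true,[0,2,2,0,2,0,3,0,3,0,3,3,0,2,0,2,2,0,3,3,0,2,1,3]⟩,
    ⟨[(342,false)],194,false,[0,2,0,2,2,0,3,3,0,3,0,3,0,2,2,0,2,1,2]⟩,
    ⟨[(178,true),(122,true)],5,false,[2,0,2,2,0,2,0,3,0,3,0,3,0,2,0,3,3,0,3,1,2,2]⟩,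
    ⟨[],204,false,[2,0,3,0,3,0,2,0,3,3,0,3,3,0,2,0,2,2,2,0,3,3]⟩,
    ⟨[(333,true)],7,false,[0,2,2,0,2,2,0,3,0,3,3,0,3,3,0]⟩,
    ⟨[(362,false),(367,true)],346,false,[0,3,0,2,2,0,2,2,2,0,3,3,0,3,0,3]⟩,
    ⟨[(342,true)],236,false,[2,2,0,2,0,3,0,2,2,0,3,0,3,3,0,2,2,2,0,3,1]⟩,
    ⟨[(125,true),(178,true),(122,false)],192,true,[2,2,2,0,2,2,0,3,0,3,3,0,3,0,2,0,2,0,2,2,0,2]⟩,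
    ⟨[(344,false),(342,true)],180,true,[0,2,0,3,0,3,0,3,3,0,3,0,2,2,0,3,0,2,2,0,2,1,3,3]⟩,
    ⟨[(339,true),(343,false)],205,false,[0,2,0,3,3,0,2,2,0,3,3,0,3,0,3,3,0,2,2,2,1]⟩,
    ⟨[(166,false),(140,false)],108,false,[3,0,2,2,2,0,3,3,0,3,0,3,3,0,3,0,2,0,2,1]⟩,
    ⟨[],167,false,[0,2,2,0,3,3,0,3,0,2,2,0,2,0,3,0,3,0,2,0,2]⟩,
    ⟨[],0,true,[3,3,0,3,3,0,2,0,2,2,0,2,0,3,0,3,0,3,0,2,2]⟩]),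
  ([0,1,1,1,0,0,1,0], [⟨[(9,false),(8,true),(9,true),(9,true),(10,false),(9,true),(10,false),(9,false),(9,false),(10,false)],0,false,[2,0,2,2,0,2,0,3,3,1,2,2,2]⟩,
    ⟨[(48,false),(42,true),(48,true),(42,true),(42,true),(48,false)],4,false,[3,0,3,0,3,0,2,0,2,0,2,0,3,0,3,0,2,0,2,0]⟩,
    ⟨[],4,true,[0,2,0,3,0,3,0,2,2,0,2,2,0,2,2,0,3,3,1]⟩,
    ⟨[(48,true),(42,true),(48,true),(42,false),(42,false)],167,true,[2,2,0,2,2,0,3,3,0,2,2,0,2,0,2,2,2]⟩,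
    ⟨[(102,false),(122,false),(125,true)],159,true,[2,2,2,0,3,0,2,2,0,3,3,0,3,0,3,1,2,2,2]⟩,
    ⟨[(366,true)],275,true,[3,0,2,2,2,0,3,0,3,3,0,3,0,2,2,1,2,2,2]⟩,
    ⟨[(344,false),(333,false)],207,false,[2,2,0,3,0,3,3,0,2,2,0,2,0,3,3,0,3]⟩,
    ⟨[(343,true),(343,true)],158,false,[2,0,2,0,2,0,3,0,3,0,3,0,2,0,2,2,1]⟩,
    ⟨[(140,false)],108,false,[3,3,0,3,3,0,2,2,0,2,0,2,2,0,3,0,2,2]⟩,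
    ⟨[],167,false,[0,2,2,0,2,0,2,0,2,2,0,2,2,0,2,2,0,2,2,0,2,0,2]⟩,
    ⟨[],0,true,[0,2,0,2,2,0,3,3,0,3,3,0,3,0,2,2,0,2,2,2,0]⟩]),
  ([0,0,0,1,0,1,1,0], [⟨[(9,false),(8,true),(9,true),(9,true),(10,false),(9,true),(10,false),(9,false),(9,false),(10,false)],0,false,[2,0,2,2,0,2,0,3,3,1,2,2,2]⟩,
    ⟨[(48,false),(42,true),(48,true),(42,true),(42,true),(48,false)],4,false,[3,0,3,0,3,0,2,0,2,0,2,0,3,0,3,0,2,0,2,0]⟩,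
    ⟨[(357,false),(99,true)],150,false,[2,0,3,0,3,0,3,0,3,3,0,3,0,2,2,0,2,0,3,0,3,1,2,2]⟩,
    ⟨[(366,false)],213,true,[0,2,0,3,3,0,3,0,2,0,2,2,0,3,3,0,2,2,1,3]⟩,
    ⟨[(343,false),(343,false),(339,true)],189,false,[3,3,0,3,3,0,3,0,3,3,0,2,2,0,2,0,3,0,3,1]⟩,
    ⟨[(99,false),(99,false)],208,true,[3,0,3,0,3,3,0,3,0,2,2,0,3,0,3,3,0,2,2,0,3]⟩,
    ⟨[],194,false,[0,2,0,2,0,3,0,3,3,0,3,0,3,0,2,0,2,2,0,3,0]⟩,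
    ⟨[(178,true),(178,true),(122,false)],175,true,[0,3,0,2,0,2,0,2,0,2,2,0,3,3,0,2,2,0,2,2]⟩,
    ⟨[],193,false,[2,0,3,0,3,0,3,3,0,3,3,0,2,0,2,0,2,0,3,0,2,2,1,3]⟩,
    ⟨[(333,false),(344,false)],164,false,[0,3,0,3,0,3,3,0,2,2,0,2,0,2,2,0,2,0,3,3,0,3,0,2]⟩,
    ⟨[(339,false),(343,true)],165,false,[0,3,3,0,3,0,3,0,3,3,0,3,0,2,0,2,2,0,3,0,3,0]⟩,
    ⟨[(140,false)],108,false,[0,3,3,0,2,2,0,2,0,2,0,3,0,2,2,0,3,3,1,3]⟩,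
    ⟨[],167,false,[0,3,0,3,0,3,0,2,2,2,0,3,0,3,0,2,0,2,2,0,3]⟩,
    ⟨[],0,true,[0,2,0,2,2,2,0,3,0,2,2,0,2,2,0,2,2,0,2,2,2,0,3]⟩]),
  ([0,0,1,0,0,1,1,0], [⟨[(9,false),(8,true),(9,true),(9,true),(10,false),(9,true),(10,false),(9,false),(9,false),(10,false)],0,false,[2,0,2,2,0,2,0,3,3,1,2,2,2]⟩,
    ⟨[(48,false),(42,true),(48,true),(42,true),(42,true),(48,false)],4,false,[3,0,3,0,3,0,2,0,2,0,2,0,3,0,3,0,2,0,2,0]⟩,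
    ⟨[(368,false)],316,true,[2,0,2,2,0,2,0,3,0,3,3,0,3,0,2,2,0,2,2,2,1,3,3]⟩,
    ⟨[(333,true)],312,true,[0,2,0,2,2,0,3,0,3,0,2,0,2,0,2,2,2,1,3]⟩,
    ⟨[(344,false)],268,false,[0,3,0,2,2,2,0,2,0,3,3,0,2,2,2,1,2]⟩,
    ⟨[(333,true)],224,false,[2,0,3,0,3,0,2,0,2,2,0,3,0,3,3,0,3,0,3,0,3,3,1]⟩,
    ⟨[(339,false),(343,false)],295,true,[3,0,2,2,0,2,0,2,0,2,2,2,0,2,0,2,0,3,3,1,3]⟩,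
    ⟨[(342,false)],325,false,[2,0,3,0,3,0,2,2,0,2,0,3,0,2,2,0,3,3]⟩,
    ⟨[(339,false),(343,false)],213,false,[3,0,3,0,2,2,0,2,2,0,2,0,2,0,2,2,0,2,2,1,3]⟩,
    ⟨[(358,false),(366,true)],208,true,[0,3,0,2,2,0,2,2,0,3,3,0,2,2,0,2,0,2,0]⟩,
    ⟨[],194,false,[0,2,2,0,2,2,2,0,2,2,2,0,2,0,3,3,0]⟩,
    ⟨[],44,true,[3,3,0,2,0,3,3,0,3,0,2,2,0,2,2,1,3]⟩,
    ⟨[(48,false)],13,true,[0,2,0,3,3,0,3,0,3,0,2,0,2,2,2,0,3,0]⟩,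
    ⟨[],0,true,[2,2,2,0,3,0,2,2,2,0,2,0,3,0,3,1,3]⟩]),
  ([1,1,0,0,0,1,0,0], [⟨[(9,false),(8,true),(9,true),(9,true),(10,false),(9,true),(10,false),(9,false),(9,false),(10,false)],0,false,[2,0,2,2,0,2,0,3,3,1,2,2,2]⟩,
    ⟨[(48,false),(42,true),(48,true),(42,true),(42,true),(48,false)],4,false,[3,0,3,0,3,0,2,0,2,0,2,0,3,0,3,0,2,0,2,0]⟩,
    ⟨[(126,true)],239,true,[2,0,3,0,2,2,0,3,0,3,3,0,2,2,0,3,3]⟩,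
    ⟨[(344,false)],235,false,[2,0,2,0,2,0,2,2,0,3,3,0,3,0,3,3,0,2,2,0,2,0,3,1,3,3]⟩,
    ⟨[(344,false),(342,false)],260,false,[2,0,3,0,3,0,2,0,2,0,2,2,0,2,0,3,0,3,0,3,1,2,2]⟩,
    ⟨[(333,false),(344,false)],208,false,[2,0,3,0,3,0,3,0,2,0,2,0,3,0,3,3,0,2,0,2,2,1,3]⟩,
    ⟨[(126,false),(184,true)],150,false,[2,0,2,0,2,2,0,2,2,0,3,3,0,2,2,0,2,0,3,0,3]⟩,
    ⟨[(366,true)],175,false,[0,3,3,0,3,3,0,3,0,2,2,2,0,2,0,2,0,2,2,2,0,2]⟩,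
    ⟨[],44,true,[3,0,3,0,3,3,0,3,3,0,3,0,2,2,1,3,3]⟩,
    ⟨[(48,false)],13,true,[3,0,2,2,0,2,0,2,2,0,2,0,2,1,2]⟩,
    ⟨[],0,true,[0,2,2,0,3,3,0,3,0,2,0,2,0,3,0,3,3,0,3,3]⟩]),
  ([0,0,0,0,0,1,0,0], [⟨[(9,false),(8,true),(9,true),(9,true),(10,false),(9,true),(10,false),(9,false),(9,false),(10,false)],0,false,[2,0,2,2,0,2,0,3,3,1,2,2,2]⟩,
    ⟨[(48,false),(42,true),(48,true),(42,true),(42,true),(48,false)],4,false,[3,0,3,0,3,0,2,0,2,0,2,0,3,0,3,0,2,0,2,0]⟩,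
    ⟨[(99,false)],261,true,[0,2,2,0,2,0,3,3,0,3,0,2,0,2,0,3,0,3,3,1,3,3]⟩,
    ⟨[(342,true),(333,false)],250,true,[2,0,2,2,0,2,2,0,3,3,0,2,0,2,2,0]⟩,
    ⟨[(344,false),(342,false),(333,false)],208,false,[0,2,2,0,2,0,2,2,0,2,2,0,2,2,0,3,0,2,2,0,2]⟩,
    ⟨[(359,false),(356,false),(99,true)],150,false,[2,0,2,0,2,2,0,2,2,0,3,3,0,2,2,0,2,0,3,0,3]⟩,
    ⟨[(366,true)],175,false,[0,3,3,0,3,3,0,3,0,2,2,2,0,2,0,2,0,2,2,2,0,2]⟩,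
    ⟨[],44,true,[3,0,3,0,3,3,0,3,3,0,3,0,2,2,1,3,3]⟩,
    ⟨[(48,false)],13,true,[3,0,2,2,0,2,0,2,2,0,2,0,2,1,2]⟩,
    ⟨[],0,true,[0,2,2,0,3,3,0,3,0,2,0,2,0,3,0,3,3,0,3,3]⟩]),
  ([1,1,1,1,1,0,1,0], [⟨[(9,false),(8,true),(9,true),(9,true),(10,false),(9,true),(10,false),(9,false),(9,false),(10,false)],0,false,[2,0,2,2,0,2,0,3,3,1,2,2,2]⟩,
    ⟨[(48,false),(42,true),(48,true),(42,true),(42,true),(48,false)],4,false,[3,0,3,0,3,0,2,0,2,0,2,0,3,0,3,0,2,0,2,0]⟩,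
    ⟨[(366,false)],281,true,[3,0,2,0,2,0,3,0,3,0,2,2,2,0,3,0,3,1,2,2,2]⟩,
    ⟨[(344,false),(333,false)],250,true,[0,2,2,2,0,2,0,3,3,0,3,3,0,2,0,2,2,0,2,1,3]⟩,
    ⟨[(344,false),(342,false),(333,false)],208,false,[3,3,0,3,0,3,0,3,3,0,3,0,2,2,0,2,0,2,0,3]⟩,
    ⟨[(358,false)],163,false,[2,2,0,2,0,2,0,3,0,3,0,2,2,2,0,3,3]⟩,
    ⟨[],175,false,[2,2,2,0,3,3,0,3,3,0,3,3,0,3,0,3,1,2,2]⟩,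
    ⟨[(122,false),(102,false)],247,true,[0,2,2,2,0,2,0,3,0,3,3,0,2,0,2,2,0,2,0,2,2]⟩,
    ⟨[(342,false)],204,false,[0,3,0,2,0,2,0,3,0,3,3,0,2,0,2,0,3,0,2,2,1,2,2,2]⟩,
    ⟨[(342,true)],7,false,[2,0,3,3,0,2,0,2,0,3,0,3,0,3,3,0,3,1]⟩,
    ⟨[(363,true),(355,true)],346,false,[0,2,2,0,2,2,0,3,0,3,0,3,0,2,0,3,3,1,3]⟩,
    ⟨[],233,false,[2,2,2,0,2,0,3,3,0,3,3,0,2,0,2,2,2,0,3]⟩,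
    ⟨[(125,true),(102,false),(122,false)],194,true,[0,2,2,0,3,3,0,3,0,3,0,2,0,2,0,3,0,3,3,0,2,1,2]⟩,
    ⟨[(342,true),(333,false)],243,false,[2,0,2,0,2,2,0,2,0,3,0,3,0,2,0,3,3,0,2,0,2,2,0,2]⟩,
    ⟨[(339,false),(339,false)],158,false,[2,0,2,2,2,0,2,0,2,2,0,3,3,0,3,0,2,2,0,2,1]⟩,
    ⟨[(166,false),(140,false)],108,false,[3,3,0,3,0,2,0,2,0,3,0,3,3,0,2,0,2,1,3]⟩,
    ⟨[],167,false,[0,3,0,2,0,2,0,3,0,2,2,0,2,2,2,1,3]⟩,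
    ⟨[],0,true,[2,0,3,3,0,2,0,3,3,0,3,3,0,2,0,2,2,0,3,3,0]⟩]),
  ([1,0,0,1,0,1,0,1], [⟨[(9,false),(8,true),(9,true),(9,true),(10,false),(9,true),(10,false),(9,false),(9,false),(10,false)],0,false,[2,0,2,2,0,2,0,3,3,1,2,2,2]⟩,
    ⟨[(48,false),(42,true),(48,true),(42,true),(42,true),(48,false)],4,false,[3,0,3,0,3,0,2,0,2,0,2,0,3,0,3,0,2,0,2,0]⟩,
    ⟨[(365,false),(99,true)],150,false,[0,2,0,2,0,3,0,3,3,0,2,2,0,2,0,2,0,2,2,0,2,2,1]⟩,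
    ⟨[(365,false)],320,true,[0,2,2,0,2,2,0,3,3,0,2,2,0,2,2,0,2]⟩,
    ⟨[(344,false)],218,true,[2,2,0,3,3,0,3,0,2,0,2,0,3,0,3,3,0,2,2,0,2,0,2,0]⟩,
    ⟨[(342,true),(344,false),(333,false)],250,false,[0,2,2,0,2,2,0,2,2,0,3,3,0,3,0,2,2,0,2,2,0,3]⟩,
    ⟨[(333,false)],316,false,[0,2,0,2,0,3,3,0,3,3,0,2,0,2,2,0,3,1]⟩,
    ⟨[(359,true),(99,false)],159,false,[2,0,2,0,2,0,2,2,0,2,0,3,0,2,2,0,3,1,2,2,2]⟩,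
    ⟨[(122,false),(178,false),(178,false)],159,true,[2,0,2,0,2,2,0,2,2,2,0,3,3,0,2,1]⟩,
    ⟨[(366,true)],275,true,[0,3,3,0,2,0,2,2,0,2,2,0,2,0,2,0,3,0]⟩,
    ⟨[(342,true),(344,false)],263,true,[2,2,0,2,2,0,3,3,0,2,0,2,2,0,2,0,2,2,2,0,2,2,0]⟩,
    ⟨[(343,true),(343,true)],158,false,[2,0,2,0,2,0,3,0,3,0,3,0,2,0,2,2,1]⟩,
    ⟨[(140,false)],108,false,[3,3,0,3,3,0,2,2,0,2,0,2,2,0,3,0,2,2]⟩,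
    ⟨[],167,false,[0,2,2,0,2,0,2,0,2,2,0,2,2,0,2,2,0,2,2,0,2,0,2]⟩,
    ⟨[],0,true,[0,2,0,2,2,0,3,3,0,3,3,0,3,0,2,2,0,2,2,2,0]⟩]),
  ([1,1,0,0,1,1,0,0], [⟨[(10,false),(9,true),(9,true),(10,false),(9,true),(10,false),(8,true)],0,false,[0,3,3,0,2,0,2,0,2,2,0,2,0,3,0,2,2,0,2,2]⟩,
    ⟨[(48,false),(42,false),(42,false),(48,true)],174,true,[0,2,0,3,3,0,2,0,2,2,0,2,0,2,0,3,0,3,0,2,2,0,2]⟩,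
    ⟨[],88,false,[3,0,2,0,2,2,0,2,2,2,0,3,3,0,3,1,2,2]⟩,
    ⟨[(140,false)],108,false,[2,0,2,0,2,2,0,3,0,3,0,3,0,2,0,2,2,0,2]⟩,
    ⟨[(178,true),(125,false),(122,true)],159,true,[3,0,3,3,0,2,2,2,0,2,0,3,0,3,1,2]⟩,
    ⟨[(366,true)],275,true,[2,0,2,0,2,0,3,0,3,3,0,3,0,2,0,2,0,3]⟩,
    ⟨[(342,true),(344,false)],263,true,[0,2,0,3,0,2,2,0,2,0,3,0,2,2,0,3,0,3,3,0,2,2,1]⟩,
    ⟨[(343,true),(343,true)],158,false,[2,0,2,0,2,0,3,0,3,0,3,0,2,0,2,2,1]⟩,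
    ⟨[(140,false)],108,false,[3,3,0,3,3,0,2,2,0,2,0,2,2,0,3,0,2,2]⟩,
    ⟨[],167,false,[0,2,2,0,2,0,2,0,2,2,0,2,2,0,2,2,0,2,2,0,2,0,2]⟩,
    ⟨[],0,true,[0,2,0,2,2,0,3,3,0,3,3,0,3,0,2,2,0,2,2,2,0]⟩])]

/-- vectors of step 8 -/
def orb2_8 : List (List ℕ) := [
  [19,20,19,23,11,26,7,4,13,4,14,23,21,2,14,4,21,13,24,6,17,14,26,25,26,25,26,14,1,19,19,18,5,20,13,1,3,9,14,8,5,19,1,20,28,20,18,13,2,28,22,16,7,18,16,28,20,0,21,16,21,12,0,5,28,16,10,3,22,12,28,0,7,16,21,0,22,0,2,15,17,3,27,24,7,5,24,12,21,11,0,28,0,0,5,0,8,27,22,3,0,5,15,0,8,9,15,22,27,0,24,20,0,15,7,7,0,8,14,4,28,4,17,4,28,21,28,18,2,0,22,8,1]]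

/-- relations of step 9 -/
def rels2_9 : List (List ℕ × List Use) := [
  ([0,1,1,1,1,1,1,0,0], [⟨[(10,false),(8,false),(9,true),(8,false),(9,true),(10,false),(9,true),(10,false)],0,false,[0,2,0,3,3,0,2,2,0,2,0,3,0,3,0,3,1,2,2]⟩,
    ⟨[(42,false),(48,true),(42,false),(48,true)],174,true,[2,0,2,0,2,2,0,3,0,2,2,0,3,0,3,3,0,2,0,2]⟩,
    ⟨[(184,false)],71,true,[3,0,2,0,2,0,2,0,2,2,2,0,3,0]⟩,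
    ⟨[(166,true)],162,true,[2,2,0,2,0,3,3,0,2,1,3]⟩,
    ⟨[(151,false)],255,false,[0,3,0,2,0,2,2,0,3,0,3,0,2,0,2,0,2,0,3,0,3]⟩,
    ⟨[(368,true),(357,true)],208,true,[0,3,0,3,0,3,3,0,2,2,0,2,0,2,0,2,2,0,2,0,3,3,1,2]⟩,
    ⟨[],194,false,[0,3,0,2,2,2,0,3,0,3,3,0,3,3,0]⟩,
    ⟨[(178,true),(122,true)],5,false,[0,2,0,3,3,0,2,0,2,2,0,3,0,2,2,0,3,0,3,3,1,3]⟩,
    ⟨[],204,false,[0,3,0,2,0,3,3,0,3,3,0,2,0,2,2,0,2,0,3,0,3,1,3,3]⟩,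
    ⟨[],348,true,[2,0,2,0,2,0,3,0,3,0,2,2,2,0,3,0,3,0,2,2]⟩,
    ⟨[(350,false),(355,false)],7,true,[3,0,3,1]⟩,
    ⟨[(342,false)],192,false,[0,2,0,2,2,0,2,2,0,2,0,2,0,2,2,2]⟩,
    ⟨[(125,false),(102,false),(125,false)],192,true,[2,2,0,2,0,3,3,0,3,0,3,0,3,3,0,2,2,2,0,3,0,3,3]⟩,
    ⟨[(333,true)],243,false,[2,0,3,0,3,3,0,2,2,1]⟩,
    ⟨[(151,false),(343,false)],205,false,[0,2,0,3,3,0,2,2,0,3,3,0,3,0,3,3,0,2,2,2,1]⟩,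
    ⟨[(166,false),(140,false)],108,false,[3,0,2,2,2,0,3,3,0,3,0,3,3,0,3,0,2,0,2,1]⟩,
    ⟨[],167,false,[0,2,2,0,3,3,0,3,0,2,2,0,2,0,3,0,3,0,2,0,2]⟩,
    ⟨[],0,true,[3,3,0,3,3,0,2,0,2,2,0,2,0,3,0,3,0,3,0,2,2]⟩]),
  ([1,0,0,0,1,0,1,0,0], [⟨[(10,false),(8,false),(9,true),(8,false),(9,true),(10,false),(9,true),(10,false)],0,false,[0,2,0,3,3,0,2,2,0,2,0,3,0,3,0,3,1,2,2]⟩,
    ⟨[(42,false),(48,true),(42,false),(48,true)],174,true,[2,0,2,0,2,2,0,3,0,2,2,0,3,0,3,3,0,2,0,2]⟩,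
    ⟨[],174,false,[2,0,3,3,0,2,2,0,3,3,0,3,0,2,2,0,2,2,0,2,2,2,0]⟩,
    ⟨[(42,false),(48,true),(48,true),(42,true),(48,false),(42,false)],167,true,[2,0,2,0,3,0,3,3,0,2,2,0,3,3,0,3,3,1,3]⟩,
    ⟨[(122,false),(125,false),(102,false)],175,true,[3,0,3,0,3,0,2,0,2,2,0,2,0,3,3,0,2,0,2,2,0,3,1]⟩,
    ⟨[],193,false,[2,0,2,0,3,0,3,0,2,0,2,0,3,0,3,3,0,3,3]⟩,
    ⟨[(344,false),(333,false)],137,false,[3,3,0,3,3,0,2,0,2,0,2,0,3,0,2,2,2]⟩,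
    ⟨[],6,true,[0,2,0,2,0,2,0,3,0,3,0,2,0,2,0,3,0,3,3,1]⟩,
    ⟨[(140,false)],108,false,[2,0,2,2,0,3,3,0,3,0,3,3,0,2,2,2,0]⟩,
    ⟨[],167,false,[3,0,3,0,3,3,0,2,2,0,3,3,0,3,0,2,2,0,2,0,2,2,0]⟩,
    ⟨[],0,true,[3,3,0,3,3,0,2,2,0,3,3,0,3,0,3,3,1,2,2,2]⟩]),
  ([1,1,1,0,1,1,1,0,0], [⟨[(10,false),(8,false),(9,true),(8,false),(9,true),(10,false),(9,true),(10,false)],0,false,[0,2,0,3,3,0,2,2,0,2,0,3,0,3,0,3,1,2,2]⟩,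
    ⟨[(42,false),(48,true),(42,false),(48,true)],174,true,[2,0,2,0,2,2,0,3,0,2,2,0,3,0,3,3,0,2,0,2]⟩,
    ⟨[(358,true),(126,false)],150,false,[0,2,0,3,3,0,3,3,0,3,3,0,2,0,2,0,2,0]⟩,
    ⟨[(366,false)],213,true,[0,2,0,2,0,3,0,3,3,0,2,2,0,3,3,0,3,1]⟩,
    ⟨[(343,false),(343,false),(339,true)],189,false,[2,0,3,3,0,3,0,3,0,2,0,3,3,0,2,2]⟩,
    ⟨[(99,false),(99,false)],208,true,[2,0,2,2,2,0,3,3,0,3,0,3,0,3,3,0,2,2,0,2,0,2]⟩,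
    ⟨[],194,false,[2,2,0,2,0,3,3,0,3,3,0,3,0,2,0,2,0,2,2,1]⟩,
    ⟨[(178,true),(178,true),(122,false)],175,true,[2,2,0,2,0,3,0,3,0,2,2,0,2,2,0,2,2,0,3,0,2,2]⟩,
    ⟨[],193,false,[2,2,0,2,0,2,0,3,0,3,3,0,2,2,2,0,3,0,3,0,3]⟩,
    ⟨[(333,false),(344,false)],164,false,[3,0,2,0,2,0,3,0,3,0,3,0,2,0,2,0,3,3,0,3,0,3]⟩,
    ⟨[(343,true),(343,true)],205,false,[2,2,2,0,3,0,3,0,2,0,2,2,2,0,2,0,3,0,3,1,3]⟩,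
    ⟨[(140,false)],108,false,[0,2,2,0,2,0,2,0,3,0,2,2,0,3,3,0,3,3,1,2,2]⟩,
    ⟨[],167,false,[3,0,2,0,2,0,2,0,3,0,2,2,0,2,0,2,2,0,2,0]⟩,
    ⟨[],0,true,[2,2,0,3,3,0,3,0,3,0,3,3,0,3,0,2,2,0,2,0]⟩]),
  ([1,1,0,1,1,1,1,0,0], [⟨[(10,false),(8,false),(9,true),(8,false),(9,true),(10,false),(9,true),(10,false)],0,false,[0,2,0,3,3,0,2,2,0,2,0,3,0,3,0,3,1,2,2]⟩,
    ⟨[(42,false),(48,true),(42,false),(48,true)],174,true,[2,0,2,0,2,2,0,3,0,2,2,0,3,0,3,3,0,2,0,2]⟩,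
    ⟨[(368,true),(184,true)],150,false,[2,0,2,0,3,0,3,0,3,0,2,0,2,0,3,3,0,3,0,3,1]⟩,
    ⟨[(357,true),(356,true)],198,false,[0,2,0,2,2,0,2,0,2,0,3,0,2,2,2,0,2,0,3,3,0,3,3,1]⟩,
    ⟨[],207,false,[0,3,0,3,3,0,2,0,2,0,3,1]⟩,
    ⟨[(343,true)],190,false,[2,0,3,0,2,2,2,0,2,0,2,0,3,3,1]⟩,
    ⟨[(184,true)],62,false,[2,0,2,2,2,0,2,0,3,3,0,3,3,0,2,2,1,3]⟩,
    ⟨[(166,false),(118,false)],165,true,[3,0,3,3,0,3,0,2,2,0,2,2,0,3,0,2,2,2]⟩,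
    ⟨[(151,false),(343,false)],161,false,[0,2,2,0,3,3,0,3,0,2,2,0,3,0,2,2,0,3,1]⟩,
    ⟨[(184,true),(358,false)],208,true,[0,3,0,3,0,3,3,0,2,2,0,2,0,2,0,2,2,0,2,0,3,3,1,2]⟩,
    ⟨[],194,false,[0,3,0,2,2,2,0,3,0,3,3,0,3,3,0]⟩,
    ⟨[(178,true),(122,true)],5,false,[0,2,0,3,3,0,2,0,2,2,0,3,0,2,2,0,3,0,3,3,1,3]⟩,
    ⟨[],204,false,[0,3,0,2,0,3,3,0,3,3,0,2,0,2,2,0,2,0,3,0,3,1,3,3]⟩,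
    ⟨[],348,true,[2,0,2,0,2,0,3,0,3,0,2,2,2,0,3,0,3,0,2,2]⟩,
    ⟨[(350,false),(355,false)],7,true,[3,0,3,1]⟩,
    ⟨[(342,false)],192,false,[0,2,0,2,2,0,2,2,0,2,0,2,0,2,2,2]⟩,
    ⟨[(125,false),(102,false),(125,false)],192,true,[2,2,0,2,0,3,3,0,3,0,3,0,3,3,0,2,2,2,0,3,0,3,3]⟩,
    ⟨[(333,true)],243,false,[2,0,3,0,3,3,0,2,2,1]⟩,
    ⟨[(151,false),(343,false)],205,false,[0,2,0,3,3,0,2,2,0,3,3,0,3,0,3,3,0,2,2,2,1]⟩,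
    ⟨[(166,false),(140,false)],108,false,[3,0,2,2,2,0,3,3,0,3,0,3,3,0,3,0,2,0,2,1]⟩,
    ⟨[],167,false,[0,2,2,0,3,3,0,3,0,2,2,0,2,0,3,0,3,0,2,0,2]⟩,
    ⟨[],0,true,[3,3,0,3,3,0,2,0,2,2,0,2,0,3,0,3,0,3,0,2,2]⟩]),
  ([0,0,1,1,1,1,0,0,0], [⟨[(10,false),(8,false),(9,true),(8,false),(9,true),(10,false),(9,true),(10,false)],0,false,[0,2,0,3,3,0,2,2,0,2,0,3,0,3,0,3,1,2,2]⟩,
    ⟨[(42,false),(48,true),(42,false),(48,true)],174,true,[2,0,2,0,2,2,0,3,0,2,2,0,3,0,3,3,0,2,0,2]⟩,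
    ⟨[(126,false)],340,true,[0,2,0,2,0,3,0,2,2,2,0,2,2,0,3,0,3,3,1,2,2]⟩,
    ⟨[(344,false),(342,false)],177,true,[0,3,3,0,2,2,0,2,2,0,2,0,3,0,2,2,0,3,1,3]⟩,
    ⟨[(344,false),(342,true),(333,false)],312,true,[0,2,0,3,0,3,0,3,0,3,3,0,2,2,0,2,0,3,0,2,2,2,0]⟩,
    ⟨[(333,true)],278,false,[2,0,2,0,2,0,2,2,0,2,0,3,1,2,2]⟩,
    ⟨[(339,true),(339,true)],189,false,[3,0,2,0,3,3,0,3,0,2,0,2,0,2,2,2,0,3,0,2]⟩,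
    ⟨[(368,true)],175,false,[2,2,0,3,0,3,0,2,0,2,0,2,2,0,3,3,0,2,2,0,3,3]⟩,
    ⟨[(178,false),(125,false)],247,true,[2,2,2,0,2,2,0,2,2,0,3,0,3,3,0,2,2,0,3,3,0,3,0,2,2]⟩,
    ⟨[(342,false)],204,false,[0,3,0,3,0,2,0,3,3,0,2,0,2,2,0,3,0,3,0,2,1,3,3]⟩,
    ⟨[(342,true)],7,false,[3,0,3,0,3,0,3,3,0,2,2,0,3,3,0,3,3,0,2,1]⟩,
    ⟨[(355,true),(355,true)],349,false,[0,3,0,3,3,0,2,2,0,3,0,3,3,0,3,3,0,2,2,0,3]⟩,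
    ⟨[(344,false),(342,false)],236,false,[2,0,3,3,0,3,0,2,0,2,2,0,3,3,0,3,0,3,1,2,2,2]⟩,
    ⟨[(125,true),(178,true),(122,false)],192,true,[0,2,2,0,2,0,3,3,0,3,0,3,0,2,0,3,3,0,2,2,0,2,2,1,3]⟩,
    ⟨[(344,false),(342,false),(333,false)],293,false,[0,3,0,3,0,2,2,0,3,0,2,2,0,2,0,3,3,0,3,3,0,3,0,2,0]⟩,
    ⟨[(151,false)],186,false,[0,3,3,0,3,0,3,0,2,0,2,0,2,0,2,2,2,1]⟩,
    ⟨[(166,false),(140,false)],108,false,[0,3,0,2,0,2,0,2,2,2,0,2,0,2,0,2,2,2,1]⟩,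
    ⟨[],167,false,[0,2,2,0,3,0,2,2,0,2,0,3,0,3,0,3,3,0,3,0]⟩,
    ⟨[],0,true,[0,2,0,2,0,3,3,0,3,3,0,3,3,0,2,2,0,2,0,3,3,0,2,1]⟩]),
  ([1,1,1,1,1,1,0,0,0], [⟨[(10,false),(8,false),(9,true),(8,false),(9,true),(10,false),(9,true),(10,false)],0,false,[0,2,0,3,3,0,2,2,0,2,0,3,0,3,0,3,1,2,2]⟩,
    ⟨[(42,false),(48,true),(42,false),(48,true)],174,true,[2,0,2,0,2,2,0,3,0,2,2,0,3,0,3,3,0,2,0,2]⟩,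
    ⟨[(358,false)],62,false,[3,3,0,2,0,2,0,2,2,0,3,3,0,2,0,2,2,0,3,0,2]⟩,
    ⟨[(132,false)],176,false,[3,0,3,3,0,2,2,0,2,0,3,3,0,3,1,3]⟩,
    ⟨[(333,false),(342,true),(333,false)],317,false,[3,3,0,2,0,3,3,0,3,3,0,2,2,0,2,1,2,2]⟩,
    ⟨[(151,false)],191,false,[0,2,0,2,0,2,2,0,3,0,3,0,3,0,3,3,0]⟩,
    ⟨[(359,false)],159,false,[0,3,3,0,2,2,0,3,0,2,2,0,3,1,3]⟩,
    ⟨[(178,false),(102,false),(122,false)],5,false,[3,3,0,2,2,0,2,0,2,2]⟩,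
    ⟨[],204,false,[2,2,0,2,0,3,0,2,2,2,0,2,0,2,2,1,2,2]⟩,
    ⟨[],348,true,[2,2,0,2,0,3,3,0,2,2,2,0,2]⟩,
    ⟨[(361,true),(369,false)],348,false,[2,2,0,3,3,0,2,0,2,2,0,2,0,3,3,0,3,3,0,2,1,3]⟩,
    ⟨[(342,false),(342,false)],194,false,[0,2,0,2,0,2,2,2,0,3,0,3,3,0,3,3]⟩,
    ⟨[(125,false),(122,false)],283,true,[3,3,0,3,0,3,0,2,0,2,2,0,3,3,0,3,0,3,3,0,3,3]⟩,
    ⟨[(333,true),(342,false)],295,false,[2,0,3,0,3,0,2,2,0,2,2,0,2,0,3]⟩,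
    ⟨[],160,false,[0,3,3,0,3,3,0,3,0,3,0,2,0,2,2,0,2,0,3,3,0,2,0]⟩,
    ⟨[(166,false),(140,false)],108,false,[3,3,0,3,0,2,0,2,0,3,0,2,2,2,0,3,3]⟩,
    ⟨[],167,false,[2,0,3,3,0,3,3,0,3,0,2,2,0,2,2,0,2,1]⟩,
    ⟨[],0,true,[0,2,2,0,2,2,2,0,2,0,2,0,2,2,0,3,3,0,3,3,0,3,3]⟩]),
  ([0,0,0,0,0,0,1,0,0], [⟨[(10,false),(8,false),(9,true),(8,false),(9,true),(10,false),(9,true),(10,false)],0,false,[0,2,0,3,3,0,2,2,0,2,0,3,0,3,0,3,1,2,2]⟩,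
    ⟨[(42,false),(48,true),(42,false),(48,true)],174,true,[2,0,2,0,2,2,0,3,0,2,2,0,3,0,3,3,0,2,0,2]⟩,
    ⟨[(356,true),(126,true)],208,true,[0,2,2,0,2,0,3,3,0,3,0,3,0,2,2,0,2,1,2]⟩,
    ⟨[(344,false)],188,false,[0,3,3,0,2,2,2,0,2,0,2,2,0,3,3,0,3,1,2,2,2]⟩,
    ⟨[],180,true,[3,0,2,2,0,2,2,0,2,0,2,0,3,0,3,0,3,0,2,0,2,0,3,3]⟩,
    ⟨[(339,true),(151,false),(343,false),(339,true)],155,false,[2,0,2,0,2,2,0,2,0,2,0,3,0,3,3,0,2,0,2,1,3]⟩,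
    ⟨[(358,true),(99,false)],159,false,[0,3,0,2,0,2,0,2,0,3,3,0,3,0,3,0,2,0,3,3,1]⟩,
    ⟨[(178,false)],44,true,[2,0,3,3,0,3,0,2,2,0,3,0,2,2,0,2,0,2,2,0]⟩,
    ⟨[(48,false)],13,true,[0,3,3,0,3,3,0,2,0,2,2,0,2,0,3,0,3,3,0,2]⟩,
    ⟨[],0,true,[2,0,3,0,3,3,0,2,2,0,2,0,2,0,3,3,0,3,0,3,3]⟩]),
  ([1,0,1,0,0,1,0,1,0], [⟨[(10,false),(8,false),(9,true),(8,false),(9,true),(10,false),(9,true),(10,false)],0,false,[0,2,0,3,3,0,2,2,0,2,0,3,0,3,0,3,1,2,2]⟩,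
    ⟨[(42,false),(48,true),(42,false),(48,true)],174,true,[2,0,2,0,2,2,0,3,0,2,2,0,3,0,3,3,0,2,0,2]⟩,
    ⟨[(359,true)],239,true,[3,0,2,0,2,0,2,2,0,2,0,2,2,2,0,2,0,2,0,3,0,3,0,2,2]⟩,
    ⟨[(342,false),(333,true)],197,false,[0,2,0,3,3,0,3,3,0,3,0,3,0,3,3,0,2,2,2,0,2,1,2]⟩,
    ⟨[(343,false),(343,false),(151,false)],213,false,[0,3,3,0,2,0,3,3,0,3,0,2,2,0,2,2,0,2,2,0,3,3]⟩,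
    ⟨[(99,true)],340,true,[2,2,2,0,2,0,3,0,3,0,3,3,0,2,2,0,2,0,3,3,1,2]⟩,
    ⟨[(344,false),(342,false)],232,false,[0,3,0,3,3,0,3,0,2,2,0,2,0,2,2,0,3,3,1,3]⟩,
    ⟨[],82,true,[2,2,0,2,2,2,0,3,3,0,2,0,2,2,0,2,1,2]⟩,
    ⟨[(178,false)],44,true,[2,0,2,0,2,0,3,0,3,0,3,0,2,0,2,0,2,2,0,2,2,1]⟩,
    ⟨[(48,false)],13,true,[0,2,0,2,2,0,2,0,2,2,0,3,3,1,2,2]⟩,
    ⟨[],0,true,[0,3,3,0,2,0,2,2,0,3,3,0,3,0,2,2,2,0,3,0]⟩]),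
  ([1,1,1,1,1,1,1,0,1], [⟨[(10,false),(8,false),(9,true),(8,false),(9,true),(10,false),(9,true),(10,false)],0,false,[0,2,0,3,3,0,2,2,0,2,0,3,0,3,0,3,1,2,2]⟩,
    ⟨[(42,false),(48,true),(42,false),(48,true)],174,true,[2,0,2,0,2,2,0,3,0,2,2,0,3,0,3,3,0,2,0,2]⟩,
    ⟨[(126,true)],327,true,[3,3,0,3,3,0,2,2,0,2,0,3,3,0,2,0,2,2,0,3,3,0]⟩,
    ⟨[],247,false,[2,2,2,0,3,0,3,3,0,3,0,2,2,0,2,0,2,0,3,0]⟩,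
    ⟨[(125,true),(122,false)],283,true,[3,0,2,0,2,2,0,2,0,3,3,0,3,0,3,0,2,0,2,0,2,2,0]⟩,
    ⟨[(344,false),(333,false)],180,true,[2,0,3,0,3,0,2,0,2,2,0,3,3,0,3,0,3,3,1,3,3]⟩,
    ⟨[(151,false),(343,true),(339,true)],155,false,[0,2,2,0,3,3,0,2,2,0,2,0,2,0,3,0,3,0,2,0,3,3]⟩,
    ⟨[(358,true)],134,false,[2,0,2,0,3,0,3,3,0,2,2,0,2,0,3,0,2,2,2,1,3]⟩,
    ⟨[(339,true)],191,false,[0,3,3,0,2,2,0,3,1,2,2,2]⟩,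
    ⟨[(365,true),(184,true)],208,true,[0,3,0,3,0,3,3,0,2,2,0,2,0,2,0,2,2,0,2,0,3,3,1,2]⟩,
    ⟨[],194,false,[0,3,0,2,2,2,0,3,0,3,3,0,3,3,0]⟩,
    ⟨[(178,true),(122,true)],5,false,[0,2,0,3,3,0,2,0,2,2,0,3,0,2,2,0,3,0,3,3,1,3]⟩,
    ⟨[],204,false,[0,3,0,2,0,3,3,0,3,3,0,2,0,2,2,0,2,0,3,0,3,1,3,3]⟩,
    ⟨[],348,true,[2,0,2,0,2,0,3,0,3,0,2,2,2,0,3,0,3,0,2,2]⟩,
    ⟨[(350,false),(355,false)],7,true,[3,0,3,1]⟩,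
    ⟨[(342,false)],192,false,[0,2,0,2,2,0,2,2,0,2,0,2,0,2,2,2]⟩,
    ⟨[(125,false),(102,false),(125,false)],192,true,[2,2,0,2,0,3,3,0,3,0,3,0,3,3,0,2,2,2,0,3,0,3,3]⟩,
    ⟨[(333,true)],243,false,[2,0,3,0,3,3,0,2,2,1]⟩,
    ⟨[(151,false),(343,false)],205,false,[0,2,0,3,3,0,2,2,0,3,3,0,3,0,3,3,0,2,2,2,1]⟩,
    ⟨[(166,false),(140,false)],108,false,[3,0,2,2,2,0,3,3,0,3,0,3,3,0,3,0,2,0,2,1]⟩,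
    ⟨[],167,false,[0,2,2,0,3,3,0,3,0,2,2,0,2,0,3,0,3,0,2,0,2]⟩,
    ⟨[],0,true,[3,3,0,3,3,0,2,0,2,2,0,2,0,3,0,3,0,3,0,2,2]⟩]),
  ([1,1,0,0,1,0,1,0,0], [⟨[(9,true),(10,false),(8,true),(9,false),(9,false),(10,false),(8,false)],0,false,[3,3,0,3,0,3,0,2,0,3,3,0,3,3,1]⟩,
    ⟨[(48,true),(42,true),(48,true),(42,true)],174,true,[3,0,2,0,2,0,2,2,0,2,0,3,3,0,3,0,2,1]⟩,
    ⟨[],4,true,[3,0,2,0,2,0,2,2,2,0,3,0,2,2,0,3,0,2,2,1]⟩,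
    ⟨[(42,false),(48,true),(42,true),(48,true)],167,true,[0,2,2,0,3,0,3,0,3,3,0,2,2,0,3,3,0,3,0,2,0,2]⟩,
    ⟨[(125,true)],159,true,[2,0,3,3,0,2,2,0,2,0,2,0,3,0,2,2,2,0,3,0,2,2]⟩,
    ⟨[(366,true)],275,true,[3,0,3,3,0,2,2,2,0,3,0,3,3,0,2,0,2,2,0,2,0,2,2,2]⟩,
    ⟨[(344,false)],227,true,[2,2,0,2,0,3,3,0,2,0,2,2,0,2,0,2,2,0,3,3,0]⟩,
    ⟨[(343,false)],165,false,[2,0,3,3,0,3,0,2,0,2,0,2,2,0,2,2,0,2,2,1]⟩,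
    ⟨[(166,false),(140,false)],108,false,[2,0,2,2,0,3,3,0,2,0,2,2,0,2,2,0]⟩,
    ⟨[],167,false,[0,2,0,2,0,3,0,3,3,0,3,0,2,2,0,2,2,0,2,0,2,2]⟩,
    ⟨[],0,true,[0,2,2,0,3,0,2,2,2,0,2,0,2,2,0,3,3,0,3,0,2,2]⟩])]

/-- vectors of step 9 -/
def orb2_9 : List (List ℕ) := [
  [0,25,0,9,16,17,3,0,18,0,12,17,16,7,9,15,25,20,22,0,11,4,7,23,17,20,7,19,13,24,24,1,25,12,14,12,10,23,19,16,25,24,13,23,12,26,20,6,12,6,27,2,5,4,21,6,9,10,9,2,16,24,10,15,26,26,2,26,27,24,23,17,5,0,9,20,27,0,14,21,8,11,15,16,26,23,6,11,13,18,0,0,0,0,13,0,16,19,3,11,0,26,5,0,1,20,28,26,23,0,0,9,0,22,26,3,0,1,7,11,12,21,19,22,23,28,4,20,6,0,3,12,6],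
  [18,24,18,0,1,17,1,14,8,14,7,3,1,22,11,0,4,16,18,9,14,15,19,19,20,23,19,6,12,22,22,21,15,14,2,14,3,2,6,26,15,22,12,10,17,6,20,13,14,10,9,2,14,18,1,10,25,6,17,2,1,27,6,27,6,11,18,1,9,27,10,3,14,11,17,7,9,0,0,27,22,5,0,10,3,4,25,21,28,8,0,5,0,0,19,0,1,14,26,20,0,6,24,0,10,10,14,20,3,0,6,19,0,13,3,9,0,10,16,21,2,6,8,8,12,19,14,2,26,0,26,3,17],
  [18,9,12,7,26,8,27,6,5,13,22,16,2,4,22,12,10,3,18,13,16,12,17,0,6,17,12,25,17,25,6,24,4,6,13,22,24,21,22,12,19,10,17,25,14,0,15,26,28,26,5,25,12,27,5,15,22,26,25,16,2,24,16,18,26,13,6,20,20,24,16,22,5,17,28,11,24,9,12,6,12,22,24,2,23,24,17,10,22,23,13,0,28,18,4,17,13,1,16,6,6,0,26,15,16,0,16,27,13,4,26,21,10,17,16,22,15,14,8,13,20,28,22,10,13,17,17,8,12,22,9,9,20],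
  [26,22,18,28,27,13,12,19,11,2,11,7,12,0,7,8,3,0,27,22,7,9,11,28,18,18,22,9,27,10,19,19,23,19,3,22,14,4,9,2,24,12,19,17,19,5,28,3,7,26,2,12,4,24,3,15,3,3,17,15,5,17,23,8,17,22,28,3,0,9,1,2,16,4,17,9,22,17,14,6,12,24,18,15,15,28,27,2,24,14,18,12,23,3,21,4,12,8,5,24,25,27,26,11,9,14,21,10,27,4,20,7,10,21,5,15,24,27,1,9,7,26,12,18,26,12,14,12,7,14,0,13,24],
  [12,20,18,7,26,13,5,13,11,6,2,16,2,27,1,6,11,3,24,13,5,12,12,12,12,23,17,22,17,6,25,1,19,17,13,11,24,21,25,12,4,21,17,20,14,17,21,26,6,15,10,16,5,27,18,26,22,16,28,25,2,24,26,3,28,24,13,14,24,24,8,16,12,17,25,20,20,20,5,19,4,23,17,25,13,12,5,28,16,20,16,23,1,11,27,12,7,22,6,24,23,2,18,14,10,8,15,7,17,25,21,0,19,21,20,2,14,12,12,17,23,7,26,22,9,15,22,17,16,7,13,13,16],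
  [18,11,26,28,27,4,2,2,19,19,1,7,12,21,1,0,7,0,6,22,18,9,22,7,26,13,11,9,19,19,10,27,24,8,3,4,14,4,9,2,23,17,27,11,19,27,7,3,24,15,20,15,16,24,13,26,3,23,17,12,5,9,3,13,11,4,20,24,22,17,23,23,4,4,17,28,0,12,11,8,1,8,15,8,24,2,1,15,17,12,11,5,6,26,14,25,5,26,14,23,4,19,15,18,2,22,5,14,22,25,20,15,19,28,0,19,5,17,8,4,21,5,7,27,5,2,17,16,2,15,24,23,3],
  [16,10,16,7,12,7,5,7,26,7,1,12,5,15,7,24,20,2,16,4,16,18,25,12,12,18,25,5,3,25,25,27,23,4,19,26,13,26,5,25,23,25,3,11,24,5,11,11,7,15,23,13,7,6,26,15,20,23,27,13,21,14,23,21,10,6,10,5,23,14,16,11,7,3,27,10,23,0,3,7,3,19,26,25,26,12,17,28,19,8,0,2,0,0,4,0,10,5,3,24,0,9,1,0,17,7,9,1,23,0,2,22,0,4,13,28,0,10,25,20,4,5,16,28,22,19,16,25,6,0,16,14,7],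
  [18,11,18,15,7,17,23,21,26,21,16,17,0,18,20,27,7,16,5,25,23,2,10,21,12,25,10,0,23,6,6,14,7,13,13,6,18,2,0,17,7,6,23,6,17,2,12,28,26,13,8,5,13,28,3,13,25,12,1,5,10,2,12,16,23,22,27,3,8,2,27,24,13,9,1,14,8,0,12,26,23,0,17,6,16,1,28,5,28,19,0,17,0,0,23,0,1,19,13,9,0,23,24,0,2,1,4,11,8,0,21,28,0,19,3,18,0,24,10,26,27,25,6,8,12,5,22,6,21,0,26,0,17]]

/-- relations of step 10 -/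
def rels2_10 : List (List ℕ × List Use) := [
  ([0,1,0,0,1,0,0,0,0,0], [⟨[(9,true),(10,false),(9,true),(10,false),(8,false),(9,true),(9,true),(10,false),(8,false)],0,false,[2,0,3,3,0,3,0,3,0,2,0,2,2,2,0,3,0,2,2,1,2,2]⟩,
    ⟨[(48,true),(48,true),(42,true),(48,false)],174,true,[2,0,2,0,2,0,3,3,0,3,0,2,0,2,0,3,0,3,3,0,2,1,2]⟩,
    ⟨[(184,true)],191,true,[2,2,0,3,3,0,2,2,0,2,0,2,2,2,0,2,2,0]⟩,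
    ⟨[(151,false),(343,true),(339,true)],133,false,[2,2,2,0,2,0,2,0,3,0,3,0,3,0,2,2,0,2,0,2,2]⟩,
    ⟨[(343,true),(339,true)],259,false,[0,2,2,0,3,3,0,3,3,0,2,2,0,3,0]⟩,
    ⟨[(166,false),(140,false)],108,false,[2,2,2,0,2,2,0,3,0,3,3,0,2,2,0,3,3,0,3]⟩,
    ⟨[],167,false,[0,3,0,3,0,2,2,0,3,0,2,2,0,3,0,3,3,0,3,0,3,0,2,1]⟩,
    ⟨[],0,true,[0,2,0,3,0,3,0,2,0,2,2,2,0,3,3,0,3,3,0,2,2]⟩]),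
  ([0,1,0,0,0,0,1,0,1,1], [⟨[(9,true),(10,false),(9,true),(10,false),(8,false),(9,true),(9,true),(10,false),(8,false)],0,false,[2,0,3,3,0,3,0,3,0,2,0,2,2,2,0,3,0,2,2,1,2,2]⟩,
    ⟨[(48,true),(48,true),(42,true),(48,false)],174,true,[2,0,2,0,2,0,3,3,0,3,0,2,0,2,0,3,0,3,3,0,2,1,2]⟩,
    ⟨[(358,false),(357,true)],150,false,[2,0,2,0,3,3,0,3,3,0,3,3,0,2,0,3,3,0,3,0,2]⟩,
    ⟨[(366,true)],175,false,[2,2,0,2,0,2,2,0,2,2,0,2,2,0,3,1,2,2,2]⟩,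
    ⟨[(178,true),(178,true),(122,false)],236,true,[0,2,2,2,0,2,2,0,3,0,3,3,0,2,2,0,2,0,3,0,3,0,3,1,2]⟩,
    ⟨[(333,false)],227,true,[0,2,0,2,0,3,3,0,3,0,2,0,2,0,3,0,3,3,0,2,1,3]⟩,
    ⟨[(343,false),(343,false),(339,false)],263,false,[0,2,0,2,2,0,2,0,3,3,0,3,3,0,3,0,2,2,2,1,3]⟩,
    ⟨[(344,false)],194,false,[2,0,2,0,2,0,3,0,3,0,3,0,2,0,2,2,0,2,0,2,2,0]⟩,
    ⟨[(178,false)],44,true,[3,0,3,0,2,2,2,0,2,0,3,3,0,2,0,2,2,0,2,0,2]⟩,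
    ⟨[(48,false)],13,true,[3,3,0,2,0,2,0,2,2,2,0,3,3,0,3,1]⟩,
    ⟨[],0,true,[0,3,0,3,0,2,2,0,2,2,0,2,2,0,2,0,3,0,3,3]⟩]),
  ([1,1,0,1,1,1,1,0,0,0], [⟨[(9,true),(10,false),(9,true),(10,false),(8,false),(9,true),(9,true),(10,false),(8,false)],0,false,[2,0,3,3,0,3,0,3,0,2,0,2,2,2,0,3,0,2,2,1,2,2]⟩,
    ⟨[(48,true),(48,true),(42,true),(48,false)],174,true,[2,0,2,0,2,0,3,3,0,3,0,2,0,2,0,3,0,3,3,0,2,1,2]⟩,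
    ⟨[(358,false)],198,false,[3,3,0,3,3,0,2,2,0,2,0,2,2,0,3,1,3]⟩,
    ⟨[(342,true),(344,false)],152,false,[2,0,2,2,0,3,3,0,2,2,0,2,0,3,3,0,2,0,2,2,2,0,2]⟩,
    ⟨[(343,false),(339,false)],190,false,[0,2,2,2,0,2,2,2,0,2,0,3,3,0,3,3,0,2,2,2]⟩,
    ⟨[(99,true),(99,true)],222,true,[3,3,0,2,0,2,0,2,2,2,0,3,3,0,3,1]⟩,
    ⟨[],194,false,[0,2,0,2,2,0,3,3,0,2,2,0,2,0,3,0,3,3,1,3]⟩,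
    ⟨[(178,true),(122,true)],5,false,[0,3,3,0,3,0,2,2,2,0,3,3,0,3,0,3,0,2,2]⟩,
    ⟨[],204,false,[0,3,3,0,3,0,3,0,2,0,2,0,2,2,0,2,2,2,0,3,3]⟩,
    ⟨[(344,false),(333,false)],346,true,[2,2,0,3,0,3,0,3,0,2,0,2,0,2,0,3,0,3,0,2,1]⟩,
    ⟨[(363,true),(361,true)],345,false,[3,0,3,0,2,2,2,0,3,3,0,2,0,3,3,0,2,0,2,1,2,2]⟩,
    ⟨[],283,false,[0,2,2,0,3,3,0,3,0,3,0,2,0,2,2,2,0,3,1,2,2]⟩,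
    ⟨[(122,true),(125,true)],194,true,[3,0,3,3,0,2,2,0,3,0,3,3,0,2,2,0,2,0,3,3,0]⟩,
    ⟨[(344,false),(333,false)],180,true,[2,0,2,0,3,0,3,0,3,3,0,3,3,0,3,0,3,3,0,2,2]⟩,
    ⟨[(343,true),(151,false),(343,true)],158,false,[0,2,2,0,2,2,0,3,0,3,0,3,0,2,0,3,3,0,2,0,2,2,0,3,3]⟩,
    ⟨[(140,false)],108,false,[0,2,0,3,0,3,0,3,0,2,0,2,2,0,2,0,3,3,0,3,3,0,2]⟩,
    ⟨[],167,false,[3,0,3,3,0,2,2,0,3,3,0,3,0]⟩,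
    ⟨[],0,true,[0,2,0,3,3,0,3,3,0,2,2,0,2,0,2,0,2,2,2,0,3]⟩]),
  ([1,1,1,0,1,1,1,0,0,0], [⟨[(9,true),(10,false),(9,true),(10,false),(8,false),(9,true),(9,true),(10,false),(8,false)],0,false,[2,0,3,3,0,3,0,3,0,2,0,2,2,2,0,3,0,2,2,1,2,2]⟩,
    ⟨[(48,true),(48,true),(42,true),(48,false)],174,true,[2,0,2,0,2,0,3,3,0,3,0,2,0,2,0,3,0,3,3,0,2,1,2]⟩,
    ⟨[(365,false)],255,true,[0,2,0,2,0,3,0,3,0,3,3,0,2,2,0,2,0,3,0,3,0,3]⟩,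
    ⟨[(339,true)],143,false,[2,2,0,2,2,2,0,2,0,3,3,0,2,0,2,2,0,2,0,2,2,0,3]⟩,
    ⟨[(339,false),(343,true),(339,false)],197,true,[0,3,0,2,2,0,3,3,0,3,0,3,0,2,0,2,2,2,0,2,0]⟩,
    ⟨[(333,false)],256,false,[2,2,2,0,3,3,0,2,2,0,3,3,0,3,0,3,3,0,2,1]⟩,
    ⟨[(333,false)],289,false,[3,0,3,0,2,2,0,2,0,3,0,3,3,0,2,2,0,2,0]⟩,
    ⟨[(140,true),(166,false),(132,false)],6,false,[0,2,2,2,0,2,2,0,2,0,3,0,2,2,0,2,2,0,2,2,0,3]⟩,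
    ⟨[(339,false)],255,false,[0,2,0,2,2,2,0,2,0,2,0,3,0,3,3,0,2,2,2,1]⟩,
    ⟨[(368,true),(357,true)],208,true,[0,2,0,2,0,2,2,0,3,3,0,3,0,3,0,3,3,0,3,0,2,2,1,3]⟩,
    ⟨[],194,false,[3,0,2,0,2,2,2,0,2,0,2,0,2,2,0,3,3,0,2,2,1]⟩,
    ⟨[(122,false),(102,false),(125,true)],159,true,[2,0,2,0,3,3,0,3,0,2,0,2,0,3,0,3,3,0,3,0,2,2,1,2]⟩,
    ⟨[(366,true)],275,true,[2,2,2,0,2,0,2,0,3,0,3,0,2,2,0,2,0,3,0,3,3]⟩,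
    ⟨[(342,false),(333,false)],230,false,[0,2,0,2,2,2,0,2,2,0,2,0,2,2,0,3,3,0,2,2,1,2,2]⟩,
    ⟨[(339,true)],162,false,[2,2,0,3,3,0,3,0,2,0,2,0,3,3,0,3,0,3,1,2]⟩,
    ⟨[(166,false),(140,false)],108,false,[3,3,0,2,2,0,2,0,2,0,2,2,0,2,0,3,0,3,1,3]⟩,
    ⟨[],167,false,[3,3,0,3,3,0,2,0,2,2,0,3,3,0,2,0,3,3,1]⟩,
    ⟨[],0,true,[0,2,2,0,2,2,0,2,0,3,3,0,2,0,3,3,0,3,0,2,2,2]⟩]),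
  ([1,1,0,0,0,0,1,0,1,1], [⟨[(9,true),(10,false),(9,true),(10,false),(8,false),(9,true),(9,true),(10,false),(8,false)],0,false,[2,0,3,3,0,3,0,3,0,2,0,2,2,2,0,3,0,2,2,1,2,2]⟩,
    ⟨[(48,true),(48,true),(42,true),(48,false)],174,true,[2,0,2,0,2,0,3,3,0,3,0,2,0,2,0,3,0,3,3,0,2,1,2]⟩,
    ⟨[(358,false)],208,true,[0,3,3,0,2,0,2,2,0,3,3,0,2,2,0,3,3,0,3,1,3]⟩,
    ⟨[(333,false),(342,true)],224,false,[3,0,2,0,2,2,0,3,0,3,0,2,0,2,2,0,2,0,3]⟩,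
    ⟨[(339,false),(343,false)],149,false,[2,0,3,0,3,3,0,2,2,0,2,0,3,3,0,2,0,2,2,0,3]⟩,
    ⟨[(339,true),(343,true),(339,true)],200,false,[3,0,3,0,2,2,0,3,0,2,2,0,2,2,1]⟩,
    ⟨[(366,true),(358,true)],150,false,[2,2,0,3,0,3,0,2,0,2,0,2,1,3,3]⟩,
    ⟨[(184,true)],159,false,[3,0,2,0,2,0,3,0,2,2,2,0,2,2,0,3,0,3,3,0,2,2]⟩,
    ⟨[(125,true),(178,true),(102,false)],192,true,[2,0,2,0,3,3,0,2,2,2,0,3,0,3,3,0,3,0,3,0,2,2]⟩,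
    ⟨[(344,false),(342,false)],207,false,[2,2,0,2,0,3,0,3,0,2,0,2,2,0,2,0,2,1,3]⟩,
    ⟨[(339,false),(339,false)],307,true,[3,0,2,0,2,0,3,0,3,0,2,0,2,2,0,2,0,2]⟩,
    ⟨[],283,false,[0,2,2,0,2,0,3,0,3,3,0,2,2,0,2,0,3,1,2]⟩,
    ⟨[(178,false)],44,true,[3,0,3,0,3,0,2,0,2,0,2,2,0,2,2,0,2,2,2,0,3]⟩,
    ⟨[(48,false)],13,true,[3,0,3,0,2,0,2,2,0,3,3,0,3,0,3,3,0,3,0,2,2,0,3,1]⟩,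
    ⟨[],0,true,[3,3,0,3,3,0,3,0,3,0,2,2,0,2,1]⟩]),
  ([0,0,0,0,0,0,1,0,0,0], [⟨[(9,true),(10,false),(9,true),(10,false),(8,false),(9,true),(9,true),(10,false),(8,false)],0,false,[2,0,3,3,0,3,0,3,0,2,0,2,2,2,0,3,0,2,2,1,2,2]⟩,
    ⟨[(48,true),(48,true),(42,true),(48,false)],174,true,[2,0,2,0,2,0,3,3,0,3,0,2,0,2,0,3,0,3,3,0,2,1,2]⟩,
    ⟨[(366,true),(184,false)],163,false,[2,2,0,2,0,3,0,2,2,0,2,0,3,3,0,2,0,3,3,1,2]⟩,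
    ⟨[(359,true)],264,true,[3,0,3,0,2,0,2,2,0,3,0,3,0,3,0,2,0,2,0,2,2,2,0]⟩,
    ⟨[(342,false),(344,false)],182,true,[0,2,0,2,2,0,3,0,3,3,0,3,0,3,1,3]⟩,
    ⟨[(99,true)],183,false,[0,2,0,3,0,2,2,0,3,3,0,3,3,0,3,0,3,0,2,0,2]⟩,
    ⟨[(359,false),(99,false)],159,false,[3,0,2,0,2,2,0,3,3,0,3,0,2,0,2,0,2,0,3,0,3,1]⟩,
    ⟨[(178,false)],44,true,[2,0,3,3,0,2,0,2,0,2,2,0,3,3,0,3,3,0,2,0,2,2,2]⟩,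
    ⟨[(48,false)],13,true,[0,2,2,2,0,2,0,3,0,3,3,0,2,0,2,2,0,2,0,3]⟩,
    ⟨[],0,true,[0,2,0,3,0,2,2,0,2,2,0,2,0,2,2,0,3,0,3]⟩]),
  ([1,1,1,1,1,1,0,0,0,0], [⟨[(9,true),(10,false),(9,true),(10,false),(8,false),(9,true),(9,true),(10,false),(8,false)],0,false,[2,0,3,3,0,3,0,3,0,2,0,2,2,2,0,3,0,2,2,1,2,2]⟩,
    ⟨[(48,true),(48,true),(42,true),(48,false)],174,true,[2,0,2,0,2,0,3,3,0,3,0,2,0,2,0,3,0,3,3,0,2,1,2]⟩,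
    ⟨[(99,true)],332,true,[0,3,0,3,3,0,2,0,3,3,0,2,0,2,0,2,0,3,1,2,2,2]⟩,
    ⟨[(339,false),(151,false),(339,true)],263,false,[0,3,0,2,2,2,0,3,0,3,3,0,2,0,2,2,0,2,0]⟩,
    ⟨[(333,false),(344,false)],203,false,[0,2,2,0,3,0,2,2,0,3,0,3,0,3,0,3,3,0,3]⟩,
    ⟨[(365,false)],210,true,[2,2,0,2,2,0,2,0,2,2,2,0,2,2,0,2,0,2,2,1,3]⟩,
    ⟨[],247,false,[2,2,0,2,2,0,2,0,2,0,2,2,2,0,3,1,3]⟩,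
    ⟨[(102,false),(122,false)],247,true,[3,0,2,2,0,2,0,2,0,3,0,3,1,2,2]⟩,
    ⟨[(342,false)],204,false,[0,3,3,0,3,0,3,0,2,0,2,0,2,2,0,2,2,2,0,3,3]⟩,
    ⟨[(344,false),(333,false)],346,true,[2,2,0,3,0,3,0,3,0,2,0,2,0,2,0,3,0,3,0,2,1]⟩,
    ⟨[(363,true),(361,true)],345,false,[3,0,3,0,2,2,2,0,3,3,0,2,0,3,3,0,2,0,2,1,2,2]⟩,
    ⟨[],283,false,[0,2,2,0,3,3,0,3,0,3,0,2,0,2,2,2,0,3,1,2,2]⟩,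
    ⟨[(122,true),(125,true)],194,true,[3,0,3,3,0,2,2,0,3,0,3,3,0,2,2,0,2,0,3,3,0]⟩,
    ⟨[(344,false),(333,false)],180,true,[2,0,2,0,3,0,3,0,3,3,0,3,3,0,3,0,3,3,0,2,2]⟩,
    ⟨[(343,true),(151,false),(343,true)],158,false,[0,2,2,0,2,2,0,3,0,3,0,3,0,2,0,3,3,0,2,0,2,2,0,3,3]⟩,
    ⟨[(140,false)],108,false,[0,2,0,3,0,3,0,3,0,2,0,2,2,0,2,0,3,3,0,3,3,0,2]⟩,
    ⟨[],167,false,[3,0,3,3,0,2,2,0,3,3,0,3,0]⟩,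
    ⟨[],0,true,[0,2,0,3,3,0,3,3,0,2,2,0,2,0,2,0,2,2,2,0,3]⟩]),
  ([1,0,0,1,0,1,0,1,0,0], [⟨[(9,true),(10,false),(9,true),(10,false),(8,false),(9,true),(9,true),(10,false),(8,false)],0,false,[2,0,3,3,0,3,0,3,0,2,0,2,2,2,0,3,0,2,2,1,2,2]⟩,
    ⟨[(48,true),(48,true),(42,true),(48,false)],174,true,[2,0,2,0,2,0,3,3,0,3,0,2,0,2,0,3,0,3,3,0,2,1,2]⟩,
    ⟨[(359,true)],266,true,[2,0,2,2,0,2,2,0,3,3,0,2,2,0,2,0,3,3,0,2,1,2,2]⟩,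
    ⟨[(333,true)],188,false,[3,0,2,0,2,2,0,3,3,0,2,0,2,2,0,2,0,3,3,0,3,0,2]⟩,
    ⟨[],335,false,[2,2,0,3,0,3,3,0,2,0,2,2,0,2,0,3,3,0,2,0]⟩,
    ⟨[(344,false)],216,false,[2,0,3,0,3,3,0,2,0,2,2,0,3,3,0,2,0,2,2,0,2,1,3]⟩,
    ⟨[],306,false,[0,2,0,3,0,2,2,0,2,0,2,2,2,0,2,0,3,1,3,3]⟩,
    ⟨[(366,true),(126,false)],159,false,[2,0,2,0,2,0,2,2,0,2,0,3,0,2,2,0,3,1,2,2,2]⟩,
    ⟨[(122,false),(178,false),(178,false)],159,true,[2,0,2,0,2,2,0,2,2,2,0,3,3,0,2,1]⟩,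
    ⟨[(366,true)],275,true,[0,3,3,0,2,0,2,2,0,2,2,0,2,0,2,0,3,0]⟩,
    ⟨[(342,true),(344,false)],263,true,[2,2,0,2,2,0,3,3,0,2,0,2,2,0,2,0,2,2,2,0,2,2,0]⟩,
    ⟨[(343,true),(343,true)],158,false,[2,0,2,0,2,0,3,0,3,0,3,0,2,0,2,2,1]⟩,
    ⟨[(140,false)],108,false,[3,3,0,3,3,0,2,2,0,2,0,2,2,0,3,0,2,2]⟩,
    ⟨[],167,false,[0,2,2,0,2,0,2,0,2,2,0,2,2,0,2,2,0,2,2,0,2,0,2]⟩,
    ⟨[],0,true,[0,2,0,2,2,0,3,3,0,3,3,0,3,0,2,2,0,2,2,2,0]⟩]),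
  ([0,0,1,1,0,1,0,0,0,1], [⟨[(9,true),(10,false),(9,true),(10,false),(8,false),(9,true),(9,true),(10,false),(8,false)],0,false,[2,0,3,3,0,3,0,3,0,2,0,2,2,2,0,3,0,2,2,1,2,2]⟩,
    ⟨[(48,true),(48,true),(42,true),(48,false)],174,true,[2,0,2,0,2,0,3,3,0,3,0,2,0,2,0,3,0,3,3,0,2,1,2]⟩,
    ⟨[(359,true)],213,true,[0,3,3,0,3,0,2,0,2,0,3,0,3,3,0,2,0,2,0,3,0]⟩,
    ⟨[(339,true),(339,true),(339,true)],134,true,[0,2,0,3,3,0,3,0,2,2,0,3,0,3,3,0,3,0,2,2,0,2,0,2]⟩,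
    ⟨[(356,true)],254,true,[0,2,0,2,2,0,3,0,2,2,0,3,0,3,3,0,2,2,1,2]⟩,
    ⟨[(333,false)],338,false,[2,2,2,0,3,0,3,0,2,0,2,2,0,2,2,1,2]⟩,
    ⟨[(359,true)],327,true,[0,3,0,3,0,3,0,2,0,2,2,2,0]⟩,
    ⟨[],247,false,[0,2,0,2,0,2,2,0,2,0,3,0,3,3,0,2,2,1,2,2]⟩,
    ⟨[(122,false),(125,false),(125,false),(122,true)],159,true,[3,0,2,2,0,2,0,3,0,3,0,2,0,2,2,0,3,0,3,0,2,1,3,3]⟩,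
    ⟨[(366,true)],275,true,[3,3,0,3,0,2,2,0,3,0,2,2,2,0,3,3,1,2]⟩,
    ⟨[(344,false),(333,false)],207,false,[2,0,3,3,0,2,0,2,2,0,2,0,3,3,0,3,0,3,3,1,3]⟩,
    ⟨[(339,true)],165,false,[0,3,3,0,3,0,3,0,3,3,0,3,0,2,0,2,2,0,3,0,3,0]⟩,
    ⟨[(140,false)],108,false,[0,3,3,0,2,2,0,2,0,2,0,3,0,2,2,0,3,3,1,3]⟩,
    ⟨[],167,false,[0,3,0,3,0,3,0,2,2,2,0,3,0,3,0,2,0,2,2,0,3]⟩,
    ⟨[],0,true,[0,2,0,2,2,2,0,3,0,2,2,0,2,2,0,2,2,0,2,2,2,0,3]⟩]),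
  ([0,0,1,1,0,1,0,0,1,0], [⟨[(9,true),(10,false),(9,true),(10,false),(8,false),(9,true),(9,true),(10,false),(8,false)],0,false,[2,0,3,3,0,3,0,3,0,2,0,2,2,2,0,3,0,2,2,1,2,2]⟩,
    ⟨[(48,true),(48,true),(42,true),(48,false)],174,true,[2,0,2,0,2,0,3,3,0,3,0,2,0,2,0,3,0,3,3,0,2,1,2]⟩,
    ⟨[(126,true)],200,true,[3,0,3,0,2,2,0,2,2,0,3,3,0,2,2,0,2,0,2,1,2,2]⟩,
    ⟨[(343,false),(343,false),(339,false)],284,true,[0,3,0,2,2,2,0,2,0,3,3,0,3,3,0]⟩,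
    ⟨[(344,false),(342,true)],197,false,[2,0,2,0,3,0,3,3,0,3,0,2,2,0,3,0,3,3,0,3,1,2,2,2]⟩,
    ⟨[(339,true),(151,false),(339,true)],161,false,[3,0,2,2,0,2,0,3,3,0,2,0,3,3,0,2,0,2,0,2,2]⟩,
    ⟨[(356,true)],327,true,[3,0,2,2,2,0,3,0,3,0,2,2,2,0,2,0,3,0,3,1,3]⟩,
    ⟨[],247,false,[2,0,2,2,0,2,0,3,0,3,3,0,2,2,0,2,0,2,2,2,1,3]⟩,
    ⟨[(122,false),(125,false),(178,true)],159,true,[2,0,2,0,3,0,3,3,0,2,0,2,0,2,2,0,2,0]⟩,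
    ⟨[(366,true)],275,true,[0,3,0,3,0,3,3,0,2,2,2,0,2,0,2,0,3,0]⟩,
    ⟨[(342,true),(344,false)],263,true,[0,2,0,2,0,2,2,2,0,2,0,3,0,3,0,3,3,0,2,0,2,2,1]⟩,
    ⟨[(339,true),(151,false)],165,false,[2,0,3,0,3,0,3,0,2,0,2,2,0,2,2,2,0,2,1]⟩,
    ⟨[(166,false),(140,false)],108,false,[2,2,2,0,2,0,2,2,0,2,0,3,0,3,0,3]⟩,
    ⟨[],167,false,[0,2,0,3,3,0,3,0,3,3,0,2,2,0,3,3,0,3,3,0,3,0]⟩,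
    ⟨[],0,true,[0,2,0,3,0,2,2,0,3,0,2,2,2,0,3,3,0,3,0,3,0,3,3,1]⟩]),
  ([0,0,0,0,0,0,1,0,1,1], [⟨[(8,true),(9,false),(9,false),(10,false),(9,false),(10,false),(9,false),(10,false),(8,false)],0,false,[0,3,0,2,2,2,0,2,2,0,3,3,0,2,2,1,2]⟩,
    ⟨[(42,false),(48,true),(42,false),(48,false),(48,false)],4,false,[2,2,0,3,3,0,2,0,3,3,0,2,0,2,0,2,0,3,0,2,2,2]⟩,
    ⟨[(99,true),(356,true)],150,false,[2,2,0,3,0,3,0,2,0,2,0,2,1,3,3]⟩,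
    ⟨[(184,true)],159,false,[3,0,2,0,2,0,3,0,2,2,2,0,2,2,0,3,0,3,3,0,2,2]⟩,
    ⟨[(125,true),(178,true),(102,false)],192,true,[2,0,2,0,3,3,0,2,2,2,0,3,0,3,3,0,3,0,3,0,2,2]⟩,
    ⟨[(344,false),(342,false)],207,false,[2,2,0,2,0,3,0,3,0,2,0,2,2,0,2,0,2,1,3]⟩,
    ⟨[(339,false),(339,false)],307,true,[3,0,2,0,2,0,3,0,3,0,2,0,2,2,0,2,0,2]⟩,
    ⟨[],283,false,[0,2,2,0,2,0,3,0,3,3,0,2,2,0,2,0,3,1,2]⟩,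
    ⟨[(178,false)],44,true,[3,0,3,0,3,0,2,0,2,0,2,2,0,2,2,0,2,2,2,0,3]⟩,
    ⟨[(48,false)],13,true,[3,0,3,0,2,0,2,2,0,3,3,0,3,0,3,3,0,3,0,2,2,0,3,1]⟩,
    ⟨[],0,true,[3,3,0,3,3,0,3,0,3,0,2,2,0,2,1]⟩])]

/-- vectors of step 10 -/
def orb2_10 : List (List ℕ) := [
  [20,3,20,28,23,18,11,19,16,19,28,16,13,25,11,10,0,4,11,13,17,17,14,12,14,24,14,16,1,13,13,7,19,12,15,2,8,3,16,21,19,13,1,14,11,2,7,0,16,20,5,6,7,26,6,20,26,6,21,6,8,21,6,10,4,24,16,18,5,21,16,4,7,14,21,6,5,0,26,8,25,21,3,11,2,9,20,8,15,12,0,12,0,0,18,0,14,25,27,21,0,21,17,0,18,19,21,0,11,0,0,10,0,0,27,0,0,27,0,10,0,14,0,25,12,2,20,9,18,0,2,0,17]]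

/-- relations of step 11 -/
def rels2_11 : List (List ℕ × List Use) := [
  ([1,0,1,1,0,0,0,0,0,0,0], [⟨[(8,false),(9,false),(9,false),(8,false),(9,false),(9,false),(10,false),(8,false)],0,false,[0,2,0,2,2,0,2,1,3]⟩,
    ⟨[(48,true),(42,true),(48,true),(42,true),(48,false),(42,true)],174,true,[0,2,2,2,0,3,0,3,0,3,3,0,2,0,2,0,3,0,3,0,3,1]⟩,
    ⟨[(358,false)],54,true,[3,0,2,0,2,0,2,0,3,0,2,2,0,2,0,3,1,3]⟩,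
    ⟨[(118,true)],165,true,[2,0,3,0,3,3,0,3,0,2,2,0,2,0,2,0,3,0,2,2,2,0,2,2,0]⟩,
    ⟨[(339,true),(343,true)],160,false,[2,0,3,0,3,0,3,3,0,3,0,3,0,2,0,2,1,3]⟩,
    ⟨[(140,false)],108,false,[0,3,0,2,2,2,0,3,3,0,3,0,3,3,0,2,2,2]⟩,
    ⟨[],167,false,[2,2,0,2,2,0,2,0,3,0,2,2,0,2,2]⟩,
    ⟨[],0,true,[0,2,0,2,2,0,3,3,0,3,0,3,3,1,2,2,2]⟩]),
  ([0,0,0,0,1,0,1,0,1,1,0], [⟨[(8,false),(9,false),(9,false),(8,false),(9,false),(9,false),(10,false),(8,false)],0,false,[0,2,0,2,2,0,2,1,3]⟩,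
    ⟨[(48,true),(42,true),(48,true),(42,true),(48,false),(42,true)],174,true,[0,2,2,2,0,3,0,3,0,3,3,0,2,0,2,0,3,0,3,0,3,1]⟩,
    ⟨[(184,true),(357,false)],198,false,[3,3,0,2,2,0,3,0,2,2,0,3,0,3,3,0,3,0,3,0]⟩,
    ⟨[(333,false)],233,false,[2,2,0,3,0,2,2,0,3,3,0,3,0,3,1,3,3]⟩,
    ⟨[(125,false),(178,false)],95,false,[2,0,2,0,2,2,0,3,3,0,2,2,0,2,2,0,2,2,0,3,1]⟩,
    ⟨[(132,true),(166,false)],160,true,[0,2,2,0,2,2,0,2,2,0,2,0,3,3,0,2,0,2,2,2,0]⟩,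
    ⟨[(339,false)],180,false,[2,2,2,0,2,0,2,0,2,2,0,2,0,2,2,0]⟩,
    ⟨[(342,false)],192,false,[3,0,2,0,2,0,3,0,2,2,2,0,2,2,2,0,2,0,2,1]⟩,
    ⟨[(102,false),(125,false)],159,true,[2,0,3,0,2,2,0,2,0,2,2,0,2,0,3,0,3,0,2]⟩,
    ⟨[(366,true)],275,true,[0,2,0,3,3,0,3,0,2,2,0,2,2,0,2,0,3,3,0,2]⟩,
    ⟨[(342,false),(333,false)],230,false,[3,0,2,0,3,3,0,2,0,2,2,0,2,0,3,3,0,2,1]⟩,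
    ⟨[(339,true),(151,false)],162,false,[2,2,2,0,3,0,2,2,0,3,3,0,3,0,3,0,2]⟩,
    ⟨[(140,false)],108,false,[0,3,0,3,0,3,0,2,0,3,3,0,3,0,2,0,2,2,0,2,2,0]⟩,
    ⟨[],167,false,[2,2,2,0,2,0,3,3,0,3,0,3,0,2,0,2,2,2,0,2,0,2,0]⟩,
    ⟨[],0,true,[0,2,2,0,2,0,2,0,3,0,2,2,2,0,3,0,3,3,0,2,2]⟩]),
  ([1,1,0,1,1,1,1,0,0,0,0], [⟨[(8,false),(9,false),(9,false),(8,false),(9,false),(9,false),(10,false),(8,false)],0,false,[0,2,0,2,2,0,2,1,3]⟩,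
    ⟨[(48,true),(42,true),(48,true),(42,true),(48,false),(42,true)],174,true,[0,2,2,2,0,3,0,3,0,3,3,0,2,0,2,0,3,0,3,0,3,1]⟩,
    ⟨[(184,true),(366,false)],150,false,[0,3,0,3,0,2,0,2,2,0,2,0,3,3,0,2,0,2,2,0,2,1,2]⟩,
    ⟨[(366,false)],213,true,[3,3,0,2,0,2,2,0,3,3,1,2,2]⟩,
    ⟨[(343,false),(343,false),(339,true)],189,false,[2,0,2,0,2,2,0,3,3,0,3,3,0,2,2,0,2,0,2,1,3,3]⟩,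
    ⟨[(99,false),(99,false)],208,true,[3,3,0,3,0,3,0,2,0,2,0,3,0,3,0,3,0,3,3]⟩,
    ⟨[],194,false,[2,2,0,2,2,0,2,0,2,2,2,0,3,0,3,3,0,2,2]⟩,
    ⟨[(178,true),(122,true)],5,false,[0,3,0,2,0,3,3,0,3,3,0,3,0,2,2,2,0,3]⟩,
    ⟨[],204,false,[2,2,2,0,2,0,2,0,2,2,0,3,3,0,2,0,2,2,0,2,2,0,3]⟩,
    ⟨[],348,true,[0,3,3,0,2,0,2,2,0,2,0,3,3,0,2,0,2,2,2,0]⟩,
    ⟨[(364,true),(361,true),(363,false)],7,true,[2,0,3,3,0,2,0,2,2,0,3,3]⟩,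
    ⟨[(342,false)],194,false,[0,2,0,3,3,0,3,3,0,2,0,2,0]⟩,
    ⟨[(125,false),(122,false)],283,true,[2,2,0,2,0,2,0,3,0,3,0,2,0,2,0,2,0,2,2]⟩,
    ⟨[(333,true)],321,true,[3,0,3,0,2,0,2,2,0,3,0,3,3,0,2,0,2,2,0,2]⟩,
    ⟨[(151,false),(339,false),(151,false)],162,false,[0,3,0,3,3,0,2,0,2,2,0,2,2,0,2,0,2,1,2]⟩,
    ⟨[(140,false)],108,false,[2,0,2,0,2,2,0,2,2,0,3,0,3,3,0,2,2,2]⟩,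
    ⟨[],167,false,[2,2,0,3,3,0,3,0,2,0,2,0,3,0,3,0,3,3,0,3,0]⟩,
    ⟨[],0,true,[2,0,2,0,2,2,0,2,0,3,0,3,0,2,0,2,0,3,3]⟩]),
  ([1,1,1,0,1,1,1,0,0,0,0], [⟨[(8,false),(9,false),(9,false),(8,false),(9,false),(9,false),(10,false),(8,false)],0,false,[0,2,0,2,2,0,2,1,3]⟩,
    ⟨[(48,true),(42,true),(48,true),(42,true),(48,false),(42,true)],174,true,[0,2,2,2,0,3,0,3,0,3,3,0,2,0,2,0,3,0,3,0,3,1]⟩,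
    ⟨[(99,false)],210,true,[0,2,0,2,0,2,0,2,2,0,2]⟩,
    ⟨[(333,true),(342,false)],152,false,[0,3,0,2,0,2,2,0,3,3,0,2,0,2,2,0,2,0,2,2,0,3,3,1]⟩,
    ⟨[(339,true),(339,true)],284,true,[2,2,0,3,0,3,0,3,3,0,2,0,2,2,0,2,0,3,3,1]⟩,
    ⟨[(333,true),(342,false),(342,false)],193,true,[2,0,2,0,2,0,3,0,3,0,2,2,0,2,0,2,0,2,2]⟩,
    ⟨[(368,true)],183,false,[0,3,0,3,0,3,3,0,2,2,0,2,2,0,3,0,3,3,0,2,0,2]⟩,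
    ⟨[(368,true),(356,false)],134,false,[2,0,2,2,0,2,0,2,2,2,0,2,2,0,2,1,2,2,2]⟩,
    ⟨[(343,true),(151,false)],231,false,[0,2,2,0,3,3,0,3,0,2,2,0,2,0,2,0,3,1,2]⟩,
    ⟨[(356,true)],277,true,[2,0,3,0,3,0,3,0,2,0,2,0,3,0,2,2,0,3,0,3,3,1]⟩,
    ⟨[(342,false)],194,false,[3,0,3,0,3,0,2,2,2,0,3,0,3,0,2,0,2,0,2,0,3,0,2]⟩,
    ⟨[(178,true),(178,true),(122,false),(122,false)],159,true,[3,0,3,3,0,2,2,2,0,2,0,3,0,3,1,2]⟩,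
    ⟨[(366,true)],275,true,[2,0,2,0,2,0,3,0,3,3,0,3,0,2,0,2,0,3]⟩,
    ⟨[(342,true),(344,false)],263,true,[0,2,0,3,0,2,2,0,2,0,3,0,2,2,0,3,0,3,3,0,2,2,1]⟩,
    ⟨[(343,true),(343,true)],158,false,[2,0,2,0,2,0,3,0,3,0,3,0,2,0,2,2,1]⟩,
    ⟨[(140,false)],108,false,[3,3,0,3,3,0,2,2,0,2,0,2,2,0,3,0,2,2]⟩,
    ⟨[],167,false,[0,2,2,0,2,0,2,0,2,2,0,2,2,0,2,2,0,2,2,0,2,0,2]⟩,
    ⟨[],0,true,[0,2,0,2,2,0,3,3,0,3,3,0,3,0,2,2,0,2,2,2,0]⟩]),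
  ([0,1,1,1,0,0,1,0,1,1,0], [⟨[(8,false),(9,false),(9,false),(8,false),(9,false),(9,false),(10,false),(8,false)],0,false,[0,2,0,2,2,0,2,1,3]⟩,
    ⟨[(48,true),(42,true),(48,true),(42,true),(48,false),(42,true)],174,true,[0,2,2,2,0,3,0,3,0,3,3,0,2,0,2,0,3,0,3,0,3,1]⟩,
    ⟨[(357,true)],150,false,[2,2,0,3,0,3,3,0,2,0,2,0,3,0,2,2,0,3,0]⟩,
    ⟨[(368,false)],134,false,[2,0,3,0,2,2,0,3,0,2,2,0,2,0,3,0,3,3,0]⟩,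
    ⟨[],155,false,[0,3,0,2,0,2,2,0,3,0,2,2,0,2,2,0,3,0,2,2,1,3,3]⟩,
    ⟨[(358,true)],191,true,[0,2,2,0,3,0,3,0,3,3,0,3,0,2,0,2,0,2,0,3,3,0]⟩,
    ⟨[(339,false),(339,false)],180,false,[0,2,2,0,2,0,2,2,0,2,0,3,0,2,2,0,2,0,3]⟩,
    ⟨[(342,false)],194,false,[2,0,3,0,2,2,2,0,2,0,2,2,0,3,3,0,3,0,2,0,2,2]⟩,
    ⟨[(125,true),(122,false),(125,false)],194,true,[3,0,2,0,2,0,3,0,3,3,0,2,0,2,2,0,2,2,2,0]⟩,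
    ⟨[(342,false),(344,false)],234,false,[0,2,0,2,0,2,0,3,0,2,2,2,0,2]⟩,
    ⟨[(365,false)],320,true,[0,2,2,2,0,3,3,0,3,0,2,2,0,2,2,0,3,0,2,2,0]⟩,
    ⟨[(342,false)],194,false,[2,2,2,0,2,2,0,2,2,0,3,3,1,2]⟩,
    ⟨[(125,true),(178,true),(102,false)],159,true,[0,2,2,0,2,0,3,3,0,3,0,3,0,2,0,2,0,3,3,0,3,1,2]⟩,
    ⟨[(366,true)],275,true,[3,0,2,2,0,2,0,2,0,3,0,2,2,0,2,0,3,0,2,2,0,2,1]⟩,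
    ⟨[(344,false),(333,false)],207,false,[0,2,2,0,2,0,2,0,3,0,2,2,2,0,2,0,3,3,1,3]⟩,
    ⟨[(343,true),(343,true)],158,false,[0,2,2,0,2,2,0,3,0,3,0,3,0,2,0,3,3,0,2,0,2,2,0,3,3]⟩,
    ⟨[(140,false)],108,false,[0,2,0,3,0,3,0,3,0,2,0,2,2,0,2,0,3,3,0,3,3,0,2]⟩,
    ⟨[],167,false,[3,0,3,3,0,2,2,0,3,3,0,3,0]⟩,
    ⟨[],0,true,[0,2,0,3,3,0,3,3,0,2,2,0,2,0,2,0,2,2,2,0,3]⟩]),
  ([1,1,1,1,1,1,0,0,0,0,0], [⟨[(8,false),(9,false),(9,false),(8,false),(9,false),(9,false),(10,false),(8,false)],0,false,[0,2,0,2,2,0,2,1,3]⟩,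
    ⟨[(48,true),(42,true),(48,true),(42,true),(48,false),(42,true)],174,true,[0,2,2,2,0,3,0,3,0,3,3,0,2,0,2,0,3,0,3,0,3,1]⟩,
    ⟨[(368,true)],198,false,[0,3,0,2,2,2,0,2,0,3,0,3,0,3,3,0,3,3,0]⟩,
    ⟨[(333,true)],224,false,[0,2,0,2,0,2,2,0,2,0,3,0,3,0,2,0,3]⟩,
    ⟨[(339,false),(343,false)],149,false,[2,0,2,0,2,0,3,0,3,0,2,0,2,0,2,2,0,3,3,0,2,1]⟩,
    ⟨[(343,false),(339,true),(343,false)],180,false,[0,2,0,2,0,3,0,3,0,3,0,2,0,2,2,0,2,0,3,1]⟩,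
    ⟨[(342,false)],194,false,[0,2,2,0,3,3,0,2,0,2,2,0,3,0,3,3,0,3,3,0]⟩,
    ⟨[(178,false),(122,false)],5,false,[2,0,2,2,0,2,0,2,2,2,0,2,0,3,0,3,3,0]⟩,
    ⟨[],204,false,[0,3,3,0,3,3,0,2,0,2,2,0,2,0,3,0,3,0,2,2,0,2,1,2]⟩,
    ⟨[(333,true)],7,false,[0,3,0,2,2,2,0,2,0,3,0,3,0,2,0,2,2,0,2,0,3,3,0,2]⟩,
    ⟨[(370,false),(369,false),(355,true)],345,false,[0,2,0,2,2,2,0,3,0,3,3,0,3,0,2,2,0,3,1,3,3]⟩,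
    ⟨[(333,true),(344,false)],192,false,[3,3,0,2,0,2,0,2,0,3,0,3,3,0,2]⟩,
    ⟨[(125,false),(102,false),(125,false)],192,true,[2,0,3,3,0,2,0,2,2,0,2,0,2,0,3,0,3,0]⟩,
    ⟨[(344,false),(342,false)],180,true,[3,0,2,0,2,0,3,0,3,3,0,3,0,2,2,0,2,2,0,2,2,2]⟩,
    ⟨[(339,true),(343,false)],205,false,[3,0,2,0,2,2,0,2,2,0,2,2,2,0,3,0,3]⟩,
    ⟨[(166,false),(140,false)],108,false,[2,0,3,0,2,2,0,3,0,3,3,0,2,0,2,2,0,2,2,1]⟩,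
    ⟨[],167,false,[3,0,3,0,3,3,0,2,0,2,0,3,0,3,3,1,2,2]⟩,
    ⟨[],0,true,[0,2,0,2,0,2,2,0,2,0,3,3,0,2,0,3,3,0,2]⟩]),
  ([1,1,1,1,1,0,1,0,0,0,0], [⟨[(8,false),(9,false),(9,false),(8,false),(9,false),(9,false),(10,false),(8,false)],0,false,[0,2,0,2,2,0,2,1,3]⟩,
    ⟨[(48,true),(42,true),(48,true),(42,true),(48,false),(42,true)],174,true,[0,2,2,2,0,3,0,3,0,3,3,0,2,0,2,0,3,0,3,0,3,1]⟩,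
    ⟨[(99,false),(99,false)],155,true,[0,2,0,2,0,2,2,0,2,2,0,3,0,3,0,2,0,2,0]⟩,
    ⟨[(339,false),(151,false),(339,true)],207,true,[0,3,0,3,3,0,2,2,0,3,0,2,2,2,0,3,3]⟩,
    ⟨[],198,true,[3,0,2,0,2,2,0,2,2,0,3,0,3,3,0,3,0,3,3,0,2,2,0,2,0]⟩,
    ⟨[(356,true)],163,false,[3,0,2,0,2,2,0,2,2,2,0,2,0,2,2,0,2,2]⟩,
    ⟨[(365,false)],175,false,[2,0,2,2,0,2,0,3,3,0,3,0,3,0,3,3,0,2,2,2,0]⟩,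
    ⟨[(125,true)],5,false,[2,2,0,2,2,0,3,0,3,3,0,2,2,0,3,3,0,2,2,0]⟩,
    ⟨[],204,false,[0,3,0,2,0,2,0,2,0,3,0,3,0,2,0,2,0,3,1,3,3]⟩,
    ⟨[(342,true)],7,false,[0,2,0,2,0,2,2,0,3,3,0,3,3,0,3,0,2,2,1,3,3]⟩,
    ⟨[(367,true),(370,false)],348,false,[2,0,2,0,2,2,0,3,3,0,2,2,2,0,2,0,3,3,0,2,1]⟩,
    ⟨[(344,false)],283,false,[0,2,2,0,2,2,0,3,0,3,3,0,2,0,3,3,0,2,1,3]⟩,
    ⟨[(122,true),(125,true)],194,true,[2,0,3,0,3,3,0,2,2,0,2,0,2,2,0,3,3,0,3,0,2,0,2,1,2]⟩,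
    ⟨[(344,false)],293,false,[0,3,0,2,0,3,3,0,2,0,2,2,0,2,0,2,2,0,3,1,3,3]⟩,
    ⟨[(343,false)],259,false,[3,0,3,3,0,3,0,2,2,0,2,0,3,0,3,0,2,0,2,0,2,0,3]⟩,
    ⟨[(140,false)],108,false,[0,2,0,2,0,3,3,0,3,3,0,3,0,3,3,0,3,0,2,0,2,0]⟩,
    ⟨[],167,false,[0,3,0,2,0,2,2,0,2,0,2,2,0,2,2,2,1]⟩,
    ⟨[],0,true,[3,0,2,2,0,3,0,3,3,0,3,0,2,2,0,3,0,3,3,0,3,0,2,1]⟩]),
  ([0,0,0,0,0,1,1,1,0,0,0], [⟨[(8,false),(9,false),(9,false),(8,false),(9,false),(9,false),(10,false),(8,false)],0,false,[0,2,0,2,2,0,2,1,3]⟩,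
    ⟨[(48,true),(42,true),(48,true),(42,true),(48,false),(42,true)],174,true,[0,2,2,2,0,3,0,3,0,3,3,0,2,0,2,0,3,0,3,0,3,1]⟩,
    ⟨[(359,false)],291,true,[0,2,2,0,3,0,3,3,1,2,2,2]⟩,
    ⟨[(343,true),(151,false),(343,true)],197,true,[2,2,2,0,2,2,2,0,2,0,3,3,0,2,0,2,2,0,2,2,2,1,3]⟩,
    ⟨[(342,true),(344,false)],263,true,[0,2,2,0,2,0,3,3,0,2,0,3,3,0,2,0,2,1]⟩,
    ⟨[(339,true),(339,true)],155,false,[2,0,2,0,3,3,0,2,0,2,2,0,2,0,3,0,3,0,2,1,3,3]⟩,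
    ⟨[(366,true),(358,true)],208,true,[2,0,3,0,2,2,0,3,0,3,3,0,3,1,2]⟩,
    ⟨[(342,false)],243,false,[2,0,2,0,2,0,3,3,0,3,3,0,2,0,3,3,0,3,1,3]⟩,
    ⟨[(343,false),(343,false)],155,false,[0,3,3,0,3,0,2,2,2,0,2,0,3,3,0,3,1,3,3]⟩,
    ⟨[(368,false)],222,true,[0,2,0,2,2,2,0,2,0,3,0,3,0,2,2,2,0,3,0,2]⟩,
    ⟨[],194,false,[2,0,2,2,0,3,3,0,3,0,2,2,2,0,2,2,0,2]⟩,
    ⟨[],44,true,[0,2,0,2,0,3,0,3,3,0,3,0,2,2,2,0,2,2,0]⟩,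
    ⟨[(48,false)],13,true,[2,0,2,0,2,0,2,2,0,2,0,2,2,0,3,3,0,3,0,2,0,2,1]⟩,
    ⟨[],0,true,[0,2,0,2,0,2,2,0,3,0,3,0,3,3,0,2,0]⟩]),
  ([0,1,1,1,1,0,0,0,0,1,0], [⟨[(8,false),(9,false),(9,false),(8,false),(9,false),(9,false),(10,false),(8,false)],0,false,[0,2,0,2,2,0,2,1,3]⟩,
    ⟨[(48,true),(42,true),(48,true),(42,true),(48,false),(42,true)],174,true,[0,2,2,2,0,3,0,3,0,3,3,0,2,0,2,0,3,0,3,0,3,1]⟩,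
    ⟨[(359,true),(126,false)],150,false,[2,2,2,0,2,2,0,2,0,3,0,2,2,0,2,2,1,2]⟩,
    ⟨[(358,false),(99,true)],154,false,[0,3,0,2,0,2,0,2,2,2,0,2,0,3,3,0,2,0,2,2,0,3,1,3]⟩,
    ⟨[(358,false),(99,true)],154,false,[2,0,2,2,2,0,2,2,0,3,0,3,3,0,3,0,2,2,0,3,0,2]⟩,
    ⟨[(359,false)],332,true,[2,0,2,0,2,2,0,3,0,3,0,2,0,2,0]⟩,
    ⟨[(343,false),(343,false),(339,false)],230,true,[0,2,0,2,0,2,0,3,0,2,2,2,0,2,0,2,2,0,3]⟩,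
    ⟨[(342,true)],7,false,[3,0,3,0,2,0,3,3,0,3,3,0,2,0,3,3,0,2,1]⟩,
    ⟨[(355,false),(355,false)],348,false,[3,0,2,2,0,2,0,3,3,0,3,0,2,0,2,0,2,2,1,2]⟩,
    ⟨[(333,false),(342,true)],192,false,[0,2,2,0,3,3,0,3,0,3,3,0,2,2,0,3,0,2,2,1]⟩,
    ⟨[(125,false),(102,false),(125,false)],192,true,[2,2,2,0,3,0,2,2,0,3,0,3,3,0,2,2,1,2]⟩,
    ⟨[(344,false),(342,false)],180,true,[0,2,0,3,0,3,0,3,3,0,3,0,2,2,0,3,0,2,2,0,2,1,3,3]⟩,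
    ⟨[(339,true),(343,false)],205,false,[0,2,0,3,3,0,2,2,0,3,3,0,3,0,3,3,0,2,2,2,1]⟩,
    ⟨[(166,false),(140,false)],108,false,[3,0,2,2,2,0,3,3,0,3,0,3,3,0,3,0,2,0,2,1]⟩,
    ⟨[],167,false,[0,2,2,0,3,3,0,3,0,2,2,0,2,0,3,0,3,0,2,0,2]⟩,
    ⟨[],0,true,[3,3,0,3,3,0,2,0,2,2,0,2,0,3,0,3,0,3,0,2,2]⟩]),
  ([0,1,0,0,1,0,0,0,1,0,0], [⟨[(8,false),(9,false),(9,false),(8,false),(9,false),(9,false),(10,false),(8,false)],0,false,[0,2,0,2,2,0,2,1,3]⟩,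
    ⟨[(48,true),(42,true),(48,true),(42,true),(48,false),(42,true)],174,true,[0,2,2,2,0,3,0,3,0,3,3,0,2,0,2,0,3,0,3,0,3,1]⟩,
    ⟨[(365,false),(99,false)],210,true,[3,3,0,2,2,0,3,0,3,3,0,2,2,0,3,3,0,3,3,1,2]⟩,
    ⟨[(342,false),(333,true),(342,false)],295,false,[2,2,0,3,3,0,2,0,2,2,0,2,2,0,3,3,1,2]⟩,
    ⟨[(339,true),(343,false)],243,true,[0,2,2,0,2,0,2,2,1,2,2]⟩,
    ⟨[(333,false)],254,false,[3,0,3,0,3,3,0,3,3,0,3,0,3,0,2,0,2,0,2,2,0,2,1]⟩,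
    ⟨[(358,false)],64,false,[3,0,3,0,3,0,2,0,3,3,0,3,0,2,0,2,1,2]⟩,
    ⟨[(132,false),(166,false)],186,true,[2,2,0,2,2,0,2,0,3,3,0,2,0,2,2,0,3,0,3,3,0]⟩,
    ⟨[(343,false),(151,false)],160,false,[3,0,3,3,0,3,0,2,0,2,2,0,3,3,0,3,0,3,3,1,2]⟩,
    ⟨[(166,false),(140,false)],108,false,[0,2,2,0,2,0,3,3,0,2,0,2,2,2,0]⟩,
    ⟨[],167,false,[0,2,2,0,3,0,3,3,0,3,0,2,0,2,0,3,0,2,2,0,2,2]⟩,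
    ⟨[],0,true,[2,0,3,0,3,3,0,3,0,2,2,0,3,0,2,2,2,0,3,0]⟩]),
  ([1,0,0,0,0,1,0,0,1,1,1], [⟨[(8,false),(9,false),(9,false),(8,false),(9,false),(9,false),(10,false),(8,false)],0,false,[0,2,0,2,2,0,2,1,3]⟩,
    ⟨[(48,true),(42,true),(48,true),(42,true),(48,false),(42,true)],174,true,[0,2,2,2,0,3,0,3,0,3,3,0,2,0,2,0,3,0,3,0,3,1]⟩,
    ⟨[(357,false),(356,false)],150,false,[0,2,0,3,3,0,2,0,2,0,2,0,3,0,2,2,2,0,3]⟩,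
    ⟨[(359,true)],336,true,[3,0,3,0,2,2,0,2,0,2,0,2,2,0,3,3]⟩,
    ⟨[],212,false,[0,3,0,3,0,3,0,2,2,2,0,3,0,3,0,2,0]⟩,
    ⟨[(140,false),(118,true)],232,true,[3,3,0,2,0,2,2,0,2,0,3,3,0,2,0,2,2,0,2,1,2]⟩,
    ⟨[(342,false)],316,false,[3,0,3,0,3,0,3,3,0,3,0,2,2,0]⟩,
    ⟨[(366,true),(99,true)],159,false,[2,0,2,0,2,0,2,2,0,2,0,3,0,3,0,3,3,1]⟩,
    ⟨[(122,false),(102,false),(178,true)],192,true,[0,2,2,2,0,2,0,2,2,0,2,0,3,0,3,0,2,0,2]⟩,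
    ⟨[(342,false),(333,false)],180,true,[3,0,3,3,0,3,3,0,3,0]⟩,
    ⟨[(151,false),(339,false)],165,false,[3,0,3,0,3,0,2,0,2,2,0,2,0,2,2,0,3,1]⟩,
    ⟨[(166,true)],59,true,[0,3,0,3,0,2,0,2,0,3,0,2,2,2,0,2,2,2,0,2,0,3,1]⟩,
    ⟨[(178,false)],44,true,[2,2,2,0,2,2,0,3,0,3,3,0,3,0,2,0,2,0,2,0,2]⟩,
    ⟨[(48,false)],13,true,[0,3,0,3,0,3,0,2,0,2,0,2,2,2,0,2,2,2,0,3,3]⟩,
    ⟨[],0,true,[2,2,0,2,0,2,2,2,0,3,0,3,0,2,1]⟩]),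
  ([0,0,0,0,0,0,0,0,0,0,0], [⟨[(8,true),(9,true),(8,false),(9,false),(10,false),(8,false),(9,false),(9,false),(10,false),(8,false)],0,false,[2,0,3,0,3,3,0,2,2,0,2,0,3,3,0,2,0,2,2,2,0]⟩,
    ⟨[(42,true),(42,true),(48,true)],4,false,[0,3,0,2,0,2,2,0,3,0,3,0,2,0,2,2,2,0,2,2]⟩,
    ⟨[],174,false,[0,2,2,0,3,0,3,3,0,3,0,3,0,2,0,2,0,3,3,0,3,1]⟩,
    ⟨[],0,true,[2,2,0,2,2,0,3,3,0,3,0,2,2,0,3,0,3,3,0,3,1,2,2,2]⟩])]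

/-- vectors of step 11 -/
def orb2_11 : List (List ℕ) := [
  [3,3,3,28,15,2,8,6,10,6,8,25,4,22,27,12,17,21,5,4,6,20,5,15,5,5,5,28,23,1,1,26,20,5,19,23,20,9,28,23,20,1,23,16,25,26,26,26,21,4,3,7,23,20,7,4,7,7,5,7,22,11,7,15,17,26,10,21,3,11,7,14,23,17,5,7,3,0,25,26,3,3,4,14,21,0,0,25,11,3,0,3,0,0,15,0,18,23,8,3,0,3,20,0,15,12,26,0,14,0,0,17,0,0,8,0,0,8,0,17,1,18,23,0,4,21,6,28,15,0,21,0,25]]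

/-- relations of step 12 -/
def rels2_12 : List (List ℕ × List Use) := [
  ([0,0,1,0,0,0,1,0,1,1,0,0], [⟨[(8,false),(9,false),(8,false),(9,true),(9,true),(10,false),(8,false),(9,true),(10,false)],0,false,[3,0,2,2,2,0,2,2,2,0,3,1,3,3]⟩,
    ⟨[(42,true),(48,false)],174,true,[0,2,0,2,0,2,0,3,3,0,2,0,2,2,2,0,3,0,3,3,0,2,1,2,2]⟩,
    ⟨[(357,false),(184,false)],153,true,[2,0,3,0,3,0,2,0,2,0,3,0,3,0,3,0,2,0,2,2,0,2,0,2,1,3]⟩,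
    ⟨[],168,true,[2,2,0,2,0,3,3,0,2,2,2,0,3,0,3,0,3,0,2]⟩,
    ⟨[(178,true),(122,true),(178,true)],236,true,[0,2,2,2,0,2,0,3,0,3,3,0,2,2,0,3,0,2,2,0]⟩,
    ⟨[(333,false)],137,false,[0,3,3,0,2,2,0,2,0,2,0,2,2,0,2,2,0,2,1,2]⟩,
    ⟨[(151,false),(343,false)],230,true,[0,2,2,2,0,2,0,3,3,0,3,0,3,0,2,0,2,2,0,3]⟩,
    ⟨[(344,false),(342,false)],236,false,[0,3,0,3,0,3,3,0,2,2,0,3,3,0,3]⟩,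
    ⟨[(178,false)],44,true,[2,2,2,0,2,2,0,3,0,2,2,2,0,2]⟩,
    ⟨[(48,false)],13,true,[3,0,2,0,2,0,2,0,2,2,2,0,2,2,0,3,0,2,2,0]⟩,
    ⟨[],0,true,[0,2,0,3,0,3,3,0,3,3,0,3,3,1]⟩]),
  ([1,1,0,0,0,0,0,0,1,1,0,0], [⟨[(8,false),(9,false),(8,false),(9,true),(9,true),(10,false),(8,false),(9,true),(10,false)],0,false,[3,0,2,2,2,0,2,2,2,0,3,1,3,3]⟩,
    ⟨[(42,true),(48,false)],174,true,[0,2,0,2,0,2,0,3,3,0,2,0,2,2,2,0,3,0,3,3,0,2,1,2,2]⟩,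
    ⟨[(126,true),(99,false)],153,true,[2,2,0,2,2,0,3,3,0,3,0,3,0,2,0,2,2,2]⟩,
    ⟨[(140,true)],66,true,[2,0,2,2,0,3,0,3,3,0,3,0,2,2,0,2,0,3,1]⟩,
    ⟨[(221,false),(199,false),(179,false)],297,true,[3,0,3,0,3,0,2,0,2,0,3,3,0,3,0,2,0,2,0,3,1,3,3]⟩,
    ⟨[(333,true)],238,false,[2,2,0,2,2,2,0,3,0,2,2,0,2,2,0,2,0]⟩,
    ⟨[],174,false,[2,2,0,2,2,0,2,0,3,0,2,2,0,3,3,0,2]⟩,
    ⟨[],0,true,[3,0,2,0,2,0,3,0,3,3,0,2,2,2,1,2]⟩]),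
  ([0,1,0,1,1,0,0,0,1,1,0,0], [⟨[(8,false),(9,false),(8,false),(9,true),(9,true),(10,false),(8,false),(9,true),(10,false)],0,false,[3,0,2,2,2,0,2,2,2,0,3,1,3,3]⟩,
    ⟨[(42,true),(48,false)],174,true,[0,2,0,2,0,2,0,3,3,0,2,0,2,2,2,0,3,0,3,3,0,2,1,2,2]⟩,
    ⟨[(366,false)],217,true,[3,3,0,3,0,2,2,0,2,2,0,3,0,3,3,0,2,2,0,3,1,2]⟩,
    ⟨[],297,false,[2,2,0,2,2,0,3,0,3,3,0,2,2,0,2,0,3,3,0,3,3,0,2]⟩,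
    ⟨[(221,false),(185,true)],131,false,[2,0,3,0,3,0,3,3,0,3,0,3,3,0,2,0,2,2,1]⟩,
    ⟨[(132,true),(132,true)],244,true,[2,2,2,0,2,0,2,2,0,3,0,3,3,0,3,0,2,0,2,0,2,2,2]⟩,
    ⟨[(339,false),(343,false)],220,false,[2,2,0,3,0,3,0,2,0,2,0,2,2,0,3,3,0,3,3,1,2,2]⟩,
    ⟨[],346,true,[2,0,2,0,2,0,3,0,2,2,2,0,2,0,3,3,0,2,0]⟩,
    ⟨[(361,false),(363,true)],345,false,[0,2,0,2,2,2,0,3,0,3,3,0,3,0,2,2,0,3,1,3,3]⟩,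
    ⟨[(333,true),(344,false)],192,false,[3,3,0,2,0,2,0,2,0,3,0,3,3,0,2]⟩,
    ⟨[(125,false),(102,false),(125,false)],192,true,[2,0,3,3,0,2,0,2,2,0,2,0,2,0,3,0,3,0]⟩,
    ⟨[(344,false),(342,false)],180,true,[3,0,2,0,2,0,3,0,3,3,0,3,0,2,2,0,2,2,0,2,2,2]⟩,
    ⟨[(339,true),(343,false)],205,false,[3,0,2,0,2,2,0,2,2,0,2,2,2,0,3,0,3]⟩,
    ⟨[(166,false),(140,false)],108,false,[2,0,3,0,2,2,0,3,0,3,3,0,2,0,2,2,0,2,2,1]⟩,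
    ⟨[],167,false,[3,0,3,0,3,3,0,2,0,2,0,3,0,3,3,1,2,2]⟩,
    ⟨[],0,true,[0,2,0,2,0,2,2,0,2,0,3,3,0,2,0,3,3,0,2]⟩]),
  ([0,1,1,0,1,0,0,0,1,1,0,0], [⟨[(8,false),(9,false),(8,false),(9,true),(9,true),(10,false),(8,false),(9,true),(10,false)],0,false,[3,0,2,2,2,0,2,2,2,0,3,1,3,3]⟩,
    ⟨[(42,true),(48,false)],174,true,[0,2,0,2,0,2,0,3,3,0,2,0,2,2,2,0,3,0,3,3,0,2,1,2,2]⟩,
    ⟨[(184,false)],240,true,[3,0,3,3,0,2,2,0,3,3,0,3,3,0,2,0,2,2,0,3,1,2]⟩,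
    ⟨[(344,false),(333,true),(342,false)],224,false,[2,2,0,2,0,3,0,2,2,0,2,0,3,0,2,2,0,2,0]⟩,
    ⟨[(339,false),(343,false)],149,false,[2,0,2,0,2,2,0,2,0,2,0,3,0,3,0,2,0,3]⟩,
    ⟨[(343,false),(343,false),(151,false)],189,false,[0,2,2,0,2,0,2,0,3,0,2,2,0,3,3,0,3,0,2,0,2,1]⟩,
    ⟨[(366,true),(358,false)],208,true,[3,0,2,2,0,3,3,0,2,2,0,2,2,0,2,2,0,3,3]⟩,
    ⟨[(344,false),(333,false)],346,true,[2,2,0,2,0,3,0,2,2,0,2,0,3,0,2,2,0,2,0,3,0,3,0]⟩,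
    ⟨[(363,true)],346,false,[2,2,0,3,3,0,3,0,3,3,0,2,2,0,2,0,3,3,0,3,3,1]⟩,
    ⟨[(342,false),(333,true),(342,false)],210,false,[3,0,3,3,0,3,0,2,2,0,2,0,3,0,3,3,1,3]⟩,
    ⟨[(184,true)],55,true,[3,0,2,0,2,2,0,2,0,3,3,0,3,0,3,0,2,0,2]⟩,
    ⟨[(118,true),(166,false)],162,true,[0,2,0,2,2,0,2,0,2,0,3,0,2,2,0,2,2,0,3]⟩,
    ⟨[(339,false),(339,false)],158,false,[2,0,2,0,2,0,3,0,3,0,3,0,2,0,2,2,1]⟩,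
    ⟨[(140,false)],108,false,[3,3,0,3,3,0,2,2,0,2,0,2,2,0,3,0,2,2]⟩,
    ⟨[],167,false,[0,2,2,0,2,0,2,0,2,2,0,2,2,0,2,2,0,2,2,0,2,0,2]⟩,
    ⟨[],0,true,[0,2,0,2,2,0,3,3,0,3,3,0,3,0,2,2,0,2,2,2,0]⟩]),
  ([0,0,1,0,1,0,1,0,0,0,0,0], [⟨[(8,false),(9,false),(8,false),(9,true),(9,true),(10,false),(8,false),(9,true),(10,false)],0,false,[3,0,2,2,2,0,2,2,2,0,3,1,3,3]⟩,
    ⟨[(42,true),(48,false)],174,true,[0,2,0,2,0,2,0,3,3,0,2,0,2,2,2,0,3,0,3,3,0,2,1,2,2]⟩,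
    ⟨[(366,false)],153,true,[0,2,0,2,0,2,2,2,0,2,2,0,2,0,2,0,3,3,1]⟩,
    ⟨[(132,false),(140,false)],186,true,[2,2,2,0,3,3,0,3,3,0,3,3,0,2,0,3,3,0]⟩,
    ⟨[(343,true),(339,true),(339,true)],180,false,[3,0,3,0,3,0,2,2,0,2,2,0,3,0,2,2,0,3,0,3,3]⟩,
    ⟨[(344,false)],276,false,[0,2,0,2,0,2,2,2,0,3,3,0,3,0,2,2,0,3,0]⟩,
    ⟨[(99,true),(184,true)],154,false,[3,3,0,2,2,2,0,2,0,2,2,0,3,0,3,3,1,2]⟩,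
    ⟨[(358,true),(359,true)],159,false,[0,2,0,3,0,2,2,2,0,2,2,0,2,2,1]⟩,
    ⟨[(178,true),(125,false),(178,true)],175,true,[0,2,2,0,2,0,2,0,2,2,0,3,3,0,2,0,3,3,0]⟩,
    ⟨[],193,false,[2,2,0,3,3,0,3,0,2,2,2,0,3,3,0,2,1,3]⟩,
    ⟨[(333,true),(344,false),(333,true)],164,false,[3,3,0,3,0,3,0,2,2,0,2,0,3,0,3,0,2,0,2,0,2,2,0,2]⟩,
    ⟨[],6,true,[3,0,3,0,3,0,2,0,3,3,0,3,0,3,3,0,2,2,0,2]⟩,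
    ⟨[(140,false)],108,false,[2,2,0,3,3,0,3,0,2,2,0,2,0,3,3,0,3,3,0,3,3,1,2]⟩,
    ⟨[],167,false,[3,0,3,0,2,0,2,0,2,0,2,2,0,3,3,1,3]⟩,
    ⟨[],0,true,[0,2,0,2,0,3,3,0,2,0,2,2,0,3,3,0,2,0,3]⟩]),
  ([1,0,1,1,0,1,0,0,1,1,0,0], [⟨[(8,false),(9,false),(8,false),(9,true),(9,true),(10,false),(8,false),(9,true),(10,false)],0,false,[3,0,2,2,2,0,2,2,2,0,3,1,3,3]⟩,
    ⟨[(42,true),(48,false)],174,true,[0,2,0,2,0,2,0,3,3,0,2,0,2,2,2,0,3,0,3,3,0,2,1,2,2]⟩,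
    ⟨[(356,true),(358,true)],198,false,[2,0,2,0,2,0,3,0,3,3,0,3,0,2,2,0,2,2,0,3,3]⟩,
    ⟨[(344,false),(342,true)],240,false,[3,0,3,3,0,3,3,0,3,0,2,2,0,2,2,1]⟩,
    ⟨[(126,true),(184,false)],150,false,[2,2,2,0,3,0,3,3,0,3,0,2,2,0,3,0,3,3,0,3,3,0]⟩,
    ⟨[(184,true)],266,true,[0,2,0,3,3,0,2,0,2,2,0,2,2,0,3,0,3,1]⟩,
    ⟨[(344,false)],194,false,[2,0,2,2,2,0,2,0,3,0,3,3,0,3,0,2,2,0,2,2,0,3]⟩,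
    ⟨[(178,false),(178,false)],5,false,[0,2,0,3,3,0,3,0,2,2,0,3,0,2,2,2,0,3,0,3,1,3,3]⟩,
    ⟨[(342,false)],327,false,[0,2,0,3,3,0,2,0,2,2,0,2,0,3,3,0,2,0,2,2,0,2,1,2,2]⟩,
    ⟨[(99,false),(99,false)],210,true,[0,2,2,2,0,3,3,0,3,0,3,0,3,3,0,2,2,2,0,2,0,2,1]⟩,
    ⟨[],247,false,[3,3,0,2,2,0,2,0,3,0,3,0,3,3,0,2,2]⟩,
    ⟨[(122,true),(125,true),(178,false),(102,false)],159,true,[2,0,2,0,2,2,0,2,2,2,0,3,3,0,2,1]⟩,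
    ⟨[(366,true)],275,true,[0,3,3,0,2,0,2,2,0,2,2,0,2,0,2,0,3,0]⟩,
    ⟨[(342,true),(344,false)],263,true,[2,2,0,2,2,0,3,3,0,2,0,2,2,0,2,0,2,2,2,0,2,2,0]⟩,
    ⟨[(343,true),(343,true)],158,false,[2,0,2,0,2,0,3,0,3,0,3,0,2,0,2,2,1]⟩,
    ⟨[(140,false)],108,false,[3,3,0,3,3,0,2,2,0,2,0,2,2,0,3,0,2,2]⟩,
    ⟨[],167,false,[0,2,2,0,2,0,2,0,2,2,0,2,2,0,2,2,0,2,2,0,2,0,2]⟩,
    ⟨[],0,true,[0,2,0,2,2,0,3,3,0,3,3,0,3,0,2,2,0,2,2,2,0]⟩]),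
  ([1,0,0,0,0,0,1,0,1,1,0,0], [⟨[(8,false),(9,false),(8,false),(9,true),(9,true),(10,false),(8,false),(9,true),(10,false)],0,false,[3,0,2,2,2,0,2,2,2,0,3,1,3,3]⟩,
    ⟨[(42,true),(48,false)],174,true,[0,2,0,2,0,2,0,3,3,0,2,0,2,2,2,0,3,0,3,3,0,2,1,2,2]⟩,
    ⟨[(359,false)],153,true,[2,2,0,3,0,2,2,0,2,2,0,2,2,2,0,3,0]⟩,
    ⟨[(166,false),(140,true)],71,false,[0,2,0,2,0,2,0,2,2,2,0,2,0,3,0,3,0,2,2,2]⟩,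
    ⟨[(356,false),(358,true)],154,false,[0,3,0,3,3,0,3,3,0,2,2,0,3,1,2,2]⟩,
    ⟨[(359,true),(356,false)],153,true,[2,0,3,0,3,0,2,0,2,0,3,0,3,0,3,0,2,0,2,2,0,2,0,2,1,3]⟩,
    ⟨[],168,true,[2,2,0,2,0,3,3,0,2,2,2,0,3,0,3,0,3,0,2]⟩,
    ⟨[(178,true),(122,true),(178,true)],236,true,[0,2,2,2,0,2,0,3,0,3,3,0,2,2,0,3,0,2,2,0]⟩,
    ⟨[(333,false)],137,false,[0,3,3,0,2,2,0,2,0,2,0,2,2,0,2,2,0,2,1,2]⟩,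
    ⟨[(151,false),(343,false)],230,true,[0,2,2,2,0,2,0,3,3,0,3,0,3,0,2,0,2,2,0,3]⟩,
    ⟨[(344,false),(342,false)],236,false,[0,3,0,3,0,3,3,0,2,2,0,3,3,0,3]⟩,
    ⟨[(178,false)],44,true,[2,2,2,0,2,2,0,3,0,2,2,2,0,2]⟩,
    ⟨[(48,false)],13,true,[3,0,2,0,2,0,2,0,2,2,2,0,2,2,0,3,0,2,2,0]⟩,
    ⟨[],0,true,[0,2,0,3,0,3,3,0,3,3,0,3,3,1]⟩]),
  ([0,1,0,1,1,0,1,0,0,1,1,0], [⟨[(8,false),(9,false),(8,false),(9,true),(9,true),(10,false),(8,false),(9,true),(10,false)],0,false,[3,0,2,2,2,0,2,2,2,0,3,1,3,3]⟩,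
    ⟨[(42,true),(48,false)],174,true,[0,2,0,2,0,2,0,3,3,0,2,0,2,2,2,0,3,0,3,3,0,2,1,2,2]⟩,
    ⟨[(359,true),(184,true),(99,false)],150,false,[3,0,2,0,2,2,0,2,2,0,2,2,2,0,3,1]⟩,
    ⟨[(368,true)],217,true,[2,2,0,2,0,2,0,2,2,0,2,2,0,2,0,2,0,3,1,3]⟩,
    ⟨[(344,false)],260,false,[2,0,2,2,0,3,3,0,3,3,0,2,0,2,2,2,1,2]⟩,
    ⟨[(333,true),(342,false)],222,false,[2,0,2,2,0,2,0,2,0,2,2,2,0,3,1,3,3]⟩,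
    ⟨[(359,false),(184,true)],222,true,[2,2,2,0,2,0,2,2,0,3,0,2,2,2,0,2,1,3]⟩,
    ⟨[(333,true),(344,false)],180,true,[0,2,0,3,3,0,3,3,0,2,0,2,2,0,3,3,0,3,0,2,0,2,1,2]⟩,
    ⟨[(343,false),(339,false),(151,false)],230,true,[0,2,0,2,0,2,2,0,2,0,2,0,3,3,0,2,0,3]⟩,
    ⟨[(342,false),(342,false)],194,false,[0,3,3,0,2,0,2,2,0,2,2,2,0,3,3,0,2,0,3,3,1,3]⟩,
    ⟨[(178,false),(102,false)],5,false,[2,0,2,0,3,0,2,2,0,2,2,0,2,2,2,0,3,0,3]⟩,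
    ⟨[],204,false,[0,2,2,2,0,3,3,0,3,0,2,2,0,3,0,2,2,0,2,0,3,3]⟩,
    ⟨[(342,true)],7,false,[3,3,0,2,2,0,3,0,3,3,0,3,3,0,3,0]⟩,
    ⟨[(367,false),(369,true)],348,false,[3,3,0,2,2,2,0,2,0,3,0,3,0,2,0,3,3,0,3,3,1]⟩,
    ⟨[],192,false,[2,2,0,2,0,2,2,0,2,2,0,2,2,0,2,0,3,3]⟩,
    ⟨[(125,false),(102,false),(125,false)],192,true,[3,0,2,2,0,2,2,0,2,0,2,0,3,0,3,3,0,3,3,0,3]⟩,
    ⟨[(344,false),(342,false),(333,false)],293,false,[3,0,3,3,0,2,2,0,2,0,2,2,0,3,3,0,2,0,3,3]⟩,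
    ⟨[(151,false)],186,false,[2,0,3,0,2,2,0,2,2,0,2,2,0,3,0,3,0,3,0,2,0,3,3,0,2]⟩,
    ⟨[(166,false),(140,false)],108,false,[0,3,0,3,0,3,0,2,2,0,2,0,2,2,0,2,2,1]⟩,
    ⟨[],167,false,[3,3,0,3,0,2,0,2,2,0,3,0,3,0,2,0,3,3,0,3,0,2]⟩,
    ⟨[],0,true,[0,2,0,3,0,3,0,2,0,2,2,0,3,0,3,0,2,0,2,1,2]⟩]),
  ([0,1,0,1,0,0,0,0,1,1,0,1], [⟨[(8,false),(9,false),(8,false),(9,true),(9,true),(10,false),(8,false),(9,true),(10,false)],0,false,[3,0,2,2,2,0,2,2,2,0,3,1,3,3]⟩,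
    ⟨[(42,true),(48,false)],174,true,[0,2,0,2,0,2,0,3,3,0,2,0,2,2,2,0,3,0,3,3,0,2,1,2,2]⟩,
    ⟨[(358,true),(366,false)],150,false,[2,0,3,0,3,0,3,0,2,0,2,0,3,0,2,2,0,3,3]⟩,
    ⟨[(365,false)],175,false,[0,2,0,2,2,0,3,3,0,3,0,2,2,0,2,2,0,3,3,0,3,3]⟩,
    ⟨[(102,false),(178,false)],247,true,[0,2,0,2,0,2,0,3,0,2,2,0,3,0,2,2,2,1,3]⟩,
    ⟨[(333,true)],229,true,[2,0,3,0,3,0,3,3,0,2,2,0,2,2,2,0,3]⟩,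
    ⟨[(343,true),(339,false)],263,false,[2,0,3,0,3,0,3,0,2,0,2,2,0,2,2,0,2,2,1]⟩,
    ⟨[],346,true,[2,0,2,0,2,2,0,3,0,3,3,0,3,0,3,3,0,2,2,0,2,2]⟩,
    ⟨[(361,false),(362,false)],7,true,[0,3,0,2,2,0,2,0,3,0,3,3,0,3,0,2,2,0,2,2,2,0,2,1]⟩,
    ⟨[(344,false),(342,false)],227,true,[3,0,3,0,3,0,3,3,0,3,0,2,2,0,2,0,3,0,3]⟩,
    ⟨[(343,false),(339,false),(343,true)],295,true,[3,3,0,2,2,0,2,0,2,2,2,0,2,2,0,3,1,2,2]⟩,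
    ⟨[(333,true),(344,false)],293,false,[2,0,3,3,0,2,0,2,2,0,3,0,3,0,3,3,0,3,0,3,1]⟩,
    ⟨[(151,false),(343,false)],259,false,[0,3,3,0,2,0,2,0,3,0,3,3,0,2,0,2,2,1,2,2,2]⟩,
    ⟨[(140,false)],108,false,[2,0,2,0,3,0,2,2,0,3,3,0,3,0,2,0,2,0,3,0,2,2,0]⟩,
    ⟨[],167,false,[3,0,2,2,2,0,3,3,0,3,0,3,3,0,3,0,2,1,2,2]⟩,
    ⟨[],0,true,[3,3,0,2,2,0,3,3,0,2,2,0,2,2,0,2,0,2,0,3,0,3]⟩]),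
  ([1,0,1,1,1,0,0,0,0,0,0,1], [⟨[(8,false),(9,false),(8,false),(9,true),(9,true),(10,false),(8,false),(9,true),(10,false)],0,false,[3,0,2,2,2,0,2,2,2,0,3,1,3,3]⟩,
    ⟨[(42,true),(48,false)],174,true,[0,2,0,2,0,2,0,3,3,0,2,0,2,2,2,0,3,0,3,3,0,2,1,2,2]⟩,
    ⟨[(365,true)],155,true,[0,3,0,2,0,2,0,3,3,0,3,0,3,3,1]⟩,
    ⟨[(151,false),(339,true),(151,false)],224,true,[0,3,0,2,0,2,2,2,0,3,3,0,2,0,2,2,0,2,1,2,2]⟩,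
    ⟨[],254,false,[3,0,2,2,2,0,3,0,3,3,0,3,3,0,2,0,2,2,0,2,0,3]⟩,
    ⟨[(358,false)],291,true,[2,0,3,0,3,3,0,2,0,2,0,2,0,3,0,3,1]⟩,
    ⟨[(343,false),(339,true)],230,true,[2,2,0,2,0,3,3,0,2,0,2,2,0,2,0,3,0,3,0,2,0,3,3,1]⟩,
    ⟨[(342,true)],7,false,[0,3,0,3,0,2,0,2,0,3,0,3,0,3,3,1,2,2]⟩,
    ⟨[(360,false),(362,false)],346,false,[0,2,2,2,0,2,0,3,3,0,2,0,2,2,0,2,0,2,2,2,1]⟩,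
    ⟨[(333,false)],233,false,[2,2,2,0,2,0,3,3,0,2,0,2,2,0,2,2,2,0,2]⟩,
    ⟨[(125,true),(102,false),(122,false)],194,true,[3,3,0,3,0,3,0,2,0,3,3,0,3,0,2,2,0,2,2,0,3]⟩,
    ⟨[],243,false,[2,0,3,0,3,3,0,2,2,1]⟩,
    ⟨[(151,false),(343,false)],205,false,[0,2,0,3,3,0,2,2,0,3,3,0,3,0,3,3,0,2,2,2,1]⟩,
    ⟨[(166,false),(140,false)],108,false,[3,0,2,2,2,0,3,3,0,3,0,3,3,0,3,0,2,0,2,1]⟩,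
    ⟨[],167,false,[0,2,2,0,3,3,0,3,0,2,2,0,2,0,3,0,3,0,2,0,2]⟩,
    ⟨[],0,true,[3,3,0,3,3,0,2,0,2,2,0,2,0,3,0,3,0,3,0,2,2]⟩]),
  ([0,0,1,1,1,1,0,1,0,0,0,1], [⟨[(8,false),(9,false),(8,false),(9,true),(9,true),(10,false),(8,false),(9,true),(10,false)],0,false,[3,0,2,2,2,0,2,2,2,0,3,1,3,3]⟩,
    ⟨[(42,true),(48,false)],174,true,[0,2,0,2,0,2,0,3,3,0,2,0,2,2,2,0,3,0,3,3,0,2,1,2,2]⟩,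
    ⟨[(356,false),(358,true)],134,false,[0,2,0,2,2,2,0,2,0,3,3,0,2,0,2,2,0,2,2,0,3]⟩,
    ⟨[(343,true)],147,false,[2,2,0,2,0,2,0,2,2,0,2,2,0,3,0,3,0,3,0,3]⟩,
    ⟨[(343,false),(339,false)],133,false,[0,2,0,2,2,0,3,0,2,2,0,3,0,3,3,0,3,0,2,2,0,3,1,3,3]⟩,
    ⟨[(339,false),(151,false)],326,false,[3,0,3,0,3,3,0,3,3,0,3,0,2,2,0,3,0,2,2,2,1,3,3]⟩,
    ⟨[(356,true)],316,true,[0,2,0,3,3,0,3,0,2,2,0,3,0,2,2,2,0,3,0]⟩,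
    ⟨[(342,false),(333,true)],266,false,[2,0,2,2,0,2,0,3,3,0,3,3,0,2,0,2,2]⟩,
    ⟨[(366,true),(184,false)],163,false,[2,2,0,2,0,3,0,3,0,2,0,2,0,3,0,3,3,0]⟩,
    ⟨[],175,false,[0,2,2,0,2,0,2,2,0,2,2,2,0,2,0,2,2,0,3,0,3,3,0,3,0,2]⟩,
    ⟨[(102,false),(178,false)],5,false,[3,3,0,3,0,3,0,2,0,2,2,0,2,2,2,0,2,0,3]⟩,
    ⟨[],204,false,[0,3,3,0,3,0,2,0,2,0,2,2,0,3,0,2,2,0,3]⟩,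
    ⟨[(342,true)],7,false,[0,2,0,2,0,3,0,2,2,0,3,3,0]⟩,
    ⟨[(355,true),(362,true)],345,false,[3,0,3,3,0,3,3,0,2,0,2,2,0,2,0,2,0,3,1]⟩,
    ⟨[(333,true)],283,false,[0,2,0,2,2,0,2,0,3,3,0,2,0,2,2,2,0,3,1,2,2]⟩,
    ⟨[(122,true),(125,true)],194,true,[0,2,0,2,0,3,3,0,3,3,0,3,0,3,0,2,0,2,2,0,3,1,2]⟩,
    ⟨[(344,false),(333,false)],180,true,[3,0,2,0,3,3,0,3,0,2,2,0,3,0,3,3,0,3,3,0,3,3]⟩,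
    ⟨[(343,true),(151,false),(343,true)],158,false,[2,0,2,0,2,0,3,0,3,0,3,0,2,0,2,2,1]⟩,
    ⟨[(140,false)],108,false,[3,3,0,3,3,0,2,2,0,2,0,2,2,0,3,0,2,2]⟩,
    ⟨[],167,false,[0,2,2,0,2,0,2,0,2,2,0,2,2,0,2,2,0,2,2,0,2,0,2]⟩,
    ⟨[],0,true,[0,2,0,2,2,0,3,3,0,3,3,0,3,0,2,2,0,2,2,2,0]⟩]),
  ([0,0,0,0,1,0,1,0,1,0,0,0], [⟨[(8,false),(9,false),(8,false),(9,true),(9,true),(10,false),(8,false),(9,true),(10,false)],0,false,[3,0,2,2,2,0,2,2,2,0,3,1,3,3]⟩,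
    ⟨[(42,true),(48,false)],174,true,[0,2,0,2,0,2,0,3,3,0,2,0,2,2,2,0,3,0,3,3,0,2,1,2,2]⟩,
    ⟨[(358,false)],51,true,[3,0,2,0,2,2,2,0,3,3,0,2,0,2,2,0,3]⟩,
    ⟨[(140,false)],58,true,[0,3,3,0,2,0,2,0,3,0,3,3,0,3,0,3,3,1,2]⟩,
    ⟨[(206,false),(179,false)],297,true,[3,3,0,2,0,3,3,0,2,2,0,2,0,3,0,3,0,2,1]⟩,
    ⟨[(333,true)],135,false,[2,2,0,2,2,0,3,3,0,3,0,2,0,2,2,0,2,0,2,0]⟩,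
    ⟨[(339,false)],243,true,[0,2,2,0,3,0,3,3,0,3,3,0,3,0,2,2,0,2,0]⟩,
    ⟨[(342,true)],236,false,[3,3,0,3,0,3,3,0,2,0,2,0,2,0,3,0,3,1,2]⟩,
    ⟨[(125,false),(178,false),(122,true)],175,true,[3,0,3,0,3,0,2,0,2,2,0,2,0,3,3,0,2,0,2,2,0,3,1]⟩,
    ⟨[],193,false,[2,0,2,0,3,0,3,0,2,0,2,0,3,0,3,3,0,3,3]⟩,
    ⟨[(344,false),(333,false)],137,false,[3,3,0,3,3,0,2,0,2,0,2,0,3,0,2,2,2]⟩,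
    ⟨[],6,true,[0,2,0,2,0,2,0,3,0,3,0,2,0,2,0,3,0,3,3,1]⟩,
    ⟨[(140,false)],108,false,[2,0,2,2,0,3,3,0,3,0,3,3,0,2,2,2,0]⟩,
    ⟨[],167,false,[3,0,3,0,3,3,0,2,2,0,3,3,0,3,0,2,2,0,2,0,2,2,0]⟩,
    ⟨[],0,true,[3,3,0,3,3,0,2,2,0,3,3,0,3,0,3,3,1,2,2,2]⟩]),
  ([0,0,1,1,0,0,0,0,0,0,0,0], [⟨[(9,true),(9,true),(10,false),(8,false),(8,false)],0,false,[3,3,0,3,0,2,0,2,0,2,0,2,2,0,3,3,0,3,0]⟩,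
    ⟨[(42,true),(42,true),(42,true)],4,false,[3,0,2,0,2,0,3,0,3,3,0,2,0,2,0,3,0,3,0,3,1,2,2]⟩,
    ⟨[(365,false)],217,true,[0,2,2,2,0,2,0,2,2,0,2,0,3,3,0,2,2]⟩,
    ⟨[(333,true)],230,false,[0,2,2,0,2,0,3,0,3,0,3,3,0,2,0,2,2,2,0,2,2,2]⟩,
    ⟨[(343,true),(151,false),(339,false)],6,true,[0,2,0,2,0,2,0,3,0,3,0,2,0,2,0,3,0,3,3,1]⟩,
    ⟨[(140,false)],108,false,[2,0,2,2,0,3,3,0,3,0,3,3,0,2,2,2,0]⟩,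
    ⟨[],167,false,[3,0,3,0,3,3,0,2,2,0,3,3,0,3,0,2,2,0,2,0,2,2,0]⟩,
    ⟨[],0,true,[3,3,0,3,3,0,2,2,0,3,3,0,3,0,3,3,1,2,2,2]⟩])]

/-- vectors of step 12 -/
def orb2_12 : List (List ℕ) := [
  [3,3,3,28,15,2,8,6,10,6,8,25,4,22,27,12,17,21,5,4,6,20,5,15,5,5,5,28,23,1,1,26,20,5,19,23,20,9,28,23,20,1,23,16,25,26,26,26,21,4,3,7,23,20,7,4,7,7,5,7,22,11,7,15,17,26,10,21,3,11,7,14,23,17,5,7,3,0,25,26,3,3,4,14,21,0,0,25,11,3,0,3,0,0,15,0,18,23,8,3,0,3,20,0,15,12,26,0,14,0,0,17,0,0,8,0,0,8,0,17,1,18,23,0,4,21,6,28,15,0,21,0,25],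
  [26,26,26,1,14,27,21,23,19,23,21,4,25,7,2,17,12,8,24,25,23,9,24,14,24,24,24,1,6,28,28,3,9,24,10,6,9,20,1,6,9,28,6,13,4,3,3,3,8,25,26,22,6,9,22,25,22,22,24,22,7,18,22,14,12,3,19,8,26,18,22,15,6,12,24,22,26,0,4,3,26,26,25,15,8,0,0,4,18,26,0,26,0,0,14,0,11,6,21,26,0,26,9,0,14,17,3,0,15,0,0,12,0,0,21,0,0,21,0,12,28,11,6,0,25,8,23,1,14,0,8,0,4]]

/-- relations of step 13 -/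
def rels2_13 : List (List ℕ × List Use) := [
  ([1,1,1,0,1,0,0,1,1,0,1,0,0], [⟨[(10,false),(8,true),(9,false),(10,false),(9,false),(9,false),(10,false),(8,false)],0,false,[3,3,0,2,0,2,2,0,2,0,3,3,0,3,3,0,3,3,0,3,1]⟩,
    ⟨[(42,false),(48,true),(42,false),(48,false)],4,false,[2,0,3,0,2,2,0,3,0,3,3,0,3,0,3,0,2,0,2,0,3,3,0]⟩,
    ⟨[(358,false),(99,false)],154,false,[0,2,0,3,3,0,3,3,0,3,3,0,3,0,2,0,2,2,0]⟩,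
    ⟨[(366,true)],264,true,[2,0,2,0,3,0,2,2,0,3,0,3,3,0,2,0,3,3,1,3]⟩,
    ⟨[(342,true),(344,false),(333,false)],177,false,[3,0,3,0,2,2,0,2,0,3,0,3,0,3,3,0,2,1,3]⟩,
    ⟨[(333,false)],334,false,[0,2,0,3,0,3,0,2,0,2,2,2,0]⟩,
    ⟨[(344,false)],209,false,[0,2,0,3,0,2,2,0,2,2,0,2,2,0,2,0,3,1]⟩,
    ⟨[(140,false)],303,true,[3,3,0,2,0,3,3,0,2,0,2,2,0,2,2,0,2,0,2,0,2]⟩,
    ⟨[(342,true),(344,false)],328,true,[2,0,3,3,0,3,3,0,3,3,0,3,3,0,2,1,2,2,2]⟩,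
    ⟨[(333,true),(344,false),(342,false)],224,false,[2,0,2,2,2,0,3,0,3,0,3,3,0,2,2,0,2]⟩,
    ⟨[(151,false)],158,false,[2,0,2,2,2,0,2,0,2,2,0,3,3,0,3,0,2,2,0,2,1]⟩,
    ⟨[(166,false),(140,false)],108,false,[3,3,0,3,0,2,0,2,0,3,0,3,3,0,2,0,2,1,3]⟩,
    ⟨[],167,false,[0,3,0,2,0,2,0,3,0,2,2,0,2,2,2,1,3]⟩,
    ⟨[],0,true,[2,0,3,3,0,2,0,3,3,0,3,3,0,2,0,2,2,0,3,3,0]⟩]),
  ([1,0,0,1,1,0,0,1,0,0,1,1,1], [⟨[(10,false),(8,true),(9,false),(10,false),(9,false),(9,false),(10,false),(8,false)],0,false,[3,3,0,2,0,2,2,0,2,0,3,3,0,3,3,0,3,3,0,3,1]⟩,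
    ⟨[(42,false),(48,true),(42,false),(48,false)],4,false,[2,0,3,0,2,2,0,3,0,3,3,0,3,0,3,0,2,0,2,0,3,3,0]⟩,
    ⟨[(365,true)],159,false,[3,0,3,3,0,3,3,0,3,3,0,2,0,2,2,0,2,0,2,2,0]⟩,
    ⟨[],171,false,[3,0,2,2,0,2,0,2,2,2,0,2,0,2,1]⟩,
    ⟨[(178,true)],61,false,[0,2,0,3,0,3,0,2,0,2,0,3,0,2,2,0,3,3,0,3,0,2,2]⟩,
    ⟨[(118,false),(118,false),(140,false)],153,false,[0,2,2,0,3,0,2,2,0,2,2,0,2,2,2,0,3]⟩,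
    ⟨[(184,true)],154,false,[0,3,3,0,2,2,0,2,0,3,0,3,0,2,0,3,3,1]⟩,
    ⟨[(365,false)],193,false,[2,2,2,0,2,2,0,3,0,3,3,0,2,0,3,3,0,2,0,2,2,0,3]⟩,
    ⟨[],298,true,[2,2,0,3,3,0,2,2,0,2,0,2,0,2,2,0,2,2,2,0,2,0,3,3]⟩,
    ⟨[],225,false,[0,2,0,2,2,0,2,2,0,3,3,0,2,2,0,2,0,3,3,1,2,2]⟩,
    ⟨[(333,true)],246,true,[0,3,0,2,2,2,0,2,2,0,2,0,2,0,3,0,3,0,3,3]⟩,
    ⟨[],347,true,[0,3,0,3,3,0,3,0,2,2,0,2,0,2,0,3,1,2]⟩,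
    ⟨[(367,true),(355,true)],346,false,[0,3,0,3,0,2,0,2,2,2,0,3,3,0,3,3,0,3,1]⟩,
    ⟨[],236,false,[2,2,0,2,0,2,2,0,2,0,2,0,3,0,2,2,0,2,2,1,3]⟩,
    ⟨[(125,true),(178,true),(122,false)],192,true,[2,2,0,2,0,3,3,0,3,0,3,0,3,3,0,2,2,2,0,3,0,3,3]⟩,
    ⟨[(333,true)],243,false,[2,0,3,0,3,3,0,2,2,1]⟩,
    ⟨[(151,false),(343,false)],205,false,[0,2,0,3,3,0,2,2,0,3,3,0,3,0,3,3,0,2,2,2,1]⟩,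
    ⟨[(166,false),(140,false)],108,false,[3,0,2,2,2,0,3,3,0,3,0,3,3,0,3,0,2,0,2,1]⟩,
    ⟨[],167,false,[0,2,2,0,3,3,0,3,0,2,2,0,2,0,3,0,3,0,2,0,2]⟩,
    ⟨[],0,true,[3,3,0,3,3,0,2,0,2,2,0,2,0,3,0,3,0,3,0,2,2]⟩]),
  ([1,1,1,0,0,1,1,0,1,0,0,1,0], [⟨[(10,false),(8,true),(9,false),(10,false),(9,false),(9,false),(10,false),(8,false)],0,false,[3,3,0,2,0,2,2,0,2,0,3,3,0,3,3,0,3,3,0,3,1]⟩,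
    ⟨[(42,false),(48,true),(42,false),(48,false)],4,false,[2,0,3,0,2,2,0,3,0,3,3,0,3,0,3,0,2,0,2,0,3,3,0]⟩,
    ⟨[(359,false),(99,false)],150,false,[0,2,2,0,2,2,0,2,0,2,0,2,2,0,3,3,0,3,0,2]⟩,
    ⟨[(126,true),(184,true),(99,false)],150,false,[3,0,2,2,2,0,2,2,0,2,2,0,2,2,0,3,1,2,2]⟩,
    ⟨[(365,true)],161,true,[2,0,3,0,3,3,0,3,0,2,2,0,2,0,3,3,0,2,0,2,2,2,0,3,1,3]⟩,
    ⟨[(339,true)],191,false,[3,3,0,3,0,2,2,0,2,2,0,2,2,0,3,0,3]⟩,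
    ⟨[(366,true),(99,true)],163,false,[0,3,0,2,2,0,2,0,3,0,3,0,2,0,2,2,2,0]⟩,
    ⟨[(365,false)],191,true,[2,2,0,3,0,3,0,2,2,2,0,2,2,0,2,1]⟩,
    ⟨[(339,true),(339,true)],155,false,[2,2,0,2,0,2,0,2,2,0,3,3,0,2,0,2,2,1]⟩,
    ⟨[(368,false)],222,true,[0,2,0,2,2,0,2,0,3,0,3,3,1,3]⟩,
    ⟨[],194,false,[0,3,3,0,3,0,3,0,3,3,0,3,3,0,2,0,2,2,1]⟩,
    ⟨[],44,true,[0,2,2,0,2,0,2,2,0,2,0,2,0,2,2,2,0,2,0]⟩,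
    ⟨[(48,false)],13,true,[0,2,0,2,0,3,0,3,3,0,2,2,0,2,0,2,2,0,2,0,2,1,2]⟩,
    ⟨[],0,true,[0,2,0,2,2,2,0,3,0,2,2,0,2,2,0,2,2,0,2,0]⟩]),
  ([0,0,0,1,1,1,1,0,1,0,0,1,0], [⟨[(10,false),(8,true),(9,false),(10,false),(9,false),(9,false),(10,false),(8,false)],0,false,[3,3,0,2,0,2,2,0,2,0,3,3,0,3,3,0,3,3,0,3,1]⟩,
    ⟨[(42,false),(48,true),(42,false),(48,false)],4,false,[2,0,3,0,2,2,0,3,0,3,3,0,3,0,3,0,2,0,2,0,3,3,0]⟩,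
    ⟨[(358,true)],62,false,[0,2,0,2,0,2,0,3,0,3,0,3,3,0,2,2,2,0,2]⟩,
    ⟨[(140,true),(166,true)],244,true,[0,3,0,3,0,3,3,0,3,0,3,0,2,2,2,0,2,2,2,1,2]⟩,
    ⟨[(343,true),(151,false),(343,false)],180,false,[2,0,2,2,0,3,0,3,0,2,0,2,2,2,0,3,0,3,0,3,3]⟩,
    ⟨[(333,true),(344,false)],286,false,[0,2,2,0,3,0,3,0,3,0,3,3,0,3,3,0,2,2,0]⟩,
    ⟨[(333,true)],218,false,[0,3,0,2,2,0,3,3,0,3,0,2,0,2,2,0,3,3,0,2]⟩,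
    ⟨[],229,true,[0,2,0,2,2,0,3,3,0,3,0,3,0,3,3,0,2,2,0,2,0,3,0]⟩,
    ⟨[(343,false),(339,true)],186,false,[0,2,0,2,0,3,3,0,3,0,2,0,2,0,2,2,0,2,2,2,0,2,0,3]⟩,
    ⟨[(140,true),(166,false),(118,true)],158,true,[2,2,0,3,3,0,3,3,0,3,3,0,3,0,2,0,2,0,3,0]⟩,
    ⟨[(343,true),(339,true)],189,false,[2,2,2,0,2,0,2,2,0,3,0,3,0,3,3,0,2,2]⟩,
    ⟨[(358,false)],155,true,[0,2,0,2,2,0,2,0,2,2,2,0,3,3,0,3,0,3,3]⟩,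
    ⟨[(343,false),(339,true)],190,false,[0,2,2,2,0,2,2,2,0,2,0,3,3,0,3,3,0,2,2,2]⟩,
    ⟨[(99,true),(99,true)],222,true,[3,3,0,2,0,2,0,2,2,2,0,3,3,0,3,1]⟩,
    ⟨[],194,false,[0,2,0,2,2,0,3,3,0,2,2,0,2,0,3,0,3,3,1,3]⟩,
    ⟨[(178,true),(122,true)],5,false,[0,3,3,0,3,0,2,2,2,0,3,3,0,3,0,3,0,2,2]⟩,
    ⟨[],204,false,[0,3,3,0,3,0,3,0,2,0,2,0,2,2,0,2,2,2,0,3,3]⟩,
    ⟨[(344,false),(333,false)],346,true,[2,2,0,3,0,3,0,3,0,2,0,2,0,2,0,3,0,3,0,2,1]⟩,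
    ⟨[(363,true),(361,true)],345,false,[3,0,3,0,2,2,2,0,3,3,0,2,0,3,3,0,2,0,2,1,2,2]⟩,
    ⟨[],283,false,[0,2,2,0,3,3,0,3,0,3,0,2,0,2,2,2,0,3,1,2,2]⟩,
    ⟨[(122,true),(125,true)],194,true,[3,0,3,3,0,2,2,0,3,0,3,3,0,2,2,0,2,0,3,3,0]⟩,
    ⟨[(344,false),(333,false)],180,true,[2,0,2,0,3,0,3,0,3,3,0,3,3,0,3,0,3,3,0,2,2]⟩,
    ⟨[(343,true),(151,false),(343,true)],158,false,[0,2,2,0,2,2,0,3,0,3,0,3,0,2,0,3,3,0,2,0,2,2,0,3,3]⟩,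
    ⟨[(140,false)],108,false,[0,2,0,3,0,3,0,3,0,2,0,2,2,0,2,0,3,3,0,3,3,0,2]⟩,
    ⟨[],167,false,[3,0,3,3,0,2,2,0,3,3,0,3,0]⟩,
    ⟨[],0,true,[0,2,0,3,3,0,3,3,0,2,2,0,2,0,2,0,2,2,2,0,3]⟩]),
  ([1,1,1,0,0,0,0,0,1,0,0,1,1], [⟨[(10,false),(8,true),(9,false),(10,false),(9,false),(9,false),(10,false),(8,false)],0,false,[3,3,0,2,0,2,2,0,2,0,3,3,0,3,3,0,3,3,0,3,1]⟩,
    ⟨[(42,false),(48,true),(42,false),(48,false)],4,false,[2,0,3,0,2,2,0,3,0,3,3,0,3,0,3,0,2,0,2,0,3,3,0]⟩,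
    ⟨[(126,false)],210,true,[0,3,0,2,0,2,0,2,2,0,2,2,0,2,2,1,2,2]⟩,
    ⟨[(333,true)],227,true,[0,3,0,2,0,2,0,2,0,3,0,2,2,0,2,2,2,1]⟩,
    ⟨[(343,false),(343,false),(339,true)],230,true,[0,2,0,2,0,3,3,0,2,2,2,0,2,2,0,2]⟩,
    ⟨[(344,false)],187,false,[0,3,0,2,0,2,2,0,2,0,3,3,0,3,0,3,3,0,3,0,2,1]⟩,
    ⟨[(344,false),(342,false)],253,false,[0,2,2,0,2,0,3,3,0,3,3,0,3,0,2,0,2,0,2,2,2]⟩,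
    ⟨[(356,true),(99,true)],134,false,[3,0,3,0,2,0,2,0,2,2,0,2,0,3,0,2,2,0,3,3]⟩,
    ⟨[(151,false),(343,true),(343,true)],197,true,[3,0,3,0,3,0,2,0,3,3,0,3,3,0,3,0,2,2,2,0,2,1]⟩,
    ⟨[(342,true),(333,true)],243,false,[3,3,0,3,0,3,0,3,3,0,3,0,2,2,0,2,0,3,3,1,3]⟩,
    ⟨[(343,false),(151,false),(339,true)],135,true,[0,3,3,0,2,0,2,0,2,2,0,2,0,3,0,3,0]⟩,
    ⟨[(342,true)],277,false,[3,3,0,2,0,3,3,0,2,2,0,2,0,3,3,0,2,0,2,2,1,3,3]⟩,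
    ⟨[],174,false,[3,3,0,2,2,0,3,0,3,3,0,3,0,2,2,0,2,0,3,3,1]⟩,
    ⟨[],0,true,[2,2,0,2,0,2,0,3,0,3,0,2,0,2,2,0,3,0,3,3]⟩]),
  ([1,1,0,0,0,1,0,0,1,0,0,1,0], [⟨[(10,false),(8,true),(9,false),(10,false),(9,false),(9,false),(10,false),(8,false)],0,false,[3,3,0,2,0,2,2,0,2,0,3,3,0,3,3,0,3,3,0,3,1]⟩,
    ⟨[(42,false),(48,true),(42,false),(48,false)],4,false,[2,0,3,0,2,2,0,3,0,3,3,0,3,0,3,0,2,0,2,0,3,3,0]⟩,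
    ⟨[(356,true)],210,true,[3,3,0,3,0,2,2,0,2,0,3,0,3,3,0,3,1,2,2,2]⟩,
    ⟨[(344,false),(342,false),(342,false)],252,false,[0,2,2,0,2,2,0,3,3,0,3,0,3,0,2,2,2,0,3,3,0]⟩,
    ⟨[(342,false),(344,false)],202,false,[0,3,0,2,2,0,2,0,3,0,3,3,0,3,0,2,2,0,2]⟩,
    ⟨[(333,true)],266,false,[0,2,0,2,2,0,2,0,2,2,2,0,3,3,0,3,0,3,0,3]⟩,
    ⟨[(99,false),(126,true)],150,false,[0,2,2,0,3,3,0,3,0,2,2,0,3,0,3,3,0,2,2,2,0]⟩,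
    ⟨[(356,false)],150,false,[2,0,2,0,3,0,3,3,0,2,2,0,2,2,0,2,2,2]⟩,
    ⟨[(366,false),(184,false)],134,false,[0,2,2,0,2,0,2,0,3,0,2,2,2,0,3,0,2,2,1,3]⟩,
    ⟨[(343,false)],165,false,[3,0,3,0,3,0,2,0,2,2,0,2,0,2,2,0,3,1]⟩,
    ⟨[(166,true)],59,true,[0,3,0,3,0,2,0,2,0,3,0,2,2,2,0,2,2,2,0,2,0,3,1]⟩,
    ⟨[(178,false)],44,true,[2,2,2,0,2,2,0,3,0,3,3,0,3,0,2,0,2,0,2,0,2]⟩,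
    ⟨[(48,false)],13,true,[0,3,0,3,0,3,0,2,0,2,0,2,2,2,0,2,2,2,0,3,3]⟩,
    ⟨[],0,true,[2,2,0,2,0,2,2,2,0,3,0,3,0,2,1]⟩]),
  ([0,0,0,0,1,0,1,0,1,0,0,1,0], [⟨[(10,false),(8,true),(9,false),(10,false),(9,false),(9,false),(10,false),(8,false)],0,false,[3,3,0,2,0,2,2,0,2,0,3,3,0,3,3,0,3,3,0,3,1]⟩,
    ⟨[(42,false),(48,true),(42,false),(48,false)],4,false,[2,0,3,0,2,2,0,3,0,3,3,0,3,0,3,0,2,0,2,0,3,3,0]⟩,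
    ⟨[(358,true),(126,false)],208,true,[3,0,3,3,0,2,2,2,0,2,2,0,3,0,3,3,0,2]⟩,
    ⟨[(333,true),(342,false),(342,false)],246,true,[0,2,0,3,3,0,3,0,2,0,2,0,3,3,0,3,0,2,2,0,3,0,2,2,2]⟩,
    ⟨[(342,false),(344,false)],202,true,[0,2,0,3,3,0,2,0,3,3,0,3,3,0,3]⟩,
    ⟨[(333,true),(342,false)],306,false,[0,2,2,2,0,2,0,2,2,0,2]⟩,
    ⟨[(368,true)],155,true,[0,2,2,0,2,0,2,2,0,3,3,0,3,0,3,0,2,0,2,0,3]⟩,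
    ⟨[(339,true)],143,true,[3,3,0,2,2,2,0,2,2,2,0,3,0,2,2,0,3,1,3]⟩,
    ⟨[(343,false),(339,true)],147,true,[3,0,2,0,2,0,3,0,3,3,0,2,0,2,2,0,2,0,2,0,3,1,2,2]⟩,
    ⟨[(339,false),(343,true)],321,false,[2,0,3,3,0,2,0,2,2,2,0,2,2,0,2,0,2,0,3,1]⟩,
    ⟨[(333,true)],192,false,[0,2,0,3,0,2,2,0,2,0,3,0,3,0,3,1,3,3]⟩,
    ⟨[(178,true),(102,false),(178,false),(122,false)],159,true,[2,0,2,0,2,2,0,3,3,0,3,0,2,2,1,3,3]⟩,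
    ⟨[(366,true)],275,true,[0,3,3,0,3,0,2,2,0,3,0,2,2,2,0,3,0,3,0,2,0,2,1,2]⟩,
    ⟨[(342,true),(344,false)],263,true,[2,2,0,2,2,0,3,0,3,3,0,3,0,2,2,0,3,0,3,0,3]⟩,
    ⟨[(339,true)],165,false,[2,2,0,3,0,3,3,0,3,0,2,2,0,2,0,3,3,0,2,1,3,3]⟩,
    ⟨[(140,false)],108,false,[2,2,2,0,2,2,0,2,0,3,3,0,2,0,2,2,2,0,2,2,0,3,1]⟩,
    ⟨[],167,false,[3,0,3,3,0,2,0,2,0,3,0,3,3,0,2,1,2]⟩,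
    ⟨[],0,true,[0,2,0,2,0,3,0,3,0,3,3,0,3,3,0,3,0]⟩]),
  ([1,1,1,1,1,1,1,1,1,1,0,0,0], [⟨[(10,false),(8,true),(9,false),(10,false),(9,false),(9,false),(10,false),(8,false)],0,false,[3,3,0,2,0,2,2,0,2,0,3,3,0,3,3,0,3,3,0,3,1]⟩,
    ⟨[(42,false),(48,true),(42,false),(48,false)],4,false,[2,0,3,0,2,2,0,3,0,3,3,0,3,0,3,0,2,0,2,0,3,3,0]⟩,
    ⟨[(184,false),(99,false)],208,true,[3,0,2,2,2,0,3,0,3,3,0,3,0,2,2,2,0,3]⟩,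
    ⟨[(333,true),(342,false),(342,false)],193,true,[2,0,3,0,3,0,3,3,0,3,3,0,3,0,3,3,0,2,2,0,2]⟩,
    ⟨[(356,true),(184,false)],198,false,[2,2,0,2,0,3,0,2,2,0,2,2,0,2,1,3,3]⟩,
    ⟨[(333,false)],298,true,[0,3,0,2,0,2,0,2,0,3,0,3,0,2,0,2,2,0,2,2,2,0]⟩,
    ⟨[(344,false),(342,false)],271,true,[0,3,0,3,3,0,2,0,2,0,2,2,0,3,3,0,3,0,3,3]⟩,
    ⟨[(342,true),(333,false)],288,true,[2,2,2,0,3,0,2,2,2,0,2,0,3,3,0]⟩,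
    ⟨[(344,false)],240,false,[0,2,0,2,0,2,2,0,3,0,2,2,2,0,2,0,3,0,3,0,3,3,0,3]⟩,
    ⟨[(99,true)],198,false,[3,0,3,3,0,2,2,0,2,0,3,0,2,2,0,3,0,3,3,1,3]⟩,
    ⟨[(342,true)],176,true,[3,0,3,0,2,2,2,0,2,0,3,3,0,3,3,1,2]⟩,
    ⟨[(132,true),(140,true),(118,true)],158,true,[2,0,3,3,0,3,0,2,2,0,3,0,2,2,0,2,0,3,3,0,3,3]⟩,
    ⟨[(339,true)],301,false,[0,2,0,2,2,0,2,0,2,0,3,0,3,0,2,0,2,0,3,0,2,2]⟩,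
    ⟨[(99,false)],222,true,[3,3,0,2,2,0,2,2,0,3,3,0,2,2,0,3,3,1,3,3]⟩,
    ⟨[],194,false,[3,3,0,2,0,2,0,2,2,0,2,2,0,2,2,0,3,3]⟩,
    ⟨[(178,true),(122,true)],5,false,[0,2,2,0,2,2,0,3,0,3,3,0,2,2,0,2,0,3,0,3,1,3]⟩,
    ⟨[],204,false,[0,2,0,2,2,2,0,3,0,3,3,0,2,2,0,2,0,3,3,0,2]⟩,
    ⟨[(344,false),(333,false)],346,true,[0,2,2,0,3,0,3,0,3,3,0,3,0,2,0,2,0]⟩,
    ⟨[(360,false),(367,true)],348,false,[2,0,2,0,2,0,3,0,3,0,2,2,0,2,2,0,2,2,1,3,3]⟩,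
    ⟨[(344,false)],283,false,[0,2,0,2,2,0,2,0,2,2,2,0,3,3,0,3,3,0,2,1,2]⟩,
    ⟨[(122,true),(125,true)],194,true,[2,0,3,0,3,3,0,3,0,2,0,2,0,3,0,3,3,0,2,2,0,3,1,2]⟩,
    ⟨[(344,false)],293,false,[3,0,2,2,0,2,0,3,0,3,0,3,3,0,3,3,0,2]⟩,
    ⟨[(343,false)],259,false,[0,3,3,0,2,0,2,0,3,0,3,3,0,2,0,2,2,1,2,2,2]⟩,
    ⟨[(140,false)],108,false,[2,0,2,0,3,0,2,2,0,3,3,0,3,0,2,0,2,0,3,0,2,2,0]⟩,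
    ⟨[],167,false,[3,0,2,2,2,0,3,3,0,3,0,3,3,0,3,0,2,1,2,2]⟩,
    ⟨[],0,true,[3,3,0,2,2,0,3,3,0,2,2,0,2,2,0,2,0,2,0,3,0,3]⟩]),
  ([0,1,0,1,0,0,1,0,0,1,0,0,1], [⟨[(10,false),(8,true),(9,false),(10,false),(9,false),(9,false),(10,false),(8,false)],0,false,[3,3,0,2,0,2,2,0,2,0,3,3,0,3,3,0,3,3,0,3,1]⟩,
    ⟨[(42,false),(48,true),(42,false),(48,false)],4,false,[2,0,3,0,2,2,0,3,0,3,3,0,3,0,3,0,2,0,2,0,3,3,0]⟩,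
    ⟨[(368,true)],210,true,[0,2,0,2,2,0,2,0,3,3,0,2,0,2,2,0,3,3,0,2,0,3]⟩,
    ⟨[(344,false),(333,true)],248,true,[0,3,3,0,2,2,0,2,2,0,2,2,0,3,0,2]⟩,
    ⟨[(333,false),(344,false)],335,false,[2,2,0,3,0,2,2,0,2,2,0,3,0,2,2,2,1,3]⟩,
    ⟨[(344,false)],260,true,[3,0,2,0,2,0,3,0,3,0,2,2,2,0,2,0,2,2,2,1]⟩,
    ⟨[(342,true),(344,false),(333,false)],177,false,[0,2,2,0,2,0,2,2,0,3,3,0,3,0,3,0,3,3,0,3,0,2,0,2]⟩,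
    ⟨[(333,true),(344,false)],234,false,[0,3,0,3,3,0,2,0,2,0,3,0,3,0,3,1,2,2,2]⟩,
    ⟨[(356,false)],211,true,[3,0,2,0,3,3,0,3,0,2,0,2,0,3,3,0,3,0,3]⟩,
    ⟨[],236,false,[2,2,2,0,2,2,0,2,0,3,0,3,0,2,2,0,2,0,2,1,2]⟩,
    ⟨[(125,false),(122,false),(125,false)],159,true,[2,2,0,3,0,3,0,3,3,0,2,0,3,3,0,2,0,2,0]⟩,
    ⟨[(366,true)],275,true,[2,0,3,0,3,3,0,2,2,0,2,2,0,3,0,3,3,0,2,0]⟩,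
    ⟨[(344,false)],164,false,[0,3,0,2,2,0,2,0,2,0,3,0,2,2,0,2,2,1,3,3]⟩,
    ⟨[(343,false),(151,false),(343,false)],162,false,[2,2,2,0,3,0,2,2,0,3,3,0,3,0,3,0,2]⟩,
    ⟨[(140,false)],108,false,[0,3,0,3,0,3,0,2,0,3,3,0,3,0,2,0,2,2,0,2,2,0]⟩,
    ⟨[],167,false,[2,2,2,0,2,0,3,3,0,3,0,3,0,2,0,2,2,2,0,2,0,2,0]⟩,
    ⟨[],0,true,[0,2,2,0,2,0,2,0,3,0,2,2,2,0,3,0,3,3,0,2,2]⟩]),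
  ([0,0,0,0,0,1,0,1,1,0,1,1,1], [⟨[(10,false),(8,true),(9,false),(10,false),(9,false),(9,false),(10,false),(8,false)],0,false,[3,3,0,2,0,2,2,0,2,0,3,3,0,3,3,0,3,3,0,3,1]⟩,
    ⟨[(42,false),(48,true),(42,false),(48,false)],4,false,[2,0,3,0,2,2,0,3,0,3,3,0,3,0,3,0,2,0,2,0,3,3,0]⟩,
    ⟨[(359,true),(126,true)],208,true,[0,2,2,0,2,2,0,2,0,2,0,3,0,2,2,2,0,2,1]⟩,
    ⟨[(333,false),(342,true)],192,false,[3,3,0,2,2,0,3,0,2,2,0,2,2,0,3,1,3]⟩,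
    ⟨[(125,true),(122,true),(125,false)],159,true,[2,0,2,0,2,0,3,0,3,3,0,2,2,2,0,2,2,0,2,1,3]⟩,
    ⟨[(365,false),(99,false)],210,true,[2,2,0,3,0,3,0,3,0,2,0,3,3,0,2,2,0,2,0,3,0,3]⟩,
    ⟨[],346,true,[3,3,0,3,0,2,0,2,0,3,0,2,2,0,2,0,3,0]⟩,
    ⟨[(369,true),(362,true)],351,false,[0,2,0,2,2,0,2,0,2,0,3,0,2,2,2,0,2,2,1,2]⟩,
    ⟨[(363,true),(355,true)],7,true,[0,3,0,3,0,3,3,0,3,0,2,2,0,3,0,2,2,0,2,2]⟩,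
    ⟨[(333,true)],312,true,[2,2,0,3,3,0,2,0,2,2,0,2,2,0,3,1,3,3]⟩,
    ⟨[(344,false),(342,false),(342,false)],177,false,[2,2,2,0,3,0,3,0,2,0,2,0,2,2,2,0,2,0,2,1]⟩,
    ⟨[(333,false)],293,false,[0,2,2,0,3,0,3,3,0,2,0,2,2,0,2,0,2,2,0,3,1,2]⟩,
    ⟨[(343,true),(339,true)],190,false,[0,2,0,2,0,2,0,2,2,0,3,3,0,3,0,2,0,2,0,2,2,0]⟩,
    ⟨[(356,true),(358,true)],198,false,[0,2,2,0,3,3,0,2,2,0,2,0,2,0,3,0,3,0,2,2,0,2,0,2]⟩,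
    ⟨[(344,false)],289,false,[2,0,3,0,3,3,0,2,2,0,2,0,2,0,3,0,2,2,1]⟩,
    ⟨[(166,false)],83,true,[0,3,3,0,2,0,3,3,0,2,0,2,2,0,3,0,3,3,0,3,0,2,1]⟩,
    ⟨[(178,false)],44,true,[0,2,2,0,3,0,3,0,2,0,3,3,0,2,2,0,2,0,3,3,0,3,1]⟩,
    ⟨[(48,false)],13,true,[0,3,0,3,3,0,2,0,3,3,0,2,0,2,2,0,3,0,3]⟩,
    ⟨[],0,true,[2,0,3,3,0,3,3,0,2,2,0,2,2,0,2,2,1,2,2,2]⟩]),
  ([1,1,1,1,0,1,0,0,0,0,1,0,1], [⟨[(10,false),(8,true),(9,false),(10,false),(9,false),(9,false),(10,false),(8,false)],0,false,[3,3,0,2,0,2,2,0,2,0,3,3,0,3,3,0,3,3,0,3,1]⟩,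
    ⟨[(42,false),(48,true),(42,false),(48,false)],4,false,[2,0,3,0,2,2,0,3,0,3,3,0,3,0,3,0,2,0,2,0,3,3,0]⟩,
    ⟨[(366,true)],193,false,[0,2,2,0,3,0,2,2,2,0,2,0,2,2,0,3,3]⟩,
    ⟨[(333,true),(344,false),(333,false)],335,true,[0,0,2,2,2]⟩,
    ⟨[],203,false,[0,2,0,2,2,0,3,0,3,0,2,0,2,0,2,0,3,0,3,1,3]⟩,
    ⟨[(359,true),(126,false)],253,true,[0,3,3,0,2,0,3,3,0,3,3,0,3,0,3]⟩,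
    ⟨[(344,false)],290,false,[3,0,3,0,2,0,2,0,2,0,2,2,0,3,3,0,2,1]⟩,
    ⟨[(184,false),(365,true)],208,true,[0,2,0,2,2,0,2,2,0,2,0,2,0,3,0,3,3,0,2]⟩,
    ⟨[(333,false),(344,false)],250,false,[0,2,2,2,0,3,3,0,2,0,2,2,0,2,0,3,3,0,2,1,2,2,2]⟩,
    ⟨[(344,false)],192,false,[3,3,0,3,0,3,3,0,3,3,0,3,0,3,0,2,2]⟩,
    ⟨[(178,true),(125,true),(122,false),(125,false)],159,true,[3,0,2,0,2,0,3,0,2,2,0,2,2,0,3,0,2,2,0,3]⟩,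
    ⟨[(366,true)],275,true,[2,2,0,2,2,0,2,2,0,3,0,2,2,2,0,2,1,3]⟩,
    ⟨[(344,false),(333,false)],207,false,[2,0,3,3,0,3,0,2,2,0,2,2,0,2,2,2,0,3,0,3,1,2]⟩,
    ⟨[(339,true),(343,true),(339,true)],259,false,[0,3,3,0,2,0,2,0,3,0,3,3,0,2,0,2,2,1,2,2,2]⟩,
    ⟨[(140,false)],108,false,[2,0,2,0,3,0,2,2,0,3,3,0,3,0,2,0,2,0,3,0,2,2,0]⟩,
    ⟨[],167,false,[3,0,2,2,2,0,3,3,0,3,0,3,3,0,3,0,2,1,2,2]⟩,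
    ⟨[],0,true,[3,3,0,2,2,0,3,3,0,2,2,0,2,2,0,2,0,2,0,3,0,3]⟩]),
  ([0,0,1,1,0,0,1,0,0,0,0,1,0], [⟨[(10,false),(8,true),(9,false),(10,false),(9,false),(9,false),(10,false),(8,false)],0,false,[3,3,0,2,0,2,2,0,2,0,3,3,0,3,3,0,3,3,0,3,1]⟩,
    ⟨[(42,false),(48,true),(42,false),(48,false)],4,false,[2,0,3,0,2,2,0,3,0,3,3,0,3,0,3,0,2,0,2,0,3,3,0]⟩,
    ⟨[],231,true,[2,0,3,3,0,2,2,0,2,0,3,0,2,2,0,3,0,3,3,1]⟩,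
    ⟨[(339,false)],220,false,[3,0,2,0,3,3,0,3,3,0,2,0,2,2,2,0,3,0,3,3,0]⟩,
    ⟨[(333,true)],336,false,[3,0,2,2,0,3,0,3,3,0,3,0,2,2,0,3,0,3,3,0,2,2,2]⟩,
    ⟨[(357,false),(357,false),(99,false)],150,false,[3,3,0,3,3,0,3,0,3,0,2,0,2,2,2,0,3,0,2,2,0,2]⟩,
    ⟨[(368,true)],203,true,[0,2,0,2,0,2,0,3,0,2,2,0,2,2,2,0,3,0,2,2,0,3,1]⟩,
    ⟨[],192,false,[0,2,2,2,0,2,2,0,2,0,3,0,2,2,0,2,2,0,3,3,1]⟩,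
    ⟨[(178,false),(102,false)],159,true,[2,2,2,0,3,0,2,2,0,3,3,0,3,0,3,1,2,2,2]⟩,
    ⟨[(366,true)],275,true,[3,0,2,2,2,0,3,0,3,3,0,3,0,2,2,1,2,2,2]⟩,
    ⟨[(344,false),(333,false)],207,false,[2,2,0,3,0,3,3,0,2,2,0,2,0,3,3,0,3]⟩,
    ⟨[(343,true),(343,true)],158,false,[2,0,2,0,2,0,3,0,3,0,3,0,2,0,2,2,1]⟩,
    ⟨[(140,false)],108,false,[3,3,0,3,3,0,2,2,0,2,0,2,2,0,3,0,2,2]⟩,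
    ⟨[],167,false,[0,2,2,0,2,0,2,0,2,2,0,2,2,0,2,2,0,2,2,0,2,0,2]⟩,
    ⟨[],0,true,[0,2,0,2,2,0,3,3,0,3,3,0,3,0,2,2,0,2,2,2,0]⟩]),
  ([0,0,0,0,1,0,1,0,0,0,0,0,0], [⟨[(10,false),(8,true),(9,false),(10,false),(9,false),(9,false),(10,false),(8,false)],0,false,[3,3,0,2,0,2,2,0,2,0,3,3,0,3,3,0,3,3,0,3,1]⟩,
    ⟨[(42,false),(48,true),(42,false),(48,false)],4,false,[2,0,3,0,2,2,0,3,0,3,3,0,3,0,3,0,2,0,2,0,3,3,0]⟩,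
    ⟨[(358,false)],163,false,[2,2,2,0,2,2,0,3,3,0,2,2,0,2,2,0,3,3,0]⟩,
    ⟨[(358,true),(99,false)],163,false,[2,2,0,3,0,3,3,0,2,0,2,0,3,0,3,3,0,3,3,1]⟩,
    ⟨[(368,true)],203,true,[2,0,2,2,0,2,0,3,0,3,0,3,3,0,2,2,0,3,3,1]⟩,
    ⟨[(342,true)],194,false,[0,2,2,0,3,3,0,2,2,0,2,2,0,3,0,3,3,0,2,2,0]⟩,
    ⟨[(178,false)],159,true,[0,2,0,3,0,2,2,0,2,0,2,2,0,3,3,0,2,2,2,0]⟩,
    ⟨[(366,true)],275,true,[3,0,2,2,2,0,3,0,2,2,0,3,0,2,2,2,0,3,0,3,0,2]⟩,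
    ⟨[(344,false),(333,false)],207,false,[3,0,2,0,2,2,0,2,2,2,0,2,0,3,0,3,0,2,1]⟩,
    ⟨[(339,true),(151,false)],165,false,[2,0,3,3,0,3,0,2,0,2,0,2,2,0,2,2,0,2,2,1]⟩,
    ⟨[(166,false),(140,false)],108,false,[2,0,2,2,0,3,3,0,2,0,2,2,0,2,2,0]⟩,
    ⟨[],167,false,[0,2,0,2,0,3,0,3,3,0,3,0,2,2,0,2,2,0,2,0,2,2]⟩,
    ⟨[],0,true,[0,2,2,0,3,0,2,2,2,0,2,0,2,2,0,3,3,0,3,0,2,2]⟩]),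
  ([1,0,1,1,0,1,1,0,0,1,0,1,1], [⟨[(9,true),(10,false),(8,false),(9,false),(8,false),(9,false),(9,false),(9,false),(10,false),(8,false)],0,false,[0,3,0,2,0,3,3,0,3,0,3,3,1,2,2]⟩,
    ⟨[(48,true),(42,true),(48,true),(42,true),(48,false),(42,true)],174,true,[3,3,0,2,2,2,0,2,2,0,2,0,2,0,3,0,3,0,2,2,1,2]⟩,
    ⟨[(366,true),(126,false)],208,true,[3,0,2,2,2,0,2,0,3,3,0,3,0,2,2,0,3]⟩,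
    ⟨[(333,true)],227,true,[2,2,0,2,0,3,0,3,0,3,3,0,2,0,2,0,2,2,1,3]⟩,
    ⟨[(343,true),(339,true),(339,true)],317,true,[0,3,0,3,3,0,3,3,0,2,2,0,3,3,0,3,0,2,2,0]⟩,
    ⟨[(333,false),(344,false)],293,false,[2,2,0,2,0,2,2,2,0,3,0,3,0,2,0,2,0,2]⟩,
    ⟨[(339,false),(339,false)],301,false,[0,2,0,2,0,2,0,3,0,2,2,0,2,0,3,3,0,3,3,0,3,0,3]⟩,
    ⟨[(184,false),(126,false),(126,false)],150,false,[0,3,0,2,2,2,0,2,0,2,0,3,0,3,0,2,1,2]⟩,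
    ⟨[(99,true),(358,true),(99,false)],150,false,[0,3,3,0,2,2,0,2,2,0,2,0,3,3,0,3,3]⟩,
    ⟨[(99,false),(184,true)],155,true,[0,2,2,0,3,0,3,0,2,0,2,2,0,2,0,2,0,2,2,2,1,3]⟩,
    ⟨[(151,false),(343,false),(343,false)],134,true,[3,0,2,2,2,0,2,2,0,3,0,2,2,0,2,1]⟩,
    ⟨[(368,true)],274,true,[2,2,0,2,2,0,3,0,3,3,0,3,0,2,2,2,1,3]⟩,
    ⟨[],233,false,[0,2,0,2,2,0,2,0,2,0,3,0,2,2,0,2,1]⟩,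
    ⟨[(178,true),(178,true),(122,false)],175,true,[0,3,0,3,0,2,0,3,3,0,3,0,2,0,2,0,2,2,2]⟩,
    ⟨[],193,false,[3,0,2,0,2,2,2,0,3,3,0,3,0,3,0,2,0,2,0,3]⟩,
    ⟨[(342,true)],230,false,[3,0,2,0,2,2,0,3,0,2,2,0,3,0,3,3,0,2,1,2]⟩,
    ⟨[(343,true),(339,false)],186,false,[0,3,0,2,0,2,0,3,3,0,3,0,3,3,0,3,1,3]⟩,
    ⟨[(140,false)],108,false,[2,2,0,2,0,3,3,0,2,0,2,2,0,3,0,3,3]⟩,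
    ⟨[],167,false,[3,3,0,2,2,0,2,0,3,3,0,3,0,2,2,0,3,1]⟩,
    ⟨[],0,true,[0,2,2,0,3,0,3,3,0,2,2,0,2,0,3,0,3,3,0,3]⟩])]

/-- vectors of step 13 -/
def orb2_13 : List (List ℕ) := [
  [3,3,3,28,15,2,8,6,10,6,8,25,4,22,27,12,17,21,5,4,6,20,5,15,5,5,5,28,23,1,1,26,20,5,19,23,20,9,28,23,20,1,23,16,25,26,26,26,21,4,3,7,23,20,7,4,7,7,5,7,22,11,7,15,17,26,10,21,3,11,7,14,23,17,5,7,3,0,25,26,3,3,4,14,21,0,0,25,11,3,0,3,0,0,15,0,18,23,8,3,0,3,20,0,15,12,26,0,14,0,0,17,0,0,8,0,0,8,0,17,1,18,23,0,4,21,6,28,15,0,21,0,25],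
  [26,26,26,1,14,27,21,23,19,23,21,4,25,7,2,17,12,8,24,25,23,9,24,14,24,24,24,1,6,28,28,3,9,24,10,6,9,20,1,6,9,28,6,13,4,3,3,3,8,25,26,22,6,9,22,25,22,22,24,22,7,18,22,14,12,3,19,8,26,18,22,15,6,12,24,22,26,0,4,3,26,26,25,15,8,0,0,4,18,26,0,26,0,0,14,0,11,6,21,26,0,26,9,0,14,17,3,0,15,0,0,12,0,0,21,0,0,21,0,12,28,11,6,0,25,8,23,1,14,0,8,0,4],
  [3,2,3,6,2,22,4,7,24,7,7,6,2,13,18,4,18,27,15,23,7,16,19,27,9,9,19,21,14,5,5,20,10,24,24,24,7,21,21,20,10,5,14,12,15,1,1,23,6,8,2,14,18,2,24,8,24,16,4,14,25,25,16,1,24,0,6,27,2,25,6,6,18,27,4,6,2,0,26,26,26,26,3,21,15,6,23,26,11,20,0,4,0,0,8,0,18,0,14,3,0,26,26,0,14,12,25,7,8,0,0,17,0,6,21,22,0,15,23,18,23,12,0,1,3,14,22,0,21,0,8,1,26],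
  [26,27,26,23,27,7,25,22,5,22,22,23,27,16,11,25,11,2,14,6,22,13,10,2,20,20,10,8,15,24,24,9,19,5,5,5,22,8,8,9,19,24,15,17,14,28,28,6,23,21,27,15,11,27,5,21,5,13,25,15,4,4,13,28,5,0,23,2,27,4,23,23,11,2,25,23,27,0,3,3,3,3,26,8,14,23,6,3,18,9,0,25,0,0,21,0,11,0,15,26,0,3,3,0,15,17,4,22,21,0,0,12,0,23,8,7,0,14,6,11,6,17,0,28,26,15,7,0,8,0,21,28,3]]

end CfsgLib.Sporadic.HNLower
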