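import Cfsg.Agent.Lib.Sporadic.HNLower.Rows0
import Cfsg.Agent.Lib.Sporadic.HNLower.Rows1
import Cfsg.Agent.Lib.Sporadic.HNRep.Hom

/-!
# Row vectors under words of letters (owner: helper25)
-/

set_option autoImplicit false
set_option maxRecDepth 20000

namespace CfsgLib.Sporadic.HNLower

open Matrix CfsgLib.Sporadic.HNRep

/-- the packed rows of a letter -/
noncomputable def prow (x : ℕ) : List ℕ :=
  cond (Nat.beq x 0) prow0 (cond (Nat.beq x 1) prow1 (cond (Nat.beq x 2) prow2 (cond (Nat.beq x 3) prow3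
    (cond (Nat.beq x 4) prow4 (cond (Nat.beq x 5) prow5 (cond (Nat.beq x 6) prow6 prow7))))))

/-- the slots of a packed number -/
noncomputable def unpack (n : ℕ) : ℕ → List ℕ :=
  Nat.rec (motive := fun _ => ℕ → List ℕ) (fun _ => [])
    (fun _ ih z => strict (Nat.land z 4294967295) fun a => strict (Nat.shiftRight z 32) fun z' => a :: ih z') n

theorem unpack_packF : ∀ (n : ℕ) (f : Fin n → ℕ), (∀ i, f i < 2 ^ 32) → unpack n (packF n f) = List.ofFn f
  | 0, _, _ => rfl
  | n + 1, f, hf => by
    show strict (Nat.land (packF (n + 1) f) 4294967295)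
      (fun a => strict (Nat.shiftRight (packF (n + 1) f) 32) fun z' => a :: unpack n z') = _
    rw [strict_eq, strict_eq]
    have h0 := hf 0
    have h1 : Nat.land (packF (n + 1) f) 4294967295 = f 0 := by
      show packF (n + 1) f &&& (2 ^ 32 - 1) = f 0
      rw [Nat.and_two_pow_sub_one_eq_mod, packF]
      omega
    have h2 : Nat.shiftRight (packF (n + 1) f) 32 = packF n fun i => f i.succ := by
      show packF (n + 1) f >>> 32 = _
      rw [Nat.shiftRight_eq_div_pow, packF]
      omega
    rw [h1, h2, unpack_packF n _ fun i => hf i.succ, List.ofFn_succ]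

/-- side conditions on a vector -/
noncomputable def vOK (v : List ℕ) : Bool := Nat.beq v.length 133 && v.all fun a => Nat.blt a 29

/-- the vector of a list -/
def toRow (v : List ℕ) : Fin 133 → ZMod 29 := fun i => (v.getD i.val 0 : ℕ)

/-- a vector times a letter -/
noncomputable def vmul (v : List ℕ) (x : ℕ) : List ℕ := unpack 133 (red mask (dot v (prow x)))

/-- a vector times a word -/
noncomputable def vword (v : List ℕ) (w : List ℕ) : List ℕ := w.foldl vmul v

theorem prow_eq {x : ℕ} (hx : x < 8) : prow x = enc (mat x) := by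
  have h : dmul mask (mats x) idEnc = enc (mat x) := by
    rw [← enc_one, show mask = maskN 133 from rfl, dmul_enc le_rfl (len_of_lt hx), mul_one]
    rfl
  rw [← h]
  interval_cases x
  exacts [prow0_eq.symm, prow1_eq.symm, prow2_eq.symm, prow3_eq.symm, prow4_eq.symm, prow5_eq.symm,
    prow6_eq.symm, prow7_eq.symm]

theorem vmul_eq {v : List ℕ} (hv : vOK v = true) {x : ℕ} (hx : x < 8) :
    vOK (vmul v x) = true ∧ toRow (vmul v x) = toRow v ᵥ* mat x := by
  simp only [vOK, Bool.and_eq_true, Nat.beq_eq, List.all_eq_true, Nat.blt_eq] at hv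
  obtain ⟨hl, hlt⟩ := hv
  have hb : ∀ j : Fin 133, ∑ k : Fin 133, v.getD k.val 0 * (mat x k j).val ≤ 118000 := fun j => by
    refine le_trans (Finset.sum_le_sum (g := fun _ => 28 * 28) fun k _ => ?_) ?_
    · refine Nat.mul_le_mul ?_ (Nat.le_of_lt_succ (ZMod.val_lt _))
      rw [List.getD_eq_getElem _ _ (by omega)]
      have := hlt _ (List.getElem_mem (l := v) (n := k.val) (by omega))
      omega
    · simp only [Finset.sum_const, Finset.card_univ, Fintype.card_fin, smul_eq_mul]
      omega
  have e : vmul v x = List.ofFn fun j : Fin 133 => (∑ k : Fin 133, v.getD k.val 0 * (mat x k j).val) % 29 := by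
    rw [vmul, prow_eq hx, enc, dot_ofFn 133 v 133 _ hl, show mask = maskN 133 from rfl, red_packF _ hb,
      unpack_packF _ _ fun i => lt_of_lt_of_le (Nat.mod_lt _ (by norm_num)) (by norm_num)]
  refine ⟨?_, ?_⟩
  · rw [e]
    simp only [vOK, Bool.and_eq_true, Nat.beq_eq, List.length_ofFn, List.all_eq_true, Nat.blt_eq, true_and]
    intro a ha
    rw [List.mem_ofFn'] at ha
    obtain ⟨j, rfl⟩ := ha
    exact Nat.mod_lt _ (by norm_num)
  · funext j
    rw [e]
    simp only [toRow, Matrix.vecMul, dotProduct]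
    rw [List.getD_eq_getElem _ _ (by simp), List.getElem_ofFn, ZMod.natCast_mod, Nat.cast_sum]
    refine Finset.sum_congr rfl fun k _ => ?_
    simp [Nat.cast_mul]

theorem vword_eq : ∀ {w : List ℕ} {v : List ℕ}, vOK v = true → (∀ x ∈ w, x < 8) →
    vOK (vword v w) = true ∧ toRow (vword v w) = toRow v ᵥ* (w.map mat).prod
  | [], v, hv, _ => ⟨hv, by simp [vword]⟩
  | x :: w, v, hv, hw => by
    obtain ⟨h1, h2⟩ := vmul_eq hv (hw x List.mem_cons_self)
    obtain ⟨h3, h4⟩ := vword_eq (w := w) h1 fun y hy => hw y (List.mem_cons_of_mem _ hy)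
    refine ⟨h3, ?_⟩
    rw [show vword v (x :: w) = vword (vmul v x) w from rfl, h4, h2, vecMul_vecMul, List.map_cons, List.prod_cons]

theorem toRow_inj {u v : List ℕ} (hu : vOK u = true) (hv : vOK v = true) (h : toRow u = toRow v) : u = v := by
  simp only [vOK, Bool.and_eq_true, Nat.beq_eq, List.all_eq_true, Nat.blt_eq] at hu hv
  refine List.ext_getElem (by omega) fun i h1 h2 => ?_
  have h' := congrFun h ⟨i, by omega⟩
  simp only [toRow, List.getD_eq_getElem _ _ h1, List.getD_eq_getElem _ _ h2] at h'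
  rw [ZMod.natCast_eq_natCast_iff', Nat.mod_eq_of_lt (hu.2 _ (List.getElem_mem h1)),
    Nat.mod_eq_of_lt (hv.2 _ (List.getElem_mem h2))] at h'
  exact h'

end CfsgLib.Sporadic.HNLower
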